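import Cfsg.Agent.Lib.ExtraNine.Pair

/-!
The data attached to a conjugate of the central involution inside the extraspecial subgroup.
-/

namespace CfsgLib.ExtraNine

open Subgroup Cfsg CfsgLib.LargeExtra

/-- What a conjugate inside the extraspecial subgroup gives on the coordinates. -/
structure PairData {V : Type*} [AddCommGroup V] (S : QV V) (H : Subgroup (Equiv.Perm V)) (v : V) where
  W : AddSubgroup V
  Bb : Subgroup (Equiv.Perm V)
  le : Bb ≤ H
  v_mem : v ∈ W
  v_ne : v ≠ 0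
  singular : ∀ w ∈ W, S.q w = 0
  invol : ∀ b ∈ Bb, b * b = 1
  fixed : ∀ b ∈ Bb, b v = v
  perp_map : ∀ b ∈ Bb, ∀ u, S.B v u = 0 → b u + u ∈ W
  W_map : ∀ b ∈ Bb, ∀ w ∈ W, b w = w ∨ b w = w + v
  card_Bb : Nat.card Bb * Nat.card W = 128
  card_ker : Nat.card {b : Equiv.Perm V // b ∈ Bb ∧ ∀ w ∈ W, b w = w} * Nat.card W ^ 2 = 256
  perp : Nat.card W = 16 → ∀ u, (∀ w ∈ W, S.B w u = 0) → u ∈ W
  stab : ∀ m ∈ H, m v = v → (∀ w ∈ W, m w ∈ W) ∧ ∀ b ∈ Bb, m * b * m⁻¹ ∈ Bb

theorem card_map_mul_inf {M P : Type*} [Group M] [Group P] (f : M →* P) (L : Subgroup M) :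
    Nat.card (L.map f) * Nat.card (L ⊓ f.ker : Subgroup M) = Nat.card L := by
  have h2 : (f.comp L.subtype).ker = (L ⊓ f.ker).subgroupOf L := by
    ext y; simp [mem_subgroupOf, y.2]
  have h3 := Subgroup.card_eq_card_quotient_mul_card_subgroup (f.comp L.subtype).ker
  rw [Nat.card_congr (QuotientGroup.quotientKerEquivRange (f.comp L.subtype)).toEquiv, h2,
    Nat.card_congr (subgroupOfEquivOfLe (inf_le_left : L ⊓ f.ker ≤ L)).toEquiv,
    MonoidHom.range_comp, Subgroup.range_subtype] at h3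
  exact h3.symm

variable {G : Type*} [Group G] [Finite G] {V : Type*} [AddCommGroup V] [Fintype V] (N : Nine G V)

theorem Nine.pairHyp {g : G} (hx : g * N.z * g⁻¹ ∈ N.Q) (hne : g * N.z * g⁻¹ ≠ N.z) :
    PairHyp N.Q N.z g :=
  ⟨N.F.extra, N.F.centre, N.F.ord, N.F.self, N.F.normal, hx, hne⟩

/-- The centralizer of a subgroup of `Q` containing `z` has the complementary order in `Q`. -/
theorem Nine.card_centralizer (M : Subgroup G) (hM : M ≤ N.Q) (hz : N.z ∈ M) :
    Nat.card (N.Q ⊓ centralizer (M : Set G) : Subgroup G) * Nat.card M = 1024 := by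
  have hZ : center ↥N.Q ≤ M.subgroupOf N.Q := by
    intro c hc
    rw [mem_subgroupOf]
    rcases zpowers_two_cases N.F.ord (c : G) (by rw [← N.F.centre]; exact ⟨c, hc, rfl⟩) with h | h <;>
      rw [h]
    exacts [one_mem _, hz]
  have h := card_centralizer_mul_card N.F.extra _ hZ
  rw [N.F.extra.2, N.card, Nat.card_congr (subgroupOfEquivOfLe hM).toEquiv] at h
  have e : (centralizer ((M.subgroupOf N.Q : Subgroup ↥N.Q) : Set ↥N.Q)).map N.Q.subtype =
      N.Q ⊓ centralizer (M : Set G) := by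
    ext y
    constructor
    · rintro ⟨c, hc, rfl⟩
      refine ⟨c.2, mem_centralizer_iff.2 fun m hm => ?_⟩
      exact congrArg Subtype.val (mem_centralizer_iff.1 hc ⟨m, hM hm⟩ hm)
    · rintro ⟨hy, hc⟩
      exact ⟨⟨y, hy⟩, mem_centralizer_iff.2 fun m hm => Subtype.ext (mem_centralizer_iff.1 hc m hm), rfl⟩
  rw [← e, card_map_of_injective N.Q.subtype_injective]
  exact h

theorem Nine.exists_pairData {g : G} (hx : g * N.z * g⁻¹ ∈ N.Q) (hne : g * N.z * g⁻¹ ≠ N.z) :
    ∃ d : PairData N.S N.ρ.range (N.π ⟨g * N.z * g⁻¹, hx⟩),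
      ∀ a : ↥N.Q, N.π a ∈ d.W ↔ (a : G) ∈ N.Q.map (MulAut.conj g).toMonoidHom := by
  classical
  have h := N.pairHyp hx hne
  set z := N.z with hzdef
  set x := g * z * g⁻¹ with hxdef
  set Qg := N.Q.map (MulAut.conj g).toMonoidHom with hQg
  have hzg : z ∈ Qg := h.automizer.2
  let Wsub : Subgroup ↥N.Q := Qg.subgroupOf N.Q
  let W : AddSubgroup V :=
    { carrier := {w | ∃ a ∈ Wsub, N.π a = w}
      zero_mem' := ⟨1, one_mem _, N.π_one⟩
      add_mem' := by
        rintro _ _ ⟨a, ha, rfl⟩ ⟨b, hb, rfl⟩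
        exact ⟨a * b, mul_mem ha hb, N.π_mul a b⟩
      neg_mem' := by
        rintro _ ⟨a, ha, rfl⟩
        exact ⟨a, ha, (neg_eq_of_add_eq_zero_left (N.S.two _)).symm⟩ }
  have hWiff : ∀ a : ↥N.Q, N.π a ∈ W ↔ (a : G) ∈ Qg := by
    intro a
    refine ⟨?_, fun ha => ⟨a, ha, rfl⟩⟩
    rintro ⟨b, hb, hab⟩
    rcases N.π_eq hab with e | e <;> rw [e]
    exacts [hb, mul_mem hb hzg]
  set E : Subgroup G := N.Q ⊓ Qg with hE
  have hEW : Nat.card E = 2 * Nat.card W := by
    let s : W → ↥N.Q := fun w => w.2.choose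
    have hs : ∀ w : W, (s w : G) ∈ Qg ∧ N.π (s w) = (w : V) := fun w =>
      ⟨w.2.choose_spec.1, w.2.choose_spec.2⟩
    let Ψ : Bool × W → E := fun p => if p.1 then ⟨s p.2 * z, mul_mem (s p.2).2 N.z_mem,
      mul_mem (hs _).1 hzg⟩ else ⟨s p.2, (s p.2).2, (hs _).1⟩
    have hΨ : ∀ p, ∀ hp : ((Ψ p : E) : G) ∈ N.Q, N.π ⟨Ψ p, hp⟩ = p.2.1 := by
      rintro ⟨b, w⟩ hp
      cases b
      · exact (hs w).2
      · show N.π (s w * ⟨z, N.z_mem⟩) = _
        rw [N.π_mul, N.π_z, add_zero, (hs w).2]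
    have hb : Function.Bijective Ψ := by
      constructor
      · rintro ⟨b, w⟩ ⟨b', w'⟩ e
        have e1 := hΨ (b, w) (Ψ (b, w)).2.1
        have e2 := hΨ (b', w') (Ψ (b', w')).2.1
        obtain rfl : w = w' := Subtype.ext (by rw [← e1, ← e2]; simp only [e])
        have e' : (Ψ (b, w) : G) = Ψ (b', w) := congrArg Subtype.val e
        cases b <;> cases b' <;> simp [Ψ] at e' ⊢
        · exact N.z_ne e'
        · exact N.z_ne e'
      · rintro ⟨y, hy, hy'⟩
        let w : W := ⟨N.π ⟨y, hy⟩, (hWiff ⟨y, hy⟩).2 hy'⟩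
        rcases N.π_eq (a := s w) (b := ⟨y, hy⟩) (hs w).2 with e | e
        · exact ⟨(false, w), Subtype.ext e.symm⟩
        · exact ⟨(true, w), Subtype.ext e.symm⟩
    rw [← Nat.card_congr (Equiv.ofBijective Ψ hb), Nat.card_prod, Nat.card_eq_fintype_card,
      Fintype.card_bool]
  -- the centralizer in the conjugate
  set Bp : Subgroup G := Qg ⊓ centralizer ({z} : Set G) with hBp
  have hBpH : Bp ≤ centralizer ({N.z} : Set G) := inf_le_right
  let BpM : Subgroup (centralizer ({N.z} : Set G)) := Bp.subgroupOf _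
  have hmapcent : ∀ M : Subgroup G, M ≤ Qg → x ∈ M →
      Nat.card (Qg ⊓ centralizer (M : Set G) : Subgroup G) * Nat.card M = 1024 := by
    intro M hM hxM
    have hM' : M.map (MulAut.conj g⁻¹).toMonoidHom ≤ N.Q := by
      rintro _ ⟨m, hm, rfl⟩
      have := PairHyp.mem_map_iff.1 (hM hm)
      simpa using this
    have hzM : N.z ∈ M.map (MulAut.conj g⁻¹).toMonoidHom := ⟨x, hxM, by simp [hxdef, hzdef, mul_assoc]⟩
    have hc := N.card_centralizer _ hM' hzM
    rw [card_map_of_injective (MulEquiv.injective _)] at hc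
    have e : (Qg ⊓ centralizer (M : Set G)).map (MulAut.conj g⁻¹).toMonoidHom =
        N.Q ⊓ centralizer ((M.map (MulAut.conj g⁻¹).toMonoidHom : Subgroup G) : Set G) := by
      ext y
      constructor
      · rintro ⟨w, ⟨hw, hwc⟩, rfl⟩
        refine ⟨by simpa using PairHyp.mem_map_iff.1 hw, mem_centralizer_iff.2 ?_⟩
        rintro _ ⟨m, hm, rfl⟩
        simp only [MulEquiv.coe_toMonoidHom, MulAut.conj_apply, inv_inv]
        calc g⁻¹ * m * g * (g⁻¹ * w * g) = g⁻¹ * (m * w) * g := by group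
          _ = g⁻¹ * (w * m) * g := by rw [mem_centralizer_iff.1 hwc m hm]
          _ = _ := by group
      · rintro ⟨hy, hyc⟩
        refine ⟨g * y * g⁻¹, ⟨PairHyp.mem_map_iff.2 (by simpa [mul_assoc] using hy), mem_centralizer_iff.2 ?_⟩,
          by simp [mul_assoc]⟩
        intro m hm
        have hh := mem_centralizer_iff.1 hyc _ (mem_map_of_mem _ hm)
        simp only [MulEquiv.coe_toMonoidHom, MulAut.conj_apply, inv_inv] at hh
        calc m * (g * y * g⁻¹) = g * (g⁻¹ * m * g * y) * g⁻¹ := by group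
          _ = g * (y * (g⁻¹ * m * g)) * g⁻¹ := by rw [hh]
          _ = g * y * g⁻¹ * m := by group
    rw [← e, card_map_of_injective (MulEquiv.injective _)] at hc
    exact hc
  have hBpcard : Nat.card Bp = 256 := by
    have hxz : x * z = z * x := h.xz
    let M : Subgroup G := closure ({z, x} : Set G)
    have hzM : z ∈ M := subset_closure (Set.mem_insert _ _)
    have hxM : x ∈ M := subset_closure (Set.mem_insert_of_mem _ rfl)
    have hMg : M ≤ Qg := (closure_le _).2 (by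
      rintro y (rfl | rfl)
      exacts [hzg, h.x_mem_map])
    have hc := hmapcent M hMg hxM
    have hBpeq : Qg ⊓ centralizer (M : Set G) = Bp := by
      ext y
      constructor
      · rintro ⟨h1, h2⟩
        exact ⟨h1, mem_centralizer_singleton_iff.2 (mem_centralizer_iff.1 h2 z hzM).symm⟩
      · rintro ⟨h1, h2⟩
        refine ⟨h1, ?_⟩
        show y ∈ centralizer ((closure ({z, x} : Set G) : Subgroup G) : Set G)
        rw [PairHyp.mem_centralizer_V]
        exact ⟨mem_centralizer_singleton_iff.1 h2, h.map_comm h1⟩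
    have hM4 : Nat.card M = 4 := by
      have hxg : x ≠ z := hne
      have hx1 : x ≠ 1 := h.x_ne_one
      have hz1 : z ≠ 1 := N.z_ne
      have e : (M : Set G) = (({1, z, x, z * x} : Finset G) : Set G) := by
        ext y
        constructor
        · intro hy
          rcases h.V_cases hy with e | e | e | e <;> rw [e] <;>
            simp [hxdef, hzdef]
        · intro hy
          simp only [Finset.coe_insert, Finset.coe_singleton, Set.mem_insert_iff, Set.mem_singleton_iff] at hy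
          rcases hy with rfl | rfl | rfl | rfl
          exacts [one_mem _, hzM, hxM, mul_mem hzM hxM]
      rw [← SetLike.coe_sort_coe, e]
      simp only [Finset.coe_sort_coe, Nat.card_eq_fintype_card, Fintype.card_coe]
      have h1 : z * x ≠ 1 := fun e => hxg (by
        rw [← inv_eq_of_mul_eq_one_right e, inv_eq_of_mul_eq_one_left (show z * z = 1 from N.zz)])
      rw [Finset.card_insert_of_notMem, Finset.card_insert_of_notMem, Finset.card_pair] <;>
        simp [hz1.symm, hx1.symm, h1.symm, hxg.symm, hx1]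
      exact hz1
    rw [hBpeq, hM4] at hc
    omega
  have hkerρ : ∀ b : centralizer ({N.z} : Set G), b ∈ N.ρ.ker ↔ (b : G) ∈ N.Q := fun b =>
    MonoidHom.mem_ker.trans (N.ρ_eq_one_iff b)
  have hinf : BpM ⊓ N.ρ.ker = E.subgroupOf _ := by
    ext b
    constructor
    · rintro ⟨hb, hb'⟩
      exact ⟨(hkerρ b).1 hb', (mem_subgroupOf.1 hb).1⟩
    · rintro ⟨hb, hb'⟩
      exact ⟨⟨hb', b.2⟩, (hkerρ b).2 hb⟩
  have hEle : E ≤ centralizer ({N.z} : Set G) := inf_le_left.trans N.F.le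
  have hcardB : Nat.card (BpM.map N.ρ) * Nat.card W = 128 := by
    have h1 := card_map_mul_inf N.ρ BpM
    rw [hinf, Nat.card_congr (subgroupOfEquivOfLe hEle).toEquiv,
      Nat.card_congr (subgroupOfEquivOfLe hBpH).toEquiv, hBpcard, hEW] at h1
    rw [mul_left_comm] at h1
    omega
  have hEelem : ∀ a ∈ E, a * a = 1 := fun a ha => h.E_sq a ha
  have hEcomm : ∀ a ∈ E, ∀ b ∈ E, a * b = b * a := fun a ha b hb => h.E_comm a ha b hb
  have hBcent : ∀ b ∈ Bp, b ∈ centralizer ((closure ({z, x} : Set G) : Subgroup G) : Set G) := fun b hb =>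
    (h.mem_B_iff.1 hb).2
  refine ⟨⟨W, BpM.map N.ρ, ?_, (hWiff _).2 h.x_mem_map, ?_, ?_, ?_, ?_, ?_, ?_, hcardB, ?_, ?_, ?_⟩, hWiff⟩
  · rintro _ ⟨b, -, rfl⟩; exact ⟨b, rfl⟩
  · intro e
    rcases (N.ker_iff _).1 e with e' | e'
    · exact h.x_ne_one e'
    · exact hne e'
  · rintro _ ⟨a, ha, rfl⟩
    by_contra hq
    have e := N.sq a
    rw [if_neg hq, hEelem a ⟨a.2, ha⟩] at e
    exact N.z_ne e.symm
  · rintro _ ⟨b, hb, rfl⟩
    rw [← map_mul, N.ρ_eq_one_iff, coe_mul]
    rcases h.map_sq_cases (mem_subgroupOf.1 hb).1 with e | e <;> rw [e]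
    exacts [one_mem _, hx]
  · rintro _ ⟨b, hb, rfl⟩
    rw [N.ρ_π]
    congr 1
    refine Subtype.ext ?_
    show (b : G) * x * (b : G)⁻¹ = x
    rw [h.map_comm (mem_subgroupOf.1 hb).1, mul_inv_cancel_right]
  · rintro _ ⟨b, hb, rfl⟩ u hu
    obtain ⟨a, rfl⟩ := N.surj u
    have hcomm : (a : G) * x = x * a := ((N.B_eq_zero_iff ⟨x, hx⟩ a).1 hu).symm
    have hbC := hBcent b (mem_subgroupOf.1 hb)
    have haA : (a : G) ∈ centralizer ((closure ({z, x} : Set G) : Subgroup G) : Set G) :=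
      PairHyp.mem_centralizer_V.2 ⟨N.z_comm a.2, hcomm⟩
    rw [N.ρ_π, ← N.π_inv a, ← N.π_mul]
    refine (hWiff _).2 ?_
    show (b : G) * a * (b : G)⁻¹ * (a : G)⁻¹ ∈ Qg
    rw [mul_assoc, mul_assoc]
    refine mul_mem (mem_subgroupOf.1 hb).1 ?_
    rw [← mul_assoc]
    exact (mem_normalizer_iff.1 (h.centralizer_V_normalizes haA).2 _).1 (inv_mem (mem_subgroupOf.1 hb).1)
  · rintro _ ⟨b, hb, rfl⟩ _ ⟨a, ha, rfl⟩
    rw [N.ρ_π]
    rcases h.map_comm_cases (mem_subgroupOf.1 hb).1 ha with e | e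
    · left; congr 1; exact Subtype.ext (mul_inv_eq_one.1 e)
    · right
      have e' : (⟨b * a * b⁻¹, N.conj_mem b.2 a⟩ : ↥N.Q) = ⟨x, hx⟩ * a :=
        Subtype.ext (eq_mul_of_mul_inv_eq e)
      rw [e', N.π_mul, add_comm]
  · -- the kernel on `W`
    set CE : Subgroup G := Qg ⊓ centralizer (E : Set G) with hCE
    have hc := hmapcent E inf_le_right ⟨hx, h.x_mem_map⟩
    have hCEle : CE ≤ centralizer ({N.z} : Set G) := fun y hy =>
      mem_centralizer_singleton_iff.2 (mem_centralizer_iff.1 hy.2 z ⟨N.z_mem, hzg⟩).symm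
    have hinf' : CE.subgroupOf (centralizer ({N.z} : Set G)) ⊓ N.ρ.ker = E.subgroupOf _ := by
      ext b
      constructor
      · rintro ⟨hb, hb'⟩
        exact ⟨(hkerρ b).1 hb', (mem_subgroupOf.1 hb).1⟩
      · rintro ⟨hb, hb'⟩
        exact ⟨⟨hb', mem_centralizer_iff.2 fun a ha => hEcomm a ha b ⟨hb, hb'⟩⟩, (hkerρ b).2 hb⟩
    have h1 := card_map_mul_inf N.ρ (CE.subgroupOf (centralizer ({N.z} : Set G)))
    rw [hinf', Nat.card_congr (subgroupOfEquivOfLe hEle).toEquiv,
      Nat.card_congr (subgroupOfEquivOfLe hCEle).toEquiv] at h1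
    rw [← hCE, ← h1, hEW] at hc
    have e : Nat.card {b : Equiv.Perm V // b ∈ BpM.map N.ρ ∧ ∀ w ∈ W, b w = w} =
        Nat.card ((CE.subgroupOf (centralizer ({N.z} : Set G))).map N.ρ) := by
      refine Nat.card_congr (Equiv.subtypeEquivRight fun b => ?_)
      constructor
      · rintro ⟨⟨b, hb, rfl⟩, hbW⟩
        refine ⟨b, ⟨(mem_subgroupOf.1 hb).1, mem_centralizer_iff.2 fun a ha => ?_⟩, rfl⟩
        have hπ := hbW _ ((hWiff ⟨a, ha.1⟩).2 ha.2)
        rw [N.ρ_π] at hπ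
        have hbg : (b : G) ∈ Qg := (mem_subgroupOf.1 hb).1
        have hcase : (b : G) * a * (b : G)⁻¹ = a ∨ (b : G) * a * (b : G)⁻¹ = a * z := by
          rcases N.π_eq hπ.symm with e | e
          exacts [.inl e, .inr e]
        have hab : (b : G) * a * (b : G)⁻¹ * a⁻¹ = 1 := by
          rcases h.map_comm_cases hbg ha.2 with e1 | e1
          · exact e1
          · exfalso
            rcases hcase with e2 | e2
            · exact h.x_ne_one (by rw [← e1, e2, mul_inv_cancel])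
            · exact hne (e1.symm.trans (by rw [e2, N.z_comm ha.1, mul_inv_cancel_right]))
        exact (mul_inv_eq_iff_eq_mul.1 (mul_inv_eq_one.1 hab)).symm
      · rintro ⟨b, hb, rfl⟩
        have hb' := mem_subgroupOf.1 hb
        refine ⟨⟨b, ⟨hb'.1, b.2⟩, rfl⟩, ?_⟩
        rintro _ ⟨a, ha, rfl⟩
        rw [N.ρ_π]
        congr 1
        refine Subtype.ext ?_
        show (b : G) * a * (b : G)⁻¹ = a
        rw [← mem_centralizer_iff.1 hb'.2 a ⟨a.2, ha⟩, mul_inv_cancel_right]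
    rw [e]
    generalize Nat.card ((CE.subgroupOf (centralizer ({N.z} : Set G))).map N.ρ) = K at hc ⊢
    generalize Nat.card W = n at hc ⊢
    ring_nf at hc ⊢
    omega
  · intro hW u hu
    obtain ⟨a, rfl⟩ := N.surj u
    have hc := N.card_centralizer E inf_le_left ⟨N.z_mem, hzg⟩
    rw [hEW, hW] at hc
    have heq : E = N.Q ⊓ centralizer (E : Set G) :=
      eq_of_le_of_card_ge (fun y hy => ⟨hy.1, mem_centralizer_iff.2 fun e he => hEcomm e he y hy⟩) (by
        rw [hEW, hW]; omega)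
    refine (hWiff a).2 ?_
    have : (a : G) ∈ N.Q ⊓ centralizer (E : Set G) := ⟨a.2, mem_centralizer_iff.2 fun e he => by
      exact (N.B_eq_zero_iff ⟨e, he.1⟩ a).1 (hu _ ((hWiff ⟨e, he.1⟩).2 he.2))⟩
    rw [← heq] at this
    exact this.2
  · -- the stabilizer
    rintro _ ⟨m, rfl⟩ hm
    rw [N.ρ_π] at hm
    obtain ⟨m', hm'x, hm'ρ⟩ : ∃ m' : centralizer ({N.z} : Set G),
        (m' : G) * x = x * m' ∧ N.ρ m' = N.ρ m := by
      rcases N.π_eq hm.symm with e | e
      · exact ⟨m, mul_inv_eq_iff_eq_mul.1 e, rfl⟩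
      · obtain ⟨q, hq, hqx⟩ := h.automizer.1
        refine ⟨⟨q, N.F.le hq⟩ * m, ?_, ?_⟩
        · have hqz : q * z * q⁻¹ = z := N.conj_z (N.F.le hq)
          show q * (m : G) * x = x * (q * m)
          calc q * (m : G) * x = q * ((m : G) * x * (m : G)⁻¹) * q⁻¹ * (q * m) := by group
            _ = q * (x * z) * q⁻¹ * (q * m) := by rw [show (m : G) * x * (m : G)⁻¹ = x * z from e]
            _ = (q * x * q⁻¹) * (q * z * q⁻¹) * (q * m) := by group
            _ = x * (q * m) := by rw [hqx, hqz, mul_assoc z x z, h.xz, ← mul_assoc z z x, N.zz, one_mul]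
        · rw [map_mul, (N.ρ_eq_one_iff ⟨q, N.F.le hq⟩).2 hq, one_mul]
    rw [← hm'ρ]
    have hmV : (m' : G) ∈ centralizer ((closure ({z, x} : Set G) : Subgroup G) : Set G) :=
      PairHyp.mem_centralizer_V.2 ⟨mem_centralizer_singleton_iff.1 m'.2, hm'x⟩
    have hmN := (h.centralizer_V_normalizes hmV).2
    refine ⟨?_, ?_⟩
    · rintro _ ⟨a, ha, rfl⟩
      rw [N.ρ_π]
      exact (hWiff _).2 ((mem_normalizer_iff.1 hmN a).1 ha)
    · rintro _ ⟨b, hb, rfl⟩
      refine ⟨m' * b * m'⁻¹, ?_, by simp⟩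
      refine mem_subgroupOf.2 ⟨?_, (m' * b * m'⁻¹).2⟩
      exact (mem_normalizer_iff.1 hmN b).1 (mem_subgroupOf.1 hb).1

end CfsgLib.ExtraNine
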