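import Cfsg.Agent.Lib.ExtraNine.Sp4

/-!
Point and line stabilizers in the four-dimensional symplectic group over the field with two elements.
-/

namespace CfsgLib.ExtraNine

/-- The pairs which can be the images of the last two basis vectors when the first and third are fixed. -/
def pairStab : List (I4 × I4) :=
  (allV.filter fun x => decide (om e1 x = 1 ∧ om x e2 = 0)).flatMap fun x =>
    (allV.filter fun y => decide (om e1 y = 0 ∧ om x y = 0 ∧ om e2 y = 1)).map fun y => (x, y)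

theorem pairStab_length : pairStab.length = 8 := by decide +kernel

/-- At most eight isometries fix an isotropic pair. -/
theorem card_fix_pair {a b : I4} (ha : a ≠ 0) (hb : b ≠ 0) (hab : a ≠ b) (h : om a b = 0) :
    Nat.card {t : Equiv.Perm I4 // t ∈ SpG ∧ t a = a ∧ t b = b} ≤ 8 := by
  classical
  obtain ⟨u, hu, hua, hub⟩ := exists_map_pair ha hb hab h
  let f : {t : Equiv.Perm I4 // t ∈ SpG ∧ t a = a ∧ t b = b} → pairStab.toFinset := fun t =>
    ⟨((u⁻¹ * t.1 * u : Equiv.Perm I4) f1, (u⁻¹ * t.1 * u : Equiv.Perm I4) f2), by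
      have ht : u⁻¹ * t.1 * u ∈ SpG := mul_mem (mul_mem (inv_mem hu) t.2.1) hu
      have h1 : (u⁻¹ * t.1 * u : Equiv.Perm I4) e1 = e1 := by
        show u⁻¹ (t.1 (u e1)) = e1
        rw [hua, t.2.2.1, Equiv.Perm.inv_eq_iff_eq, hua]
      have h2 : (u⁻¹ * t.1 * u : Equiv.Perm I4) e2 = e2 := by
        show u⁻¹ (t.1 (u e2)) = e2
        rw [hub, t.2.2.2, Equiv.Perm.inv_eq_iff_eq, hub]
      obtain ⟨g1, g2, g3, g4, g5, g6, -⟩ := basis_forms
      rw [List.mem_toFinset]
      simp only [pairStab, List.mem_flatMap, List.mem_map, List.mem_filter, decide_eq_true_eq]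
      refine ⟨_, ⟨mem_allV _, ?_, ?_⟩, _, ⟨mem_allV _, ?_, ?_, ?_⟩, rfl⟩
      · conv_lhs => arg 1; rw [← h1]
        rw [ht.2]; exact g1
      · conv_lhs => arg 2; rw [← h2]
        rw [ht.2]; exact g3
      · conv_lhs => arg 1; rw [← h1]
        rw [ht.2]; exact g4
      · rw [ht.2]; exact g5
      · conv_lhs => arg 1; rw [← h2]
        rw [ht.2]; exact g6⟩
  have hinj : Function.Injective f := by
    rintro ⟨t, ht, hta, htb⟩ ⟨t', ht', hta', htb'⟩ e
    have e' := congrArg Subtype.val e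
    simp only [f, Prod.mk.injEq] at e'
    have heq : u⁻¹ * t * u = u⁻¹ * t' * u :=
      eq_of_basis (mul_mem (mul_mem (inv_mem hu) ht) hu) (mul_mem (mul_mem (inv_mem hu) ht') hu)
        (by simp only [Equiv.Perm.mul_apply, hua, hta, hta']) e'.1
        (by simp only [Equiv.Perm.mul_apply, hub, htb, htb']) e'.2
    exact Subtype.ext (mul_left_cancel (mul_right_cancel heq))
  refine (Nat.card_le_card_of_injective f hinj).trans ?_
  rw [Nat.card_eq_fintype_card, Fintype.card_coe]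
  exact pairStab_length ▸ List.toFinset_card_le _

/-- An element of order three fixing the first hyperbolic pair. -/
def rotFun : I4 → I4 := frameFun e1 f1 f2 (e2 + f2)

/-- A radical element of the point stabilizer. -/
def radFun : I4 → I4 := frameFun e1 (f1 + e2) e2 (f2 + e1)

/-- The commutator of the two. -/
def comFun (u : I4) : I4 := rotFun (radFun (rotFun (rotFun (radFun u))))

theorem rot_frame : om e1 f1 = 1 ∧ om e1 f2 = 0 ∧ om f1 f2 = 0 ∧ om e1 (e2 + f2) = 0 ∧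
    om f1 (e2 + f2) = 0 ∧ om f2 (e2 + f2) = 1 := by decide

theorem rad_frame : om e1 (f1 + e2) = 1 ∧ om e1 e2 = 0 ∧ om (f1 + e2) e2 = 0 ∧ om e1 (f2 + e1) = 0 ∧
    om (f1 + e2) (f2 + e1) = 0 ∧ om e2 (f2 + e1) = 1 := by decide

theorem rot_rad_facts : (∀ u, rotFun (rotFun (rotFun u)) = u) ∧ (∀ u, radFun (radFun u) = u) ∧
    rotFun e1 = e1 ∧ radFun e1 = e1 := by decide

/-- The vector of the perpendicular hyperplane obtained from any vector. -/
def stabW (u : I4) : I4 := if om u e1 = 0 then u else comFun u + u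

/-- The span of the first basis vector and the orbit of a perpendicular vector. -/
def stabList (u : I4) : List I4 :=
  [0, e1, stabW u, rotFun (stabW u), e1 + stabW u, e1 + rotFun (stabW u), stabW u + rotFun (stabW u),
    e1 + (stabW u + rotFun (stabW u))]

theorem span_check : ∀ u i : I4, u = 0 ∨ u = e1 ∨ om i e1 = 1 ∨ i ∈ stabList u := by
  decide +kernel

theorem frame_eq {a a' b b' : I4} {t : Equiv.Perm I4} (ht : t ∈ SpG) (q1 : t e1 = a) (q2 : t f1 = a')
    (q3 : t e2 = b) (q4 : t f2 = b') : ∀ u, t u = frameFun a a' b b' u := by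
  intro u
  conv_lhs => rw [decomp u, ht.1, ht.1, ht.1]
  simp only [frameFun, apply_ite t, q1, q2, q3, q4, map_zero_of_mem ht]

theorem sq_of_order_three {t : Equiv.Perm I4} (h : ∀ u, t (t (t u)) = u) : t = (t * t) * (t * t) := by
  refine Equiv.ext fun u => ?_
  simp [h]

/-- A subgroup invariant under the squares and commutators fixing a point and containing another vector
contains the perpendicular hyperplane. -/
theorem perp_le {a : I4} (ha : a ≠ 0) (U : Set I4) (h0 : (0 : I4) ∈ U) (haU : a ∈ U)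
    (hadd : ∀ u ∈ U, ∀ w ∈ U, u + w ∈ U)
    (hinv : ∀ t ∈ SpG, t a = a → ((∃ s ∈ SpG, t = s * s) ∨ ∃ s ∈ SpG, ∃ r ∈ SpG, t = s * r * s⁻¹ * r⁻¹) →
      ∀ u ∈ U, t u ∈ U)
    {c : I4} (hc : c ∈ U) (hc0 : c ≠ 0) (hca : c ≠ a) : ∀ i, om i a = 0 → i ∈ U := by
  obtain ⟨T, hT, hTa⟩ := exists_map_point ha
  obtain ⟨a1, a2, a3, a4, a5, a6⟩ := rot_frame
  obtain ⟨g, hg, q1, q2, q3, q4⟩ := exists_frame a1 a2 a3 a4 a5 a6
  obtain ⟨b1, b2, b3, b4, b5, b6⟩ := rad_frame
  obtain ⟨r, hr, p1, p2, p3, p4⟩ := exists_frame b1 b2 b3 b4 b5 b6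
  have hgf : ∀ u, g u = rotFun u := frame_eq hg q1 q2 q3 q4
  have hrf : ∀ u, r u = radFun u := frame_eq hr p1 p2 p3 p4
  obtain ⟨k1, k2, k3, k4⟩ := rot_rad_facts
  have hg3 : ∀ u, g (g (g u)) = u := fun u => by rw [hgf, hgf, hgf, k1]
  have hginv : ∀ u, g⁻¹ u = rotFun (rotFun u) := fun u => by
    rw [Equiv.Perm.inv_eq_iff_eq, ← hgf, ← hgf, hg3]
  have hrinv : ∀ u, r⁻¹ u = radFun u := fun u => by rw [Equiv.Perm.inv_eq_iff_eq, hrf, k2]
  have hTinv : T⁻¹ a = e1 := by rw [Equiv.Perm.inv_eq_iff_eq, hTa]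
  set U' : Set I4 := {u | T u ∈ U} with hU'
  have hmem : ∀ u w, u ∈ U' → w ∈ U' → u + w ∈ U' := fun u w hu hw => by
    show T (u + w) ∈ U
    rw [hT.1]; exact hadd _ hu _ hw
  have hrot : ∀ u ∈ U', rotFun u ∈ U' := by
    intro u hu
    show T (rotFun u) ∈ U
    have := hinv (T * g * T⁻¹) (mul_mem (mul_mem hT hg) (inv_mem hT))
      (by show T (g (T⁻¹ a)) = a; rw [hTinv, q1, hTa])
      (.inl ⟨T * (g * g) * T⁻¹, mul_mem (mul_mem hT (mul_mem hg hg)) (inv_mem hT), by
        rw [show T * (g * g) * T⁻¹ * (T * (g * g) * T⁻¹) = T * ((g * g) * (g * g)) * T⁻¹ by group,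
          ← sq_of_order_three hg3]⟩) (T u) hu
    rw [Equiv.Perm.mul_apply, Equiv.Perm.mul_apply, Equiv.Perm.inv_eq_iff_eq.2 rfl, hgf] at this
    exact this
  have hcom : ∀ u ∈ U', comFun u ∈ U' := by
    intro u hu
    show T (comFun u) ∈ U
    have := hinv (T * (g * r * g⁻¹ * r⁻¹) * T⁻¹)
      (mul_mem (mul_mem hT (mul_mem (mul_mem (mul_mem hg hr) (inv_mem hg)) (inv_mem hr))) (inv_mem hT))
      (by
        show T (g (r (g⁻¹ (r⁻¹ (T⁻¹ a))))) = a
        rw [hTinv, hrinv, k4, hginv, k3, k3, hrf, k4, hgf, k3, hTa])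
      (.inr ⟨T * g * T⁻¹, mul_mem (mul_mem hT hg) (inv_mem hT), T * r * T⁻¹,
        mul_mem (mul_mem hT hr) (inv_mem hT), by group⟩) (T u) hu
    simp only [Equiv.Perm.mul_apply] at this
    rw [Equiv.Perm.inv_eq_iff_eq.2 (rfl : T u = T u), hrinv, hginv, hrf, hgf] at this
    exact this
  intro i hi
  have hT0 := map_zero_of_mem hT
  have hc' : T⁻¹ c ∈ U' := by
    show T (T⁻¹ c) ∈ U
    rw [← Equiv.Perm.inv_eq_iff_eq.1 (rfl : T⁻¹ c = T⁻¹ c)]; exact hc
  have hi' : om (T⁻¹ i) e1 = 0 := by rw [← hTinv, (inv_mem hT).2]; exact hi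
  rcases span_check (T⁻¹ c) (T⁻¹ i) with e | e | e | e
  · exact absurd ((Equiv.Perm.inv_eq_iff_eq.1 e).trans hT0) hc0
  · exact absurd ((Equiv.Perm.inv_eq_iff_eq.1 e).trans hTa) hca
  · rw [hi'] at e; exact absurd e zero_ne_one
  · have hwU : stabW (T⁻¹ c) ∈ U' := by
      unfold stabW; split_ifs
      exacts [hc', hmem _ _ (hcom _ hc') hc']
    have h1 : e1 ∈ U' := by show T e1 ∈ U; rw [hTa]; exact haU
    have hiU : T⁻¹ i ∈ U' := by
      have hmem0 : (0 : I4) ∈ U' := by show T 0 ∈ U; rw [hT0]; exact h0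
      have h2 := hrot _ hwU
      simp only [stabList, List.mem_cons, List.not_mem_nil, or_false] at e
      rcases e with h | h | h | h | h | h | h | h <;> rw [h]
      exacts [hmem0, h1, hwU, h2, hmem _ _ h1 hwU, hmem _ _ h1 h2, hmem _ _ hwU h2,
        hmem _ _ h1 (hmem _ _ hwU h2)]
    have hiU' : T (T⁻¹ i) ∈ U := hiU
    rwa [← Equiv.Perm.inv_eq_iff_eq.1 (rfl : T⁻¹ i = T⁻¹ i)] at hiU'

end CfsgLib.ExtraNine
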