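import Cfsg.Agent.Lib.ExtraNine.Tensor
import Cfsg.Agent.Lib.ExtraNine.Conj
import Cfsg.Agent.Lib.ExtraNine.Sp4Stab

/-!
A conjugate of the central involution inside the extraspecial subgroup forces the tensor decomposition,
lies in one of the three summands, and meets its summand in the hyperplane perpendicular to it.
-/

namespace CfsgLib.ExtraNine

variable {V : Type*} [AddCommGroup V] [Fintype V] {S : QV V} {H : Subgroup (Equiv.Perm V)}
  {D : Equiv.Perm V} {v : V}

/-- The kernel of a restriction has index at most two. -/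
theorem card_le_two_mul {K : Type*} [Group K] [Finite K] (K₀ : Subgroup K)
    (h : ∀ b c : K, b ∉ K₀ → c ∉ K₀ → b⁻¹ * c ∈ K₀) : Nat.card K ≤ 2 * Nat.card K₀ := by
  classical
  by_cases hall : ∀ b, b ∈ K₀
  · have : K₀ = ⊤ := (Subgroup.eq_top_iff' _).2 hall
    rw [this, Subgroup.card_top]
    omega
  push Not at hall
  obtain ⟨b₁, hb₁⟩ := hall
  let f : K → Bool × K₀ := fun b => if hb : b ∈ K₀ then (false, ⟨b, hb⟩) else
    (true, ⟨b₁⁻¹ * b, h b₁ b hb₁ hb⟩)
  have hf : Function.Injective f := by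
    intro a b e
    by_cases ha : a ∈ K₀ <;> by_cases hb : b ∈ K₀ <;> simp [f, ha, hb] at e
    · exact e
    · exact e
  have := Nat.card_le_card_of_injective f hf
  rwa [Nat.card_prod, Nat.card_eq_fintype_card (α := Bool), Fintype.card_bool] at this

theorem PairData.card_W_le (d : PairData S H v) : Nat.card d.W ≤ 16 := by
  have h := d.card_ker
  by_contra hlt
  push Not at hlt
  have hpos : 1 ≤ Nat.card {b : Equiv.Perm V // b ∈ d.Bb ∧ ∀ w ∈ d.W, b w = w} := by
    haveI : Nonempty {b : Equiv.Perm V // b ∈ d.Bb ∧ ∀ w ∈ d.W, b w = w} :=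
      ⟨⟨1, one_mem _, fun _ _ => rfl⟩⟩
    exact Nat.card_pos
  nlinarith

theorem fix_of_conj {g : Equiv.Perm V} (hgD : g * D * g⁻¹ = D ∨ g * D * g⁻¹ = D⁻¹) {u : V}
    (hu : D u = u) : D (g u) = g u := by
  have hu' : D⁻¹ u = u := by
    conv_lhs => rw [← hu]
    simp
  rcases hgD with e | e
  · have := Equiv.ext_iff.1 (mul_inv_eq_iff_eq_mul.1 e) u
    simp only [Equiv.Perm.mul_apply, hu] at this
    exact this.symm
  · have := Equiv.ext_iff.1 (mul_inv_eq_iff_eq_mul.1 e) u
    simp only [Equiv.Perm.mul_apply, hu] at this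
    apply D⁻¹.injective
    rw [← this]
    simp

theorem pow_conj {g : Equiv.Perm V} (hgD : g * D * g⁻¹ = D⁻¹) (n : ℕ) :
    g * D ^ n * g⁻¹ = (D⁻¹) ^ n := by
  rw [← conj_pow, hgD]

/-- The element of order three fixes no nonzero vector. -/
theorem PairData.false_of_six (d : PairData S H v) (hDS : D ∈ S.Iso) (hD3 : D ^ 3 = 1) (hDH : D ∈ H)
    (hD : ∀ g ∈ H, g * D * g⁻¹ = D ∨ g * D * g⁻¹ = D⁻¹) (hH : H ≤ S.Iso)
    (h16 : ∀ K : Subgroup (Equiv.Perm V), K ≤ H → (∀ b ∈ K, b * b = 1) → Nat.card K ≤ 16)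
    (h8 : ∀ K : Subgroup (Equiv.Perm V), K ≤ H → (∀ b ∈ K, b * b = 1) → (∀ b ∈ K, b * D = D * b) →
      Nat.card K ≤ 8)
    (hc4 : Nat.card (S.nker hDS 3) = 4) (hn1 : S.Nondeg (S.nker hDS 3)) (hn0 : S.Nondeg (S.fix hDS))
    (hfree : ∀ u ∈ S.nker hDS 3, D u = u → u = 0) : False := by
  classical
  have hD1 : D⁻¹ = D ^ 2 := inv_eq_of_mul_eq_one_right (by rw [← pow_succ', hD3])
  have hDD : ∀ u, D (D (D u)) = u := fun u => by
    have := Equiv.ext_iff.1 hD3 u
    simpa [pow_succ, pow_zero] using this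
  have hnorm : ∀ u, QV.norm D 3 u = u + D u + D (D u) := fun u => by
    simp [QV.norm, Finset.sum_range_succ, pow_succ]
  have hnk : ∀ u, u ∈ S.nker hDS 3 ↔ u + D u + D (D u) = 0 := fun u => by
    rw [← hnorm]; rfl
  -- the decomposition
  have hdec : ∀ u : V, ∃ u0 u1, D u0 = u0 ∧ u1 ∈ S.nker hDS 3 ∧ u = u0 + u1 := fun u => by
    refine ⟨QV.norm D 3 u, u + QV.norm D 3 u, S.map_norm hDS hD3 u, ?_, ?_⟩
    · show QV.norm D 3 _ = 0
      rw [S.norm_add hDS, S.norm_fixed (p := 3) ⟨1, rfl⟩ (S.map_norm hDS hD3 u), S.two]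
    · rw [add_left_comm, S.two, add_zero]
  -- the small summand is anisotropic
  have hq : ∀ u ∈ S.nker hDS 3, u ≠ 0 → S.q u = 1 := by
    intro u hu hu0
    by_contra hne
    have hq0 : S.q u = 0 := (zcases _).resolve_right hne
    have hDu : D u ∈ S.nker hDS 3 := by
      rw [hnk] at hu ⊢
      rw [hDD, ← hu]; abel
    have hB : S.B u (D u) = 0 := by
      have e : D (D u) = u + D u := by
        rw [eq_neg_of_add_eq_zero_right ((hnk u).1 hu), neg_eq_of_add_eq_zero_left (S.two _)]
      have h2 : S.q (D (D u)) = 0 := by rw [hDS.2, hDS.2, hq0]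
      rw [e, S.q_add, hDS.2, hq0, add_zero, zero_add] at h2
      exact h2
    have h01 : u ≠ D u := fun e => hu0 (hfree u hu e.symm)
    let A : Finset V := {0, u, D u, u + D u}
    have hsum0 : u + D u ≠ 0 := fun e => h01
      ((eq_neg_of_add_eq_zero_left e).trans (neg_eq_of_add_eq_zero_left (S.two _)))
    have hD0 : D u ≠ 0 := fun e => hu0 (D.injective (e.trans (QV.iso_zero hDS).symm))
    have hA : A.card = 4 := by
      simp only [A]
      rw [Finset.card_insert_of_notMem, Finset.card_insert_of_notMem, Finset.card_pair]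
      · intro e
        exact hu0 (right_eq_add.1 e)
      · simp only [Finset.mem_insert, Finset.mem_singleton, not_or]
        exact ⟨h01, fun e => hD0 (left_eq_add.1 e)⟩
      · simp only [Finset.mem_insert, Finset.mem_singleton, not_or]
        exact ⟨Ne.symm hu0, Ne.symm hD0, Ne.symm hsum0⟩
    refine hu0 (hn1 u hu fun w hw => ?_)
    have hsub : A ⊆ Finset.univ.filter fun x => x ∈ S.nker hDS 3 := by
      intro x hx
      simp only [A, Finset.mem_insert, Finset.mem_singleton] at hx
      rw [Finset.mem_filter]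
      refine ⟨Finset.mem_univ _, ?_⟩
      rcases hx with rfl | rfl | rfl | rfl
      exacts [zero_mem _, hu, hDu, add_mem hu hDu]
    have heq := Finset.eq_of_subset_of_card_le hsub (by
      rw [hA, ← hc4, ← Nat.card_eq_finsetCard]
      exact le_of_eq (Nat.card_congr (Equiv.subtypeEquivRight fun x => by simp)))
    have hw' : w ∈ A := by rw [heq]; simpa using hw
    simp only [A, Finset.mem_insert, Finset.mem_singleton] at hw'
    rcases hw' with rfl | rfl | rfl | rfl
    · exact S.B_zero_right u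
    · exact S.B_self _
    · exact hB
    · rw [S.B_add_right, S.B_self, hB, add_zero]
  obtain ⟨v0, v1, hv0, hv1, hv⟩ := hdec v
  by_cases hv10 : v1 = 0
  · -- a fixed conjugate
    have hDv : D v = v := by rw [hv, hv10, add_zero, hv0]
    have hst := d.stab D hDH hDv
    have hcomm : ∀ b ∈ d.Bb, b * D = D * b := by
      intro b hb
      rcases hD b (d.le hb) with e | e
      · exact mul_inv_eq_iff_eq_mul.1 e
      · exfalso
        -- the commutator of an involution inverting the element is a square of it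
        have hb1 : b⁻¹ = b := inv_eq_of_mul_eq_one_right (d.invol b hb)
        have hmem : D * b * D⁻¹ * b ∈ d.Bb := mul_mem (hst.2 b hb) hb
        have hval : D * b * D⁻¹ * b = D ^ 2 := by
          have e' : b * D⁻¹ * b⁻¹ = D := by
            rw [← conj_inv, e, inv_inv]
          rw [hb1] at e'
          rw [mul_assoc, mul_assoc, ← mul_assoc b, e', pow_two]
        have h2 := d.invol _ hmem
        rw [hval, ← pow_add, pow_succ, hD3, one_mul] at h2
        rw [h2] at e
        have hcard : Nat.card (S.nker hDS 3) ≤ 1 := by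
          rw [AddSubgroup.card_le_one_iff_eq_bot, AddSubgroup.eq_bot_iff_forall]
          exact fun u hu => hfree u hu (by rw [h2]; rfl)
        omega
    have hB8 := h8 d.Bb d.le d.invol hcomm
    have hW16 : Nat.card d.W = 16 := by
      have h1 := d.card_Bb
      have h2 := d.card_W_le
      nlinarith
    have hWfix : ∀ w ∈ d.W, D w = w := by
      intro w hw
      have hN : w + D w + D (D w) ∈ d.W :=
        add_mem (add_mem hw (hst.1 w hw)) (hst.1 _ (hst.1 w hw))
      have hm : w + (w + D w + D (D w)) ∈ S.nker hDS 3 := by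
        show QV.norm D 3 _ = 0
        rw [← hnorm, S.norm_add hDS, S.norm_fixed (p := 3) ⟨1, rfl⟩ (S.map_norm hDS hD3 w), S.two]
      have h0 : w + (w + D w + D (D w)) = 0 := by
        by_contra hne
        have h1 := hq _ hm hne
        rw [d.singular _ (add_mem hw hN)] at h1
        exact zero_ne_one h1
      have e : w = QV.norm D 3 w := by
        rw [hnorm]
        exact (eq_neg_of_add_eq_zero_left h0).trans (neg_eq_of_add_eq_zero_left (S.two _))
      rw [e]
      exact S.map_norm hDS hD3 w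
    obtain ⟨u, hu, hu0⟩ : ∃ u ∈ S.nker hDS 3, u ≠ 0 := by
      by_contra hno
      push Not at hno
      rw [(AddSubgroup.eq_bot_iff_forall _).2 hno, AddSubgroup.card_bot] at hc4
      omega
    refine hu0 (hfree u hu (hWfix u (d.perp hW16 u fun w hw => ?_)))
    exact S.B_fix_nker hDS (p := 3) ⟨1, rfl⟩ (hWfix w hw) hu
  · -- a moved conjugate
    have hU0 : ∀ b ∈ d.Bb, ∀ u, D u = u → D (b u) = b u := fun b hb u hu =>
      fix_of_conj (hD b (d.le hb)) hu
    have hU1 : ∀ b ∈ d.Bb, ∀ u ∈ S.nker hDS 3, b u ∈ S.nker hDS 3 := by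
      intro b hb u hu
      obtain ⟨x0, x1, hx0, hx1, hx⟩ := hdec (b u)
      suffices x0 = 0 by rw [hx, this, zero_add]; exact hx1
      have hbS := hH (d.le hb)
      refine hn0 x0 hx0 fun y hy => ?_
      have hby : D (b y) = b y := hU0 b hb y hy
      obtain ⟨y', hy', rfl⟩ : ∃ y', D y' = y' ∧ b y' = y := ⟨b y, hby, by
        rw [← Equiv.Perm.mul_apply, d.invol b hb]; rfl⟩
      have e : S.B (b u) (b y') = 0 := by
        rw [QV.iso_B hbS, S.B_comm]
        exact S.B_fix_nker hDS (p := 3) ⟨1, rfl⟩ hy' hu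
      rw [hx, S.B_add_left, S.B_comm x1, S.B_fix_nker hDS (p := 3) ⟨1, rfl⟩ hy hx1, add_zero] at e
      exact e
    have hv1fix : ∀ b ∈ d.Bb, b v1 = v1 := by
      intro b hb
      have hbS := hH (d.le hb)
      have h1 := d.fixed b hb
      rw [hv, hbS.1] at h1
      have h2 := congrArg (QV.norm D 3) h1
      rw [S.norm_add hDS, S.norm_add hDS, S.norm_fixed (p := 3) ⟨1, rfl⟩ (hU0 b hb v0 hv0),
        S.norm_fixed (p := 3) ⟨1, rfl⟩ hv0, show QV.norm D 3 (b v1) = 0 from hU1 b hb v1 hv1,
        show QV.norm D 3 v1 = 0 from hv1, add_zero, add_zero] at h2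
      rw [h2] at h1
      exact add_left_cancel h1
    let K1 : Subgroup d.Bb :=
      { carrier := {b | ∀ u ∈ S.nker hDS 3, (b : Equiv.Perm V) u = u}
        one_mem' := fun u _ => rfl
        mul_mem' := fun {a c} ha hc u hu => by
          show (a : Equiv.Perm V) ((c : Equiv.Perm V) u) = u
          rw [hc u hu, ha u hu]
        inv_mem' := fun {a} ha u hu => by
          show ((a : Equiv.Perm V))⁻¹ u = u
          rw [Equiv.Perm.inv_eq_iff_eq, ha u hu] }
    have hK1 : Nat.card d.Bb ≤ 2 * Nat.card K1 := by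
      refine card_le_two_mul K1 fun b c hb hc u hu => ?_
      show ((b : Equiv.Perm V))⁻¹ ((c : Equiv.Perm V) u) = u
      rw [Equiv.Perm.inv_eq_iff_eq]
      have hother : ∀ x : d.Bb, x ∉ K1 → ∀ u ∈ S.nker hDS 3, u ≠ 0 → u ≠ v1 →
          (x : Equiv.Perm V) u = u + v1 := by
        intro x hx u hu hu0 huv
        let A : Finset V := {0, v1, u, u + v1}
        have hA : A.card = 4 := by
          simp only [A]
          rw [Finset.card_insert_of_notMem, Finset.card_insert_of_notMem, Finset.card_pair]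
          · intro e; exact hv10 (left_eq_add.1 e)
          · simp only [Finset.mem_insert, Finset.mem_singleton, not_or]
            exact ⟨Ne.symm huv, fun e => hu0 (right_eq_add.1 e)⟩
          · simp only [Finset.mem_insert, Finset.mem_singleton, not_or]
            refine ⟨Ne.symm hv10, Ne.symm hu0, fun e => huv ?_⟩
            rw [eq_neg_of_add_eq_zero_left e.symm, neg_eq_of_add_eq_zero_left (S.two _)]
        have hsub : A ⊆ Finset.univ.filter fun y => y ∈ S.nker hDS 3 := by
          intro y hy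
          simp only [A, Finset.mem_insert, Finset.mem_singleton] at hy
          rw [Finset.mem_filter]
          refine ⟨Finset.mem_univ _, ?_⟩
          rcases hy with rfl | rfl | rfl | rfl
          exacts [zero_mem _, hv1, hu, add_mem hu hv1]
        have heq := Finset.eq_of_subset_of_card_le hsub (by
          rw [hA, ← hc4, ← Nat.card_eq_finsetCard]
          exact le_of_eq (Nat.card_congr (Equiv.subtypeEquivRight fun x => by simp)))
        have hxS := hH (d.le x.2)
        have hxu : (x : Equiv.Perm V) u ∈ A := by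
          rw [heq]; simpa using hU1 _ x.2 u hu
        simp only [A, Finset.mem_insert, Finset.mem_singleton] at hxu
        rcases hxu with e | e | e | e
        · exact absurd ((x : Equiv.Perm V).injective (e.trans (QV.iso_zero hxS).symm)) hu0
        · exact absurd ((x : Equiv.Perm V).injective (e.trans (hv1fix _ x.2).symm)) huv
        · exfalso
          apply hx
          intro y hy
          have hy' : y ∈ A := by rw [heq]; simpa using hy
          simp only [A, Finset.mem_insert, Finset.mem_singleton] at hy'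
          rcases hy' with rfl | rfl | rfl | rfl
          · exact QV.iso_zero hxS
          · exact hv1fix _ x.2
          · exact e
          · rw [hxS.1, e, hv1fix _ x.2]
        · exact e
      by_cases hu0 : u = 0
      · rw [hu0, QV.iso_zero (hH (d.le b.2)), QV.iso_zero (hH (d.le c.2))]
      by_cases huv : u = v1
      · rw [huv, hv1fix _ b.2, hv1fix _ c.2]
      · rw [hother b hb u hu hu0 huv, hother c hc u hu hu0 huv]
    have hK1ker : Nat.card K1 ≤ Nat.card {b : Equiv.Perm V // b ∈ d.Bb ∧ ∀ w ∈ d.W, b w = w} := by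
      refine Nat.card_le_card_of_injective (fun b => ⟨(b.1 : Equiv.Perm V), b.1.2, fun w hw => ?_⟩) ?_
      · rcases d.W_map _ b.1.2 w hw with e | e
        · exact e
        · exfalso
          have hbS := hH (d.le b.1.2)
          obtain ⟨w0, w1, hw0, hw1, rfl⟩ := hdec w
          rw [hbS.1, b.2 w1 hw1] at e
          replace e := e.trans (congrArg (fun x => w0 + w1 + x) hv)
          have e2 := congrArg (QV.norm D 3) e
          rw [S.norm_add hDS, S.norm_add hDS, S.norm_add hDS, S.norm_add hDS,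
            S.norm_fixed (p := 3) ⟨1, rfl⟩ (hU0 _ b.1.2 w0 hw0), S.norm_fixed (p := 3) ⟨1, rfl⟩ hw0,
            S.norm_fixed (p := 3) ⟨1, rfl⟩ hv0, show QV.norm D 3 w1 = 0 from hw1,
            show QV.norm D 3 v1 = 0 from hv1, add_zero, add_zero, add_zero] at e2
          rw [e2] at e
          apply hv10
          have e3 : w0 + v0 + w1 + 0 = w0 + v0 + w1 + v1 := (add_zero _).trans (e.trans (by abel))
          exact (add_left_cancel e3).symm
      · intro a c e
        simp only [Subtype.mk.injEq] at e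
        exact Subtype.ext (Subtype.ext e)
    have h1 := d.card_Bb
    have h2 := d.card_ker
    have h3 := h16 d.Bb d.le d.invol
    have h4 := d.card_W_le
    generalize Nat.card d.Bb = B at h1 h3 hK1
    generalize Nat.card K1 = a at hK1 hK1ker
    generalize Nat.card {b : Equiv.Perm V // b ∈ d.Bb ∧ ∀ w ∈ d.W, b w = w} = K at h2 hK1ker
    generalize Nat.card d.W = n at h1 h2 h4
    interval_cases n <;> omega

section Coordinates

theorem dAct_add : ∀ (k : Fin 3) (p : I4 × I4) (k' : Fin 3), dAct k (dAct k' p) = dAct (k + k') p := by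
  intro k p k'
  obtain ⟨x, y⟩ := p
  have h : ∀ a b : I4, a + (a + b) = b := fun a b => by rw [← add_assoc, i4_two, zero_add]
  have h' : ∀ a b : I4, a + b + a = b := fun a b => by rw [add_comm (a + b), h]
  fin_cases k <;> fin_cases k' <;> simp [dAct, h, h', add_comm x y] <;> rw [add_assoc, i4_two, add_zero]

theorem sAct_dAct (k : Fin 3) (p : I4 × I4) :
    sAct true (dAct k p) = dAct (-k) (sAct true p) := by
  obtain ⟨x, y⟩ := p
  fin_cases k <;>
    simp [dAct, sAct, add_assoc, i4_two, add_comm x y, show (-1 : Fin 3) = 2 from rfl,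
      show (-2 : Fin 3) = 1 from rfl] <;> rw [← add_assoc, i4_two, zero_add]

theorem map_dAct {t : Equiv.Perm I4} (ht : t ∈ SpG) (k : Fin 3) (p : I4 × I4) :
    (t (dAct k p).1, t (dAct k p).2) = dAct k (t p.1, t p.2) := by
  fin_cases k <;> simp [dAct, ht.1]

theorem map_sAct {t : Equiv.Perm I4} (ht : t ∈ SpG) (b : Bool) (p : I4 × I4) :
    (t (sAct b p).1, t (sAct b p).2) = sAct b (t p.1, t p.2) := by
  cases b <;> simp [sAct, ht.1]

/-- The product of two elements in coordinates. -/
theorem act_act {t : Equiv.Perm I4} (ht : t ∈ SpG) (k k' : Fin 3) (b b' : Bool) (t' : Equiv.Perm I4)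
    (p : I4 × I4) :
    act k b t (act k' b' t' p) = act (k + bif b then -k' else k') (b ^^ b') (t * t') p := by
  simp only [act]
  rw [map_dAct ht, map_sAct ht]
  cases b
  · simp only [show ∀ q, sAct false q = q from fun q => rfl, dAct_add, cond_false, Bool.false_xor]
    rfl
  · rw [sAct_dAct, dAct_add]
    simp only [cond_true, Bool.true_xor]
    congr 1
    cases b'
    · rfl
    · simp [sAct, add_assoc, i4_two]

theorem dAct_inj : ∀ (k k' : Fin 3) (x y : I4), x ≠ 0 → dAct k (x, 0) = dAct k' (y, 0) → k = k' ∧ x = y := by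
  decide +kernel

theorem sAct_inj : ∀ (k : Fin 3) (b b' : Bool) (x : I4), x ≠ 0 →
    dAct k (sAct b (0, x)) = dAct k (sAct b' (0, x)) → b = b' := by
  decide +kernel

theorem e1_ne : e1 ≠ 0 := by decide

/-- The coordinates of an element are unique. -/
theorem act_inj {t t' : Equiv.Perm I4} (ht : t ∈ SpG) (ht' : t' ∈ SpG) {k k' : Fin 3} {b b' : Bool}
    (h : ∀ p, act k b t p = act k' b' t' p) : k = k' ∧ b = b' ∧ t = t' := by
  have hs : ∀ (c : Bool) (x : I4), sAct c (x, 0) = (x, 0) := fun c x => by cases c <;> simp [sAct]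
  have hne : ∀ i : I4, i ≠ 0 → t i ≠ 0 := fun i hi e => hi (t.injective (e.trans (map_zero_of_mem ht).symm))
  have hx : ∀ i : I4, i ≠ 0 → k = k' ∧ t i = t' i := fun i hi => by
    have e := h (i, 0)
    simp only [act, map_zero_of_mem ht, map_zero_of_mem ht', hs] at e
    exact dAct_inj _ _ _ _ (hne i hi) e
  have hk := (hx e1 e1_ne).1
  have htt : t = t' := Equiv.ext fun i => by
    by_cases hi : i = 0
    · rw [hi, map_zero_of_mem ht, map_zero_of_mem ht']
    · exact (hx i hi).2
  subst hk htt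
  have e := h (0, e1)
  simp only [act, map_zero_of_mem ht] at e
  exact ⟨rfl, sAct_inj _ _ _ _ (hne e1 e1_ne) e, rfl⟩

end Coordinates

variable (T : Tensor S H D)

/-- The three summands. -/
def Pure (v : V) : Prop := ∃ a b : I4, v = T.e (a, b) ∧ (a = 0 ∨ b = 0 ∨ a = b)

theorem act_mul {g g' : Equiv.Perm V} {k k' : Fin 3} {b b' : Bool} {t t' : Equiv.Perm I4} (ht : t ∈ SpG)
    (hg : ∀ p, g (T.e p) = T.e (act k b t p)) (hg' : ∀ p, g' (T.e p) = T.e (act k' b' t' p)) :
    ∀ p, (g * g') (T.e p) = T.e (act (k + bif b then -k' else k') (b ^^ b') (t * t') p) := fun p => by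
  rw [Equiv.Perm.mul_apply, hg', hg, act_act ht]

theorem coord_inj {g : Equiv.Perm V} {k k' : Fin 3} {b b' : Bool} {t t' : Equiv.Perm I4} (ht : t ∈ SpG)
    (ht' : t' ∈ SpG) (hg : ∀ p, g (T.e p) = T.e (act k b t p))
    (hg' : ∀ p, g (T.e p) = T.e (act k' b' t' p)) : k = k' ∧ b = b' ∧ t = t' :=
  act_inj ht ht' fun p => T.e.injective ((hg p).symm.trans (hg' p))

theorem frame_three : om (e1 + e2) f2 = 1 ∧ om (e1 + e2) e1 = 0 ∧ om f2 e1 = 0 ∧
    om (e1 + e2) (f1 + f2) = 0 ∧ om f2 (f1 + f2) = 0 ∧ om e1 (f1 + f2) = 1 ∧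
    ∀ u, frameFun (e1 + e2) f2 e1 (f1 + f2) (frameFun (e1 + e2) f2 e1 (f1 + f2)
      (frameFun (e1 + e2) f2 e1 (f1 + f2) u)) = u := by decide

/-- A conjugate lies in one of the three summands. -/
theorem PairData.pure (d : PairData S H v) : Pure T v := by
  classical
  obtain ⟨⟨a, b⟩, rfl⟩ := T.e.surjective v
  refine ⟨a, b, rfl, ?_⟩
  by_contra hnp
  push Not at hnp
  obtain ⟨ha, hb, hab⟩ := hnp
  have hom : om a b = 0 := by
    have := d.singular _ d.v_mem
    rwa [T.q_e] at this
  obtain ⟨u, hu, hua, hub⟩ := exists_map_pair ha hb hab hom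
  obtain ⟨c1, c2, c3, c4, c5, c6, c7⟩ := frame_three
  obtain ⟨t0, ht0, q1, q2, q3, q4⟩ := exists_frame c1 c2 c3 c4 c5 c6
  have ht0f := frame_eq ht0 q1 q2 q3 q4
  have h30 : ∀ x, t0 (t0 (t0 x)) = x := fun x => by rw [ht0f, ht0f, ht0f, c7]
  set t3 := u * t0 * u⁻¹ with ht3
  have ht3m : t3 ∈ SpG := mul_mem (mul_mem hu ht0) (inv_mem hu)
  obtain ⟨g, hgH, hg⟩ := T.lift_sq (u * (t0 * t0) * u⁻¹) (mul_mem (mul_mem hu (mul_mem ht0 ht0)) (inv_mem hu))
  rw [show u * (t0 * t0) * u⁻¹ * (u * (t0 * t0) * u⁻¹) = u * ((t0 * t0) * (t0 * t0)) * u⁻¹ by group,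
    ← sq_of_order_three h30, ← ht3] at hg
  set c := D * g with hcdef
  have hc : ∀ p, c (T.e p) = T.e (act 1 false t3 p) := fun p => by
    rw [hcdef, Equiv.Perm.mul_apply, hg, T.D_e]
    rfl
  have hcH : c ∈ H := mul_mem T.D_mem hgH
  have h3a : t3 a = a + b := by
    rw [ht3, Equiv.Perm.mul_apply, Equiv.Perm.mul_apply, show u⁻¹ a = e1 by
      rw [Equiv.Perm.inv_eq_iff_eq, hua], q1, hu.1, hua, hub]
  have h3b : t3 b = a := by
    rw [ht3, Equiv.Perm.mul_apply, Equiv.Perm.mul_apply, show u⁻¹ b = e2 by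
      rw [Equiv.Perm.inv_eq_iff_eq, hub], q3, hua]
  have hcv : c (T.e (a, b)) = T.e (a, b) := by
    rw [hc]
    simp [act, sAct, dAct, h3a, h3b]
    rw [add_comm a b, add_assoc, i4_two, add_zero]
  have hst := (d.stab c hcH hcv).2
  have hdiag : ∀ x ∈ d.Bb, ∃ t : Equiv.Perm I4, (t ∈ SpG ∧ t a = a ∧ t b = b) ∧
      ∀ p, x (T.e p) = T.e (t p.1, t p.2) := by
    intro x hx
    obtain ⟨k, bo, t, ht, hxt⟩ := T.elt x (d.le hx)
    have hone : ∀ p, (1 : Equiv.Perm V) (T.e p) = T.e (act 0 false 1 p) := fun p => rfl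
    obtain rfl : bo = false := by
      by_contra hbo
      rw [Bool.not_eq_false] at hbo
      subst hbo
      set y := c * x * c⁻¹ with hy
      obtain ⟨k', bo', t', ht', hyt⟩ := T.elt y (d.le (hst x hx))
      have e1' := act_mul T ht3m hc hxt
      have e2' := act_mul T ht' hyt hc
      rw [show c * x = y * c by rw [hy]; group] at e1'
      obtain ⟨hk, hb', -⟩ := coord_inj T (mul_mem ht3m ht) (mul_mem ht' ht3m) e1' e2'
      obtain rfl : bo' = true := by simpa using hb'.symm
      have hxy : x * y = y * x := by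
        have h1 := d.invol x hx
        have h2 := d.invol y (hst x hx)
        have h3 := d.invol _ (mul_mem hx (hst x hx))
        calc x * y = (y * x)⁻¹ := by
              rw [mul_inv_rev, inv_eq_of_mul_eq_one_right h1, inv_eq_of_mul_eq_one_right h2]
          _ = y * x := by
              refine inv_eq_of_mul_eq_one_right ?_
              calc y * x * (y * x) = x⁻¹ * (x * y * (x * y)) * x := by group
                _ = 1 := by rw [h3, mul_one, inv_mul_cancel]
      have e3 := act_mul T ht hxt hyt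
      have e4 := act_mul T ht' hyt hxt
      rw [hxy] at e3
      obtain ⟨hk2, -, -⟩ := coord_inj T (mul_mem ht ht') (mul_mem ht' ht) e3 e4
      exact (by decide : ∀ k k' : Fin 3, 1 + k = k' + -1 → k + -k' = k' + -k → False) k k' hk hk2
    have h0 := act_mul T ht hxt hxt
    rw [d.invol x hx] at h0
    obtain ⟨hk, -, -⟩ := coord_inj T (one_mem _) (mul_mem ht ht) hone h0
    obtain rfl : k = 0 := (by decide : ∀ k : Fin 3, 0 = k + k → k = 0) k hk
    refine ⟨t, ⟨ht, ?_⟩, fun p => hxt p⟩
    have h1 := d.fixed x hx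
    rw [hxt] at h1
    have h2 := T.e.injective h1
    simpa [act, sAct, dAct] using h2
  choose τ hτ hτe using hdiag
  let φ : d.Bb → {t : Equiv.Perm I4 // t ∈ SpG ∧ t a = a ∧ t b = b} := fun x => ⟨τ x.1 x.2, hτ x.1 x.2⟩
  have hφ : Function.Injective φ := by
    rintro ⟨x, hx⟩ ⟨y, hy⟩ e
    refine Subtype.ext (Equiv.ext fun w => ?_)
    obtain ⟨p, rfl⟩ := T.e.surjective w
    rw [hτe x hx, hτe y hy, show τ x hx = τ y hy from congrArg Subtype.val e]
  have hle := (Nat.card_le_card_of_injective φ hφ).trans (card_fix_pair ha hb hab hom)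
  have h1 := d.card_Bb
  have h2 := d.card_W_le
  have hW : Nat.card d.W = 16 := by nlinarith
  have hB : Nat.card d.Bb = 8 := by rw [hW] at h1; omega
  have hker := d.card_ker
  rw [hW] at hker
  obtain ⟨tv, htv, htvf⟩ := transv_mem a
  have htva : tv a = a ∧ tv b = b := by
    rw [htvf, htvf]
    simp [transv, om_self, (om_comm b a).trans hom]
  have hbij : Function.Bijective φ := (Fintype.bijective_iff_injective_and_card _).2 ⟨hφ, le_antisymm
    (Fintype.card_le_of_injective φ hφ) (by
      rw [← Nat.card_eq_fintype_card, ← Nat.card_eq_fintype_card, hB]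
      exact card_fix_pair ha hb hab hom)⟩
  obtain ⟨⟨x, hx⟩, hxτ⟩ := hbij.2 ⟨tv, htv, htva⟩
  have hxτ' : τ x hx = tv := congrArg Subtype.val hxτ
  have hxW : ∀ w ∈ d.W, x w = w := by
    intro w hw
    obtain ⟨⟨i, j⟩, rfl⟩ := T.e.surjective w
    rcases d.W_map x hx _ hw with e | e
    · exact e
    · exfalso
      rw [hτe x hx, hxτ', htvf, htvf, ← T.e_add] at e
      have e' := T.e.injective e
      simp only [Prod.mk_add_mk, Prod.mk.injEq, transv] at e'
      obtain ⟨e5, e6⟩ := e'
      split_ifs at e6 with h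
      · exact hb (left_eq_add.1 e6)
      · exact hab (add_left_cancel e6)
  haveI hsub : Subsingleton {b : Equiv.Perm V // b ∈ d.Bb ∧ ∀ w ∈ d.W, b w = w} :=
    (Nat.card_eq_one_iff_unique.1 (by omega)).1
  have hx1 : x = 1 := congrArg Subtype.val (Subsingleton.elim
    (⟨x, hx, hxW⟩ : {b : Equiv.Perm V // b ∈ d.Bb ∧ ∀ w ∈ d.W, b w = w}) ⟨1, one_mem _, fun _ _ => rfl⟩)
  obtain ⟨i, hi⟩ : ∃ i, om i a ≠ 0 := by
    by_contra hno
    push Not at hno
    exact ha (om_nondeg a fun w => (om_comm a w).trans (hno w))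
  have h3 := hτe x hx (i, 0)
  rw [hxτ', htvf, htvf, hx1, Equiv.Perm.one_apply] at h3
  have h4 := congrArg Prod.fst (T.e.injective h3)
  simp only [transv, if_neg hi] at h4
  exact ha (left_eq_add.1 h4)

omit [Fintype V] in
theorem B_e (p p' : I4 × I4) : S.B (T.e p) (T.e p') = om p.1 p'.2 + om p'.1 p.2 := by
  simp only [QV.B, ← T.e_add, T.q_e, Prod.fst_add, Prod.snd_add, om_add_left, om_add_right]
  linear_combination CharTwo.add_self_eq_zero (om p.1 p.2) + CharTwo.add_self_eq_zero (om p'.1 p'.2)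

/-- The summand of a conjugate meets its space in the perpendicular hyperplane. -/
theorem PairData.mem_W_iff {a : I4} (d : PairData S H (T.e (a, 0))) :
    ∀ i, T.e (i, 0) ∈ d.W ↔ om i a = 0 := by
  classical
  have he0 : T.e (0, 0) = 0 := by
    have h := T.e_add (0, 0) (0, 0)
    simp only [Prod.mk_add_mk, add_zero] at h
    exact left_eq_add.1 h
  have ha : a ≠ 0 := fun e => d.v_ne (e ▸ he0)
  set U : Set I4 := {i | T.e (i, 0) ∈ d.W} with hU
  have hU0 : (0 : I4) ∈ U := show T.e (0, 0) ∈ d.W from he0.symm ▸ zero_mem _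
  have hUa : a ∈ U := d.v_mem
  have hadd : ∀ x ∈ U, ∀ y ∈ U, x + y ∈ U := fun x hx y hy => by
    show T.e (x + y, 0) ∈ d.W
    have h : T.e (x, 0) + T.e (y, 0) ∈ d.W := add_mem hx hy
    rwa [← T.e_add, Prod.mk_add_mk, add_zero] at h
  have hinv : ∀ t ∈ SpG, t a = a → ((∃ s ∈ SpG, t = s * s) ∨
      ∃ s ∈ SpG, ∃ r ∈ SpG, t = s * r * s⁻¹ * r⁻¹) → ∀ x ∈ U, t x ∈ U := by
    intro t ht hta hts x hx
    obtain ⟨g, hg, hge⟩ : Lift H T.e t := by
      rcases hts with ⟨s, hs, rfl⟩ | ⟨s, hs, r, hr, rfl⟩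
      exacts [T.lift_sq s hs, T.lift_comm s hs r hr]
    have hgv : g (T.e (a, 0)) = T.e (a, 0) := by
      rw [hge]; simp only [hta, map_zero_of_mem ht]
    have h := (d.stab g hg hgv).1 _ hx
    rw [hge] at h
    simp only [map_zero_of_mem ht] at h
    exact h
  have hfix : ∀ x ∈ d.Bb, ∃ (bo : Bool) (t : Equiv.Perm I4), t ∈ SpG ∧ t a = a ∧
      ∀ p, x (T.e p) = T.e (act 0 bo t p) := by
    intro x hx
    obtain ⟨k, bo, t, ht, hxt⟩ := T.elt x (d.le hx)
    have hta0 : t a ≠ 0 := fun e => ha (t.injective (e.trans (map_zero_of_mem ht).symm))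
    have h1 := d.fixed x hx
    rw [hxt] at h1
    have h2 : dAct k (t a, 0) = dAct 0 (a, 0) := by
      have h3 := T.e.injective h1
      simp only [act, map_zero_of_mem ht] at h3
      cases bo <;> simpa [sAct, dAct] using h3
    obtain ⟨rfl, hta⟩ := dAct_inj _ _ _ _ hta0 h2
    exact ⟨bo, t, ht, hta, hxt⟩
  choose bo τ hτm hτa hτe using hfix
  have hval : ∀ x (hx : x ∈ d.Bb) (i : I4), x (T.e (i, 0)) = T.e (τ x hx i, 0) := fun x hx i => by
    rw [hτe x hx]
    simp only [act, map_zero_of_mem (hτm x hx)]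
    cases bo x hx <;> simp [sAct, dAct]
  have hsmall : ¬ ∀ x (hx : x ∈ d.Bb), ∀ i, τ x hx i = i ∨ τ x hx i = i + a := by
    intro hall
    let ψ : d.Bb → Bool × Bool := fun x => (bo x.1 x.2, decide (∀ i, τ x.1 x.2 i = i))
    have hψ : Function.Injective ψ := by
      rintro ⟨x, hx⟩ ⟨y, hy⟩ e
      simp only [ψ, Prod.mk.injEq, decide_eq_decide] at e
      have hττ : τ x hx = τ y hy := by
        refine Equiv.ext fun i => ?_
        rcases eq_transv (hτm x hx) ha (hall x hx) with hx' | hx'
        · rw [hx' i, e.2.1 hx' i]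
        · rcases eq_transv (hτm y hy) ha (hall y hy) with hy' | hy'
          · rw [hy' i, e.2.2 hy' i]
          · rw [hx' i, hy' i]
      refine Subtype.ext (Equiv.ext fun w => ?_)
      obtain ⟨p, rfl⟩ := T.e.surjective w
      rw [hτe x hx, hτe y hy, hττ, e.1]
    have hle := Nat.card_le_card_of_injective ψ hψ
    rw [Nat.card_prod, Nat.card_eq_fintype_card (α := Bool), Fintype.card_bool] at hle
    have h1 := d.card_Bb
    have h2 := d.card_W_le
    nlinarith
  obtain ⟨c, hc, hc0, hca⟩ : ∃ c ∈ U, c ≠ 0 ∧ c ≠ a := by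
    by_contra hno
    push Not at hno
    refine hsmall fun x hx i => ?_
    have hmem : τ x hx i + i ∈ U := by
      have hp : S.B (T.e (a, 0)) (T.e (i, 0)) = 0 := by
        rw [B_e]; simp [om_zero_right]
      have h := d.perp_map x hx _ hp
      rw [hval, ← T.e_add, Prod.mk_add_mk, add_zero] at h
      exact h
    have e : τ x hx i = τ x hx i + i + i := by rw [add_assoc, i4_two, add_zero]
    by_cases h0 : τ x hx i + i = 0
    · left; rw [e, h0, zero_add]
    · right; rw [e, hno _ hmem h0, add_comm]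
  have hperp := perp_le ha U hU0 hUa hadd hinv hc hc0 hca
  intro i
  refine ⟨fun hi => ?_, hperp i⟩
  by_contra hne
  have hi1 : om i a = 1 := (zcases _).resolve_left hne
  have hall : ∀ j, j ∈ U := by
    intro j
    rcases zcases (om j a) with h | h
    · exact hperp j h
    · have h2 := hadd _ (hperp (j + i) (by rw [om_add_left, h, hi1]; rfl)) _ hi
      rwa [add_assoc, i4_two, add_zero] at h2
  refine hsmall fun x hx j => ?_
  rcases d.W_map x hx _ (hall j) with e | e <;> rw [hval x hx] at e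
  · exact .inl (congrArg Prod.fst (T.e.injective e))
  · right
    rw [← T.e_add] at e
    exact congrArg Prod.fst (T.e.injective e)

end CfsgLib.ExtraNine
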