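import Cfsg.Agent.Lib.ExtraNine.Split
import Cfsg.Agent.Lib.LargeExtra.Automizer
import Cfsg.Agent.Lib.LargeExtra.Sections
import Cfsg.Agent.Lib.LargeExtra.OutExtra

/-!
An extraspecial subgroup of order `2^9` normal in an involution centralizer, as a quadratic space, and
the data attached to a conjugate of the involution inside it.
-/

namespace CfsgLib.ExtraNine

open Subgroup Cfsg CfsgLib.LargeExtra

theorem zmod_two_cases : ∀ c : ZMod 2, c = 0 ∨ c = 1 := by decide

/-- An extraspecial subgroup of order `2^9` with coordinates. -/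
structure Nine (G : Type*) [Group G] (V : Type*) [AddCommGroup V] where
  z : G
  Q : Subgroup G
  F : FData Q z
  card : Nat.card Q = 512
  S : QV V
  π : ↥Q → V
  π_mul : ∀ a b, π (a * b) = π a + π b
  surj : Function.Surjective π
  ker_iff : ∀ a, π a = 0 ↔ (a : G) = 1 ∨ (a : G) = z
  sq : ∀ a : ↥Q, (a : G) * a = if S.q (π a) = 0 then 1 else z

theorem exists_nine {G : Type*} [Group G] [Finite G] {z : G} {Q : Subgroup G} (F : FData Q z)
    (hcard : Nat.card Q = 512) :
    ∃ (V : Type) (_ : AddCommGroup V) (_ : Fintype V) (N : Nine G V),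
      N.z = z ∧ N.Q = Q ∧ Fintype.card V = 256 := by
  classical
  obtain ⟨z', hz', hC⟩ := OutExtra.exists_chart F.extra 3 (by rw [hcard]; norm_num)
  have hzz : (z' : G) = z := by
    have : (z' : G) ∈ zpowers z := F.centre ▸ ⟨z', hz', rfl⟩
    rcases zpowers_two_cases F.ord _ this with h | h
    · exfalso
      rcases hC with ⟨⟨C⟩⟩ | ⟨⟨C⟩⟩ <;> exact C.z_ne (Subtype.ext h)
    · exact h
  suffices hmain : ∀ {ι : Type} [Fintype ι] [DecidableEq ι] (q : QuadraticForm (ZMod 2) (ι → ZMod 2)),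
      OutExtra.Chart ↥Q (⇑q) z' →
      ∃ (V : Type) (_ : AddCommGroup V) (_ : Fintype V) (N : Nine G V),
        N.z = z ∧ N.Q = Q ∧ Fintype.card V = 256 by
    rcases hC with ⟨⟨C⟩⟩ | ⟨⟨C⟩⟩
    · exact hmain _ C
    · exact hmain _ C
  intro ι _ _ q C
  have hker : ∀ a : ↥Q, C.π a = 0 ↔ (a : G) = 1 ∨ (a : G) = z := by
    intro a
    rw [C.ker_iff, Subtype.ext_iff, Subtype.ext_iff, hzz]; rfl
  have htwo : ∀ v : ι → ZMod 2, v + v = 0 := fun v => funext fun i => CharTwo.add_self_eq_zero _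
  have hsq : ∀ a : ↥Q, (a : G) * a = if q (C.π a) = 0 then 1 else z := by
    intro a
    have h := congrArg (Subtype.val : ↥Q → G) (C.sq_eq a)
    rw [apply_ite (Subtype.val : ↥Q → G), hzz] at h
    exact h
  have hz1 : z ≠ 1 := fun h => by have := F.ord; rw [h, orderOf_one] at this; omega
  refine ⟨ι → ZMod 2, inferInstance, inferInstance,
    ⟨z, Q, F, hcard, ⟨fun v => q v, htwo, fun u u' w => ?_, fun u hu => ?_⟩, C.π, C.pi_mul, C.surj, hker,
      hsq⟩, rfl, rfl, ?_⟩
  · have h := QuadraticMap.polar_add_left q u u' w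
    simp only [QuadraticMap.polar] at h
    show q (u + u' + w) + q (u + u') + q w = q (u + w) + q u + q w + (q (u' + w) + q u' + q w)
    linear_combination h + CharTwo.add_self_eq_zero (q (u + u')) + CharTwo.add_self_eq_zero (q w)
      - CharTwo.add_self_eq_zero (q u) - CharTwo.add_self_eq_zero (q w) - CharTwo.add_self_eq_zero (q u')
      - CharTwo.add_self_eq_zero (q w)
  · obtain ⟨a, rfl⟩ := C.surj u
    have hac : a ∈ center ↥Q := by
      rw [mem_center_iff]
      intro b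
      apply Subtype.ext
      show (b : G) * a = a * b
      have h0 := hu (C.π b)
      have h1 : (a : G) * b * (a * b) = (a : G) * a * ((b : G) * b) := by
        have e := hsq (a * b)
        rw [C.pi_mul, coe_mul] at e
        rw [e, hsq a, hsq b]
        have hzz2 : z * z = 1 := by rw [← sq, ← F.ord, pow_orderOf_eq_one]
        rcases zmod_two_cases (q (C.π a)) with h | h <;> rcases zmod_two_cases (q (C.π b)) with h' | h' <;>
          rcases zmod_two_cases (q (C.π a + C.π b)) with h'' | h'' <;>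
          simp [h, h', h'', hzz2] at h0 ⊢
        all_goals exact absurd h0 (by decide)
      have h2 := congrArg (fun t => (a : G)⁻¹ * t * (b : G)⁻¹) h1
      simpa [mul_assoc] using h2
    have : (a : G) ∈ zpowers z := F.centre ▸ ⟨a, hac, rfl⟩
    exact (hker a).2 (zpowers_two_cases F.ord _ this)
  · have h1 : Nat.card ↥Q = 2 * Fintype.card (ι → ZMod 2) := by
      let s := Function.surjInv C.surj
      have hs : ∀ v, C.π (s v) = v := Function.surjInv_eq C.surj
      have hzQ : z ∈ Q := hzz ▸ z'.2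
      let Ψ : Bool × (ι → ZMod 2) → ↥Q := fun x => if x.1 then s x.2 * ⟨z, hzQ⟩ else s x.2
      have hπz : C.π ⟨z, hzQ⟩ = 0 := (hker _).2 (.inr rfl)
      have hΨπ : ∀ x, C.π (Ψ x) = x.2 := by
        rintro ⟨b, v⟩
        cases b <;> simp [Ψ, C.pi_mul, hs, hπz]
      have hb : Function.Bijective Ψ := by
        constructor
        · rintro ⟨b, v⟩ ⟨b', v'⟩ h
          obtain rfl : v = v' := by
            have e := hΨπ (b, v)
            rw [h, hΨπ] at e
            exact e.symm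
          cases b <;> cases b' <;> simp [Ψ] at h ⊢
          · exact hz1 h
          · exact hz1 h
        · intro a
          rcases C.pi_eq (x := s (C.π a)) (y := a) (hs _) with h | h
          · exact ⟨(false, C.π a), by simp [Ψ]; exact inv_mul_eq_one.1 h⟩
          · refine ⟨(true, C.π a), ?_⟩
            simp only [Ψ, if_true]
            rw [show (⟨z, hzQ⟩ : ↥Q) = (s (C.π a))⁻¹ * a from (Subtype.ext hzz.symm).trans h.symm,
              mul_inv_cancel_left]
      rw [← Nat.card_congr (Equiv.ofBijective Ψ hb), Nat.card_prod, Nat.card_eq_fintype_card,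
        Nat.card_eq_fintype_card, Fintype.card_bool]
    omega

variable {G : Type*} [Group G] {V : Type*} [AddCommGroup V] (N : Nine G V)

namespace Nine

theorem z_mem : N.z ∈ N.Q := map_subtype_le _ (N.F.centre ▸ mem_zpowers N.z)

theorem z_ne : N.z ≠ 1 := fun h => by have := N.F.ord; rw [h, orderOf_one] at this; omega

theorem zz : N.z * N.z = 1 := by rw [← _root_.sq, ← N.F.ord, pow_orderOf_eq_one]

theorem π_one : N.π 1 = 0 := (N.ker_iff 1).2 (.inl rfl)

theorem π_z : N.π ⟨N.z, N.z_mem⟩ = 0 := (N.ker_iff _).2 (.inr rfl)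

theorem π_inv (a : ↥N.Q) : N.π a⁻¹ = N.π a := by
  have h := N.π_mul a⁻¹ a
  rw [inv_mul_cancel, N.π_one] at h
  rw [eq_neg_of_add_eq_zero_left h.symm, neg_eq_of_add_eq_zero_left (N.S.two _)]

theorem z_comm {y : G} (hy : y ∈ N.Q) : y * N.z = N.z * y :=
  mem_centralizer_singleton_iff.1 (N.F.le hy)

theorem π_eq {a b : ↥N.Q} (h : N.π a = N.π b) : (b : G) = a ∨ (b : G) = a * N.z := by
  have e : N.π (a⁻¹ * b) = 0 := by rw [N.π_mul, N.π_inv, h, N.S.two]
  rcases (N.ker_iff _).1 e with h' | h' <;> simp only [coe_mul, coe_inv] at h'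
  · exact .inl (inv_mul_eq_one.1 h').symm
  · exact .inr (by rw [← h']; group)

theorem comm (a b : ↥N.Q) :
    (a : G) * b * (a : G)⁻¹ * (b : G)⁻¹ = if N.S.B (N.π a) (N.π b) = 0 then 1 else N.z := by
  have e := N.sq (a * b)
  rw [N.π_mul, N.S.q_add, coe_mul] at e
  have ha := N.sq a
  have hb := N.sq b
  have hcz : ∀ c : G, c = 1 ∨ c = N.z → ∀ y ∈ N.Q, y * c = c * y := by
    rintro c (rfl | rfl) y hy
    · simp
    · exact N.z_comm hy
  have hca : (a : G) * a = 1 ∨ (a : G) * a = N.z := by rw [ha]; split_ifs <;> simp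
  have hcb : (b : G) * b = 1 ∨ (b : G) * b = N.z := by rw [hb]; split_ifs <;> simp
  have key : (a : G) * b * (a : G)⁻¹ * (b : G)⁻¹ = (a : G) * b * ((a : G) * b) * (((a : G) * a) * ((b : G) * b))⁻¹ := by
    have hcomm := hcz _ hca (b : G)⁻¹ (inv_mem b.2)
    have h3 : (b : G)⁻¹ * ((a : G) * a)⁻¹ = ((a : G) * a)⁻¹ * (b : G)⁻¹ :=
      ((show Commute (b : G)⁻¹ ((a : G) * a) from hcomm).inv_right).eq
    calc (a : G) * b * (a : G)⁻¹ * (b : G)⁻¹
        = (a : G) * b * a * (((a : G) * a)⁻¹ * (b : G)⁻¹) := by group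
      _ = (a : G) * b * a * ((b : G)⁻¹ * ((a : G) * a)⁻¹) := by rw [h3]
      _ = _ := by group
  rw [key, e, ha, hb]
  rcases zmod_two_cases (N.S.q (N.π a)) with h | h <;> rcases zmod_two_cases (N.S.q (N.π b)) with h' | h' <;>
    rcases zmod_two_cases (N.S.B (N.π a) (N.π b)) with h'' | h'' <;>
    simp [h, h', h'', N.zz, inv_eq_of_mul_eq_one_left N.zz, show (1 : ZMod 2) + 1 = 0 from rfl]

theorem B_eq_zero_iff (a b : ↥N.Q) : N.S.B (N.π a) (N.π b) = 0 ↔ (a : G) * b = b * a := by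
  constructor
  · intro h
    have e := N.comm a b
    rw [if_pos h] at e
    exact mul_inv_eq_iff_eq_mul.1 (mul_inv_eq_one.1 e)
  · intro h
    by_contra hne
    have e := N.comm a b
    rw [if_neg hne, h] at e
    exact N.z_ne (by rw [← e]; group)

theorem conj_mem {g : G} (hg : g ∈ centralizer ({N.z} : Set G)) (a : ↥N.Q) : g * a * g⁻¹ ∈ N.Q :=
  (mem_normalizer_iff.1 (N.F.normal hg) a).1 a.2

theorem conj_z {g : G} (hg : g ∈ centralizer ({N.z} : Set G)) : g * N.z * g⁻¹ = N.z := by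
  rw [mem_centralizer_singleton_iff.1 hg, mul_inv_cancel_right]

theorem conj_π {g : G} (hg : g ∈ centralizer ({N.z} : Set G)) (a b : ↥N.Q) (h : N.π a = N.π b) :
    N.π ⟨g * a * g⁻¹, N.conj_mem hg a⟩ = N.π ⟨g * b * g⁻¹, N.conj_mem hg b⟩ := by
  rcases N.π_eq h with e | e
  · congr 2; rw [e]
  · have : (⟨g * b * g⁻¹, N.conj_mem hg b⟩ : ↥N.Q) = ⟨g * a * g⁻¹, N.conj_mem hg a⟩ * ⟨N.z, N.z_mem⟩ := by
      refine Subtype.ext ?_
      show g * b * g⁻¹ = g * a * g⁻¹ * N.z
      calc g * b * g⁻¹ = g * a * g⁻¹ * (g * N.z * g⁻¹) := by rw [e]; group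
        _ = g * a * g⁻¹ * N.z := by rw [N.conj_z hg]
    rw [this, N.π_mul, N.π_z, add_zero]

/-- The action of an element of the centralizer on the coordinates. -/
noncomputable def actFun (g : centralizer ({N.z} : Set G)) (v : V) : V :=
  N.π ⟨g * Function.surjInv N.surj v * g⁻¹, N.conj_mem g.2 _⟩

theorem actFun_π (g : centralizer ({N.z} : Set G)) (a : ↥N.Q) :
    N.actFun g (N.π a) = N.π ⟨g * a * g⁻¹, N.conj_mem g.2 a⟩ :=
  N.conj_π g.2 _ a (Function.surjInv_eq N.surj _)

theorem actFun_mul (g h : centralizer ({N.z} : Set G)) (v : V) :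
    N.actFun (g * h) v = N.actFun g (N.actFun h v) := by
  obtain ⟨a, rfl⟩ := N.surj v
  rw [N.actFun_π, N.actFun_π, N.actFun_π]
  congr 2
  simp [mul_assoc]

theorem actFun_one (v : V) : N.actFun 1 v = v := by
  obtain ⟨a, rfl⟩ := N.surj v
  rw [N.actFun_π]
  congr 1
  exact Subtype.ext (by simp)

/-- The action of the centralizer on the coordinates. -/
noncomputable def ρ : centralizer ({N.z} : Set G) →* Equiv.Perm V :=
  MonoidHom.mk' (fun g => ⟨N.actFun g, N.actFun g⁻¹,
    fun v => by rw [← N.actFun_mul, inv_mul_cancel, N.actFun_one],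
    fun v => by rw [← N.actFun_mul, mul_inv_cancel, N.actFun_one]⟩)
    fun g h => Equiv.ext fun v => N.actFun_mul g h v

theorem ρ_π (g : centralizer ({N.z} : Set G)) (a : ↥N.Q) :
    N.ρ g (N.π a) = N.π ⟨g * a * g⁻¹, N.conj_mem g.2 a⟩ := N.actFun_π g a

theorem ρ_mem (g : centralizer ({N.z} : Set G)) : N.ρ g ∈ N.S.Iso := by
  refine ⟨fun u w => ?_, fun u => ?_⟩
  · obtain ⟨a, rfl⟩ := N.surj u
    obtain ⟨b, rfl⟩ := N.surj w
    rw [← N.π_mul, N.ρ_π, N.ρ_π, N.ρ_π, ← N.π_mul]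
    congr 1
    exact Subtype.ext (by simp [mul_assoc])
  · obtain ⟨a, rfl⟩ := N.surj u
    rw [N.ρ_π]
    have h1 := N.sq ⟨g * a * g⁻¹, N.conj_mem g.2 a⟩
    have h2 : (g : G) * a * (g : G)⁻¹ * ((g : G) * a * (g : G)⁻¹) = g * ((a : G) * a) * (g : G)⁻¹ := by group
    simp only [Subgroup.coe_inv] at h1 h2 ⊢
    rw [h2, N.sq a] at h1
    generalize N.π ⟨(g : G) * a * (g : G)⁻¹, _⟩ = w at h1 ⊢
    revert h1
    rcases zmod_two_cases (N.S.q (N.π a)) with h | h <;> rcases zmod_two_cases (N.S.q w) with h' | h' <;>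
      simp [h, h', N.conj_z g.2, N.z_ne, Ne.symm N.z_ne]

variable [Finite G]

theorem ρ_eq_one_iff (g : centralizer ({N.z} : Set G)) : N.ρ g = 1 ↔ (g : G) ∈ N.Q := by
  constructor
  · intro h
    have hzc : (⟨N.z, N.z_mem⟩ : ↥N.Q) ∈ center ↥N.Q :=
      mem_center_iff.2 fun y => Subtype.ext (N.z_comm y.2)
    let φ : ↥N.Q ≃* ↥N.Q :=
      { toFun := fun a => ⟨g * a * g⁻¹, N.conj_mem g.2 a⟩
        invFun := fun a => ⟨(g : G)⁻¹ * a * g, by simpa using N.conj_mem (inv_mem g.2) a⟩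
        left_inv := fun a => Subtype.ext (by simp [mul_assoc])
        right_inv := fun a => Subtype.ext (by simp [mul_assoc])
        map_mul' := fun a b => Subtype.ext (by simp [mul_assoc]) }
    obtain ⟨c, hc⟩ := exists_inner_of_trivial_mod_center N.F.extra φ (fun a => by
      have e : N.π (φ a * a⁻¹) = 0 := by
        rw [N.π_mul, N.π_inv, show N.π (φ a) = N.ρ g (N.π a) from (N.ρ_π g a).symm, h]
        exact N.S.two _
      rcases (N.ker_iff _).1 e with e' | e'
      · rw [show φ a * a⁻¹ = 1 from Subtype.ext e']; exact one_mem _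
      · rw [show φ a * a⁻¹ = ⟨N.z, N.z_mem⟩ from Subtype.ext e']; exact hzc)
    have hcent : (c : G)⁻¹ * g ∈ centralizer (N.Q : Set G) := by
      rw [mem_centralizer_iff]
      intro y hy
      have e : (g : G) * y * (g : G)⁻¹ = c * y * (c : G)⁻¹ := congrArg Subtype.val (hc ⟨y, hy⟩)
      calc y * ((c : G)⁻¹ * g) = (c : G)⁻¹ * ((c : G) * y * (c : G)⁻¹) * g := by group
        _ = (c : G)⁻¹ * g * y := by rw [← e]; group
    rw [N.F.self] at hcent
    have := mul_mem c.2 (map_subtype_le _ hcent)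
    simpa using this
  · intro hg
    refine Equiv.ext fun v => ?_
    obtain ⟨a, rfl⟩ := N.surj v
    rw [N.ρ_π, Equiv.Perm.one_apply]
    have e : (⟨g * a * g⁻¹, N.conj_mem g.2 a⟩ : ↥N.Q) = ⟨g, hg⟩ * a * (⟨g, hg⟩ : ↥N.Q)⁻¹ := rfl
    rw [e, N.π_mul, N.π_mul, N.π_inv, add_right_comm, N.S.two, zero_add]

theorem ρ_eq_iff (g h : centralizer ({N.z} : Set G)) : N.ρ g = N.ρ h ↔ (g : G)⁻¹ * h ∈ N.Q := by
  rw [← Subgroup.coe_inv, ← coe_mul, ← N.ρ_eq_one_iff, map_mul, map_inv, inv_mul_eq_one]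

end Nine

end CfsgLib.ExtraNine
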