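import Cfsg.Agent.Lib.ExtraNine.Rigid

/-!
The elementary abelian subgroups of order thirty two of conjugates of the central involution, attached
to each conjugate.
-/

namespace CfsgLib.ExtraNine

open Subgroup Cfsg CfsgLib.LargeExtra

/-- The conjugate of a subgroup. -/
abbrev cmap {G : Type*} [Group G] (m : G) (K : Subgroup G) : Subgroup G :=
  K.map (MulAut.conj m).toMonoidHom

theorem mem_cmap {G : Type*} [Group G] {m : G} {K : Subgroup G} {y : G} :
    y ∈ cmap m K ↔ m⁻¹ * y * m ∈ K := by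
  constructor
  · rintro ⟨k, hk, rfl⟩
    simpa [mul_assoc] using hk
  · exact fun hy => ⟨m⁻¹ * y * m, hy, by simp [mul_assoc]⟩

theorem cmap_mem {G : Type*} [Group G] (m : G) {K : Subgroup G} {y : G} (hy : y ∈ K) :
    m * y * m⁻¹ ∈ cmap m K := mem_cmap.2 (by simpa [mul_assoc] using hy)

theorem cmap_cmap {G : Type*} [Group G] (m n : G) (K : Subgroup G) :
    cmap m (cmap n K) = cmap (m * n) K := by
  ext y
  simp [mem_cmap, mul_assoc]

theorem cmap_one {G : Type*} [Group G] (K : Subgroup G) : cmap 1 K = K := by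
  ext y
  simp [mem_cmap]

theorem cmap_inf {G : Type*} [Group G] (m : G) (K L : Subgroup G) :
    cmap m (K ⊓ L) = cmap m K ⊓ cmap m L := Subgroup.map_inf K L _ (MulEquiv.injective _)

theorem card_cmap {G : Type*} [Group G] (m : G) (K : Subgroup G) : Nat.card (cmap m K) = Nat.card K :=
  card_map_of_injective (MulEquiv.injective _)

variable {G : Type*} [Group G] {V : Type*} [AddCommGroup V]

namespace Nine

variable (N : Nine G V)

/-- Being conjugate to the central involution. -/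
def Cz (y : G) : Prop := ∃ g : G, g * N.z * g⁻¹ = y

theorem cz_z : N.Cz N.z := ⟨1, by simp⟩

theorem cz_conj {y : G} (h : N.Cz y) (m : G) : N.Cz (m * y * m⁻¹) := by
  obtain ⟨g, rfl⟩ := h
  exact ⟨m * g, by group⟩

theorem cz_invol {y : G} (h : N.Cz y) : y * y = 1 ∧ y ≠ 1 := by
  obtain ⟨g, rfl⟩ := h
  refine ⟨?_, fun e => N.z_ne (conj_eq_one_iff.1 e)⟩
  rw [show g * N.z * g⁻¹ * (g * N.z * g⁻¹) = g * (N.z * N.z) * g⁻¹ by group, N.zz]
  group

/-- The extraspecial subgroup of a conjugate. -/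
noncomputable def Qc (u : G) : Subgroup G :=
  haveI := Classical.propDecidable (N.Cz u)
  if h : N.Cz u then cmap h.choose N.Q else ⊥

theorem Qc_eq {g u : G} (hg : g * N.z * g⁻¹ = u) : N.Qc u = cmap g N.Q := by
  have h : N.Cz u := ⟨g, hg⟩
  rw [Qc, dif_pos h]
  set c := g⁻¹ * h.choose with hc
  have hcz : c ∈ centralizer ({N.z} : Set G) := by
    rw [mem_centralizer_singleton_iff]
    have e : h.choose * N.z * h.choose⁻¹ = g * N.z * g⁻¹ := h.choose_spec.trans hg.symm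
    calc g⁻¹ * h.choose * N.z = g⁻¹ * (h.choose * N.z * h.choose⁻¹) * h.choose := by group
      _ = N.z * (g⁻¹ * h.choose) := by rw [e]; group
  have hn : cmap c N.Q = N.Q := by
    ext y
    rw [mem_cmap]
    have := mem_normalizer_iff.1 (N.F.normal (inv_mem hcz)) y
    simp only [inv_inv] at this
    exact this.symm
  rw [show h.choose = g * c by rw [hc]; group, ← cmap_cmap, hn]

theorem Qc_z : N.Qc N.z = N.Q := by rw [N.Qc_eq (g := 1) (by simp), cmap_one]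

theorem Qc_conj {u : G} (hu : N.Cz u) (m : G) : N.Qc (m * u * m⁻¹) = cmap m (N.Qc u) := by
  obtain ⟨g, hg⟩ := hu
  rw [N.Qc_eq hg, N.Qc_eq (g := m * g) (by rw [← hg]; group), cmap_cmap]

theorem mem_Qc_self {u : G} (hu : N.Cz u) : u ∈ N.Qc u := by
  obtain ⟨g, hg⟩ := hu
  rw [N.Qc_eq hg, ← hg]
  exact cmap_mem g N.z_mem

variable [Finite G] [Fintype V]

theorem Qc_symm {u w : G} (hu : N.Cz u) (hw : N.Cz w) (h : w ∈ N.Qc u) : u ∈ N.Qc w := by
  by_cases hne : w = u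
  · subst hne; exact h
  obtain ⟨g, hg⟩ := hu
  obtain ⟨k, hk⟩ := hw
  rw [N.Qc_eq hg, mem_cmap] at h
  have hm : g⁻¹ * w * g = (g⁻¹ * k) * N.z * (g⁻¹ * k)⁻¹ := by rw [← hk]; group
  have hz := (N.pairHyp (g := g⁻¹ * k) (hm ▸ h) (fun e => hne ?_)).automizer.2
  · rw [N.Qc_eq hk, mem_cmap]
    have := mem_cmap.1 hz
    rw [← hg]
    simpa [mul_assoc] using this
  · rw [← hk, ← hg]
    calc k * N.z * k⁻¹ = g * ((g⁻¹ * k) * N.z * (g⁻¹ * k)⁻¹) * g⁻¹ := by group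
      _ = g * N.z * g⁻¹ := by rw [e]

/-- The preimage of a subgroup of coordinates. -/
def preim (U : AddSubgroup V) : Subgroup G where
  carrier := {y | ∃ hy : y ∈ N.Q, N.π ⟨y, hy⟩ ∈ U}
  one_mem' := ⟨one_mem _, by
    rw [show N.π ⟨1, one_mem _⟩ = 0 from N.π_one]; exact zero_mem _⟩
  mul_mem' := by
    rintro a b ⟨ha, ha'⟩ ⟨hb, hb'⟩
    refine ⟨mul_mem ha hb, ?_⟩
    rw [show (⟨a * b, mul_mem ha hb⟩ : ↥N.Q) = ⟨a, ha⟩ * ⟨b, hb⟩ from rfl, N.π_mul]
    exact add_mem ha' hb'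
  inv_mem' := by
    rintro a ⟨ha, ha'⟩
    refine ⟨inv_mem ha, ?_⟩
    rw [show (⟨a⁻¹, inv_mem ha⟩ : ↥N.Q) = (⟨a, ha⟩ : ↥N.Q)⁻¹ from rfl, N.π_inv]
    exact ha'

omit [Finite G] [Fintype V] in
theorem z_mem_preim (U : AddSubgroup V) : N.z ∈ N.preim U :=
  ⟨N.z_mem, by rw [N.π_z]; exact zero_mem _⟩

omit [Fintype V] in
theorem card_preim (U : AddSubgroup V) : Nat.card (N.preim U) = 2 * Nat.card U := by
  classical
  let s := Function.surjInv N.surj
  have hs : ∀ v, N.π (s v) = v := Function.surjInv_eq N.surj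
  let zQ : ↥N.Q := ⟨N.z, N.z_mem⟩
  let f : Bool × U → N.preim U := fun p =>
    ⟨(if p.1 then s p.2 * zQ else s p.2 : ↥N.Q), ⟨SetLike.coe_mem _, by
      rcases p with ⟨b, w⟩
      cases b
      · show N.π (s w) ∈ U
        rw [hs]; exact w.2
      · show N.π (s w * zQ) ∈ U
        rw [N.π_mul, N.π_z, add_zero, hs]; exact w.2⟩⟩
  have hb : Function.Bijective f := by
    constructor
    · rintro ⟨b, w⟩ ⟨b', w'⟩ e
      have e' : (if b then s w * zQ else s w : ↥N.Q) = (if b' then s w' * zQ else s w' : ↥N.Q) :=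
        Subtype.ext (congrArg (fun x : N.preim U => (x : G)) e)
      have e2 := congrArg N.π e'
      simp only [apply_ite N.π, N.π_mul, hs, N.π_z, zQ, add_zero, ite_self] at e2
      obtain rfl : w = w' := Subtype.ext e2
      have hz : zQ ≠ 1 := fun h => N.z_ne (congrArg Subtype.val h)
      cases b <;> cases b' <;> simp [hz] at e' ⊢
    · rintro ⟨y, hy, hyU⟩
      rcases N.π_eq (a := s (N.π ⟨y, hy⟩)) (b := ⟨y, hy⟩) (hs _) with e | e
      · exact ⟨(false, ⟨N.π ⟨y, hy⟩, hyU⟩), Subtype.ext e.symm⟩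
      · exact ⟨(true, ⟨N.π ⟨y, hy⟩, hyU⟩), Subtype.ext e.symm⟩
  rw [← Nat.card_congr (Equiv.ofBijective f hb), Nat.card_prod, Nat.card_eq_fintype_card (α := Bool),
    Fintype.card_bool]

/-- The elementary abelian subgroups of order thirty two of conjugates attached to a conjugate. -/
def IsComp (u : G) (K : Subgroup G) : Prop :=
  K ≤ N.Qc u ∧ Nat.card K = 32 ∧ ∀ y ∈ K, y ≠ 1 → N.Cz y

omit [Finite G] [Fintype V] in
theorem isComp_conj {u : G} (hu : N.Cz u) {K : Subgroup G} (h : N.IsComp u K) (m : G) :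
    N.IsComp (m * u * m⁻¹) (cmap m K) := by
  refine ⟨?_, by rw [card_cmap]; exact h.2.1, ?_⟩
  · rw [N.Qc_conj hu]; exact map_mono h.1
  · intro y hy hy1
    have h' := h.2.2 _ (mem_cmap.1 hy) (fun e => hy1 ?_)
    · have := N.cz_conj h' m
      simpa [mul_assoc] using this
    · calc y = m * (m⁻¹ * y * m) * m⁻¹ := by group
        _ = 1 := by rw [e]; group

omit [Finite G] [Fintype V] in
theorem comm_of_isComp {u : G} {K : Subgroup G} (h : N.IsComp u K) {a b : G} (ha : a ∈ K) (hb : b ∈ K) :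
    a * b = b * a := by
  have hsq : ∀ y ∈ K, y * y = 1 := fun y hy => by
    by_cases e : y = 1
    · rw [e, one_mul]
    · exact (N.cz_invol (h.2.2 y hy e)).1
  calc a * b = (a * b)⁻¹ := (inv_eq_of_mul_eq_one_right (hsq _ (mul_mem ha hb))).symm
    _ = b * a := by
      rw [mul_inv_rev, inv_eq_of_mul_eq_one_right (hsq a ha), inv_eq_of_mul_eq_one_right (hsq b hb)]

end Nine

/-- A pair outside the three summands. -/
def offPieces (p : I4 × I4) : Bool := decide (p.1 ≠ 0 ∧ p.2 ≠ 0 ∧ p.1 ≠ p.2)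

theorem offPieces_sum : ∀ (k k' : Fin 3) (i i' : I4), i = 0 ∨ i' = 0 ∨ k = k' ∨ i = i' ∨
    offPieces (dAct k (i, 0) + dAct k' (i', 0)) = true := by decide +kernel

theorem offPieces_dAct : ∀ (j : Fin 3) (c : I4), offPieces (dAct j (c, 0)) = false := by decide +kernel

theorem piece_sum (k k' j : Fin 3) (i i' c : I4) (hi : i ≠ 0) (hi' : i' ≠ 0)
    (h : dAct k (i, 0) + dAct k' (i', 0) = dAct j (c, 0)) : k = k' ∨ i = i' := by
  rcases offPieces_sum k k' i i' with e | e | e | e | e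
  exacts [absurd e hi, absurd e hi', .inl e, .inr e,
    absurd (e.symm.trans (h ▸ offPieces_dAct j c)) (by decide)]

theorem dAct_zero (k : Fin 3) : dAct k ((0 : I4), (0 : I4)) = (0, 0) := by
  fin_cases k <;> simp [dAct]

theorem pure_cases (a b : I4) (h : a = 0 ∨ b = 0 ∨ a = b) : ∃ (k : Fin 3) (c : I4), (a, b) = dAct k (c, 0) := by
  rcases h with rfl | rfl | rfl
  · exact ⟨1, b, by simp [dAct]⟩
  · exact ⟨0, a, rfl⟩
  · exact ⟨2, a, by simp [dAct]⟩

variable [Finite G] [Fintype V] {N : Nine G V} {D : Equiv.Perm V} (T : Tensor N.S N.ρ.range D)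

omit [Finite G] [Fintype V] in
theorem Tensor.e_zero : T.e (0, 0) = 0 := by
  have h := T.e_add (0, 0) (0, 0)
  simp only [Prod.mk_add_mk, add_zero] at h
  exact left_eq_add.1 h

omit [Finite G] [Fintype V] in
theorem Tensor.pow_e (k : Fin 3) (p : I4 × I4) : (D ^ (k : ℕ)) (T.e p) = T.e (dAct k p) := by
  fin_cases k
  · rfl
  · show (D ^ 1) _ = _
    rw [pow_one, T.D_e]; rfl
  · show (D ^ 2) _ = _
    rw [pow_two, Equiv.Perm.mul_apply, T.D_e, T.D_e]
    simp only [dAct]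
    congr 2
    rw [add_left_comm, i4_two, add_zero]

/-- The coordinates of one of the three summands. -/
def Tensor.pieceHom (k : Fin 3) : I4 →+ V :=
  AddMonoidHom.mk' (fun i => T.e (dAct k (i, 0))) fun i j => by
    rw [← T.e_add]
    fin_cases k <;> simp [dAct]

/-- The preimage of one of the three summands. -/
def Tensor.piece (k : Fin 3) : Subgroup G := N.preim (T.pieceHom k).range

omit [Finite G] [Fintype V] in
theorem Tensor.mem_piece {k : Fin 3} {y : G} :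
    y ∈ T.piece k ↔ ∃ (hy : y ∈ N.Q) (i : I4), N.π ⟨y, hy⟩ = T.e (dAct k (i, 0)) := by
  constructor
  · rintro ⟨hy, i, hi⟩; exact ⟨hy, i, hi.symm⟩
  · rintro ⟨hy, i, hi⟩; exact ⟨hy, i, hi.symm⟩

omit [Fintype V] in
theorem Tensor.card_piece (k : Fin 3) : Nat.card (T.piece k) = 32 := by
  have hinj : Function.Injective (T.pieceHom k) := by
    intro i j h
    have h' := T.e.injective h
    fin_cases k <;> simpa [dAct] using h'
  rw [Tensor.piece, N.card_preim,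
    ← Nat.card_congr (AddMonoidHom.ofInjective hinj).toEquiv, Nat.card_eq_fintype_card]
  rfl

variable (hex : ∃ g : G, g * N.z * g⁻¹ ∈ N.Q ∧ g * N.z * g⁻¹ ≠ N.z)

theorem Tensor.conj_pure {x : G} (hx : x ∈ N.Q) (hc : N.Cz x) (hne : x ≠ N.z) :
    ∃ (k : Fin 3) (c : I4), c ≠ 0 ∧ N.π ⟨x, hx⟩ = T.e (dAct k (c, 0)) := by
  obtain ⟨g, rfl⟩ := hc
  obtain ⟨d, -⟩ := N.exists_pairData hx hne
  obtain ⟨a, b, hab, hcases⟩ := d.pure T
  obtain ⟨k, c, hkc⟩ := pure_cases a b hcases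
  refine ⟨k, c, fun e => d.v_ne ?_, by rw [hab, hkc]⟩
  rw [hab, hkc, e, dAct_zero, T.e_zero]

include T hex in
theorem Tensor.piece_conj {k : Fin 3} {y : G} (hy : y ∈ T.piece k) (h1 : y ≠ 1) : N.Cz y := by
  obtain ⟨hyQ, i, hi⟩ := T.mem_piece.1 hy
  by_cases hi0 : i = 0
  · rw [hi0, dAct_zero, T.e_zero] at hi
    rcases (N.ker_iff _).1 hi with e | e
    · exact absurd e h1
    · exact (show y = N.z from e) ▸ N.cz_z
  obtain ⟨g, hxQ, hne⟩ := hex
  set x := g * N.z * g⁻¹ with hx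
  obtain ⟨k0, c, hc, hkc⟩ := T.conj_pure hxQ ⟨g, rfl⟩ hne
  obtain ⟨t, ht, ⟨m0, hm0, hm0e⟩, htc⟩ := T.trans c i hc hi0
  obtain ⟨m, hm⟩ := mul_mem (pow_mem T.D_mem ((k - k0 : Fin 3) : ℕ)) hm0
  have e1 : N.ρ m (N.π ⟨x, hxQ⟩) = N.π ⟨y, hyQ⟩ := by
    rw [hm, Equiv.Perm.mul_apply, hkc, hm0e, map_dAct ht, T.pow_e, dAct_add, sub_add_cancel, hi]
    simp only [htc, map_zero_of_mem ht]
  rw [N.ρ_π] at e1
  obtain ⟨q, hq, hqx⟩ := (N.pairHyp hxQ hne).automizer.1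
  have hmz : (m : G) * N.z * (m : G)⁻¹ = N.z := N.conj_z m.2
  rcases N.π_eq e1 with e | e
  · exact (show y = (m : G) * x * (m : G)⁻¹ from e) ▸ N.cz_conj ⟨g, rfl⟩ _
  · have hyv : y = ((m : G) * q) * x * ((m : G) * q)⁻¹ := by
      have e' : y = (m : G) * x * (m : G)⁻¹ * N.z := e
      rw [e', show ((m : G) * q) * x * ((m : G) * q)⁻¹ = (m : G) * (q * x * q⁻¹) * (m : G)⁻¹ by group, hqx]
      calc (m : G) * x * (m : G)⁻¹ * N.z = (m : G) * x * (m : G)⁻¹ * ((m : G) * N.z * (m : G)⁻¹) := by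
            rw [hmz]
        _ = (m : G) * (x * N.z) * (m : G)⁻¹ := by group
        _ = (m : G) * (N.z * x) * (m : G)⁻¹ := by rw [N.z_comm hxQ]
    exact hyv ▸ N.cz_conj ⟨g, rfl⟩ _

include T hex in
theorem Tensor.isComp_piece (k : Fin 3) : N.IsComp N.z (T.piece k) :=
  ⟨by rw [N.Qc_z]; exact fun y hy => (T.mem_piece.1 hy).1, T.card_piece k,
    fun _ hy h1 => T.piece_conj hex hy h1⟩

/-- A large subgroup of conjugates in the extraspecial subgroup lies in one summand. -/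
theorem Tensor.le_piece {K : Subgroup G} (hKQ : K ≤ N.Q) (hKc : ∀ y ∈ K, y ≠ 1 → N.Cz y)
    (hK : 8 < Nat.card K) : ∃ k, K ≤ T.piece k := by
  classical
  have hmem : ∀ y ∈ K, ∀ hy : y ∈ N.Q, N.π ⟨y, hy⟩ = 0 ∨
      ∃ k c, c ≠ 0 ∧ N.π ⟨y, hy⟩ = T.e (dAct k (c, 0)) := by
    intro y hy hyQ
    by_cases h0 : N.π ⟨y, hyQ⟩ = 0
    · exact .inl h0
    · refine .inr (T.conj_pure hyQ (hKc y hy fun e => h0 ((N.ker_iff _).2 (.inl e)))
        fun e => h0 ((N.ker_iff _).2 (.inr e)))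
  by_contra hno
  push Not at hno
  obtain ⟨y1, hy1, hy1'⟩ := SetLike.not_le_iff_exists.1 (hno 0)
  rcases hmem y1 hy1 (hKQ hy1) with h0 | ⟨k1, c1, hc1, e1⟩
  · exact hy1' (T.mem_piece.2 ⟨hKQ hy1, 0, by rw [h0, dAct_zero, T.e_zero]⟩)
  obtain ⟨y2, hy2, hy2'⟩ := SetLike.not_le_iff_exists.1 (hno k1)
  rcases hmem y2 hy2 (hKQ hy2) with h0 | ⟨k2, c2, hc2, e2⟩
  · exact hy2' (T.mem_piece.2 ⟨hKQ hy2, 0, by rw [h0, dAct_zero, T.e_zero]⟩)
  have hk : k1 ≠ k2 := fun e => hy2' (T.mem_piece.2 ⟨hKQ hy2, c2, e ▸ e2⟩)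
  have hsum : ∀ y ∈ K, ∀ y' ∈ K, ∀ hy : y ∈ N.Q, ∀ hy' : y' ∈ N.Q, ∀ k k' i i', i ≠ 0 → i' ≠ 0 →
      N.π ⟨y, hy⟩ = T.e (dAct k (i, 0)) → N.π ⟨y', hy'⟩ = T.e (dAct k' (i', 0)) → k = k' ∨ i = i' := by
    intro y hy y' hy' hQ hQ' k k' i i' hi hi' e e'
    have ep : N.π ⟨y * y', hKQ (mul_mem hy hy')⟩ = T.e (dAct k (i, 0) + dAct k' (i', 0)) := by
      rw [show (⟨y * y', hKQ (mul_mem hy hy')⟩ : ↥N.Q) = ⟨y, hQ⟩ * ⟨y', hQ'⟩ from rfl, N.π_mul, e, e',
        T.e_add]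
    rcases hmem _ (mul_mem hy hy') (hKQ (mul_mem hy hy')) with h0 | ⟨j, c, -, ej⟩
    · refine piece_sum k k' 0 i i' 0 hi hi' (T.e.injective ?_)
      rw [← ep, h0, dAct_zero, T.e_zero]
    · exact piece_sum k k' j i i' c hi hi' (T.e.injective (ep.symm.trans ej))
  obtain rfl : c1 = c2 :=
    (hsum _ hy1 _ hy2 _ _ _ _ _ _ hc1 hc2 e1 e2).resolve_left hk
  let u : ZMod 2 → I4 := fun a => if a = 1 then c1 else 0
  have hu : ∀ a b, u (a + b) = u a + u b := by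
    intro a b
    rcases zcases a with rfl | rfl <;> rcases zcases b with rfl | rfl <;>
      simp [u, i4_two, show (1 : ZMod 2) + 1 = 0 from rfl]
  let U : ZMod 2 × ZMod 2 →+ V := AddMonoidHom.mk' (fun a => T.e (u a.1, u a.2)) fun a b => by
    rw [← T.e_add]; simp [hu]
  have hle : K ≤ N.preim U.range := by
    intro y hy
    refine ⟨hKQ hy, ?_⟩
    rcases hmem y hy (hKQ hy) with h0 | ⟨j, c, hc, ej⟩
    · rw [h0]; exact zero_mem _
    · have hcc : c = c1 := by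
        by_cases hj : j = k1
        · exact (hsum _ hy _ hy2 _ _ _ _ _ _ hc hc2 ej e2).resolve_left (hj ▸ hk)
        · exact (hsum _ hy _ hy1 _ _ _ _ _ _ hc hc1 ej e1).resolve_left hj
      rw [ej, hcc]
      fin_cases j
      · exact ⟨(1, 0), by simp [U, u, dAct]⟩
      · exact ⟨(0, 1), by simp [U, u, dAct]⟩
      · exact ⟨(1, 1), by simp [U, u, dAct]⟩
  have h4 : Nat.card U.range ≤ 4 := by
    have := Nat.card_le_card_of_surjective U.rangeRestrict U.rangeRestrict_surjective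
    rwa [Nat.card_prod, Nat.card_eq_fintype_card (α := ZMod 2), ZMod.card] at this
  have := Subgroup.card_le_of_le hle
  rw [N.card_preim] at this
  omega

theorem Tensor.isComp_z {K : Subgroup G} (hK : N.IsComp N.z K) : ∃ k, K = T.piece k := by
  have hKQ : K ≤ N.Q := N.Qc_z ▸ hK.1
  obtain ⟨k, hk⟩ := T.le_piece hKQ hK.2.2 (lt_of_lt_of_eq (by norm_num) hK.2.1.symm)
  exact ⟨k, eq_of_le_of_card_ge hk ((T.card_piece k).trans_le hK.2.1.ge)⟩

omit [Fintype V] in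
theorem Tensor.conj_piece (k : Fin 3) :
    ∃ m : G, m * N.z * m⁻¹ = N.z ∧ cmap m (T.piece 0) = T.piece k := by
  obtain ⟨m, hm⟩ := pow_mem T.D_mem (k : ℕ)
  refine ⟨m, N.conj_z m.2, eq_of_le_of_card_ge ?_ (by rw [card_cmap, T.card_piece, T.card_piece])⟩
  intro y hy
  obtain ⟨hyQ, i, hi⟩ := T.mem_piece.1 (mem_cmap.1 hy)
  have hy' : y = (m : G) * ((m : G)⁻¹ * y * m) * (m : G)⁻¹ := by group
  refine T.mem_piece.2 ⟨hy'.symm ▸ N.conj_mem m.2 ⟨_, hyQ⟩, i, ?_⟩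
  have e := congrArg (N.ρ m) hi
  rw [N.ρ_π, hm, T.pow_e, dAct_add, add_zero] at e
  rw [← e]
  congr 1
  exact Subtype.ext hy'

include T hex in
/-- The groups attached to conjugates are conjugate. -/
theorem Tensor.exists_conj_comp {u u' : G} (hu : N.Cz u) (hu' : N.Cz u') {K K' : Subgroup G}
    (hK : N.IsComp u K) (hK' : N.IsComp u' K') : ∃ m : G, m * u * m⁻¹ = u' ∧ cmap m K = K' := by
  suffices hmain : ∀ u K, N.Cz u → N.IsComp u K → ∃ m : G, m * N.z * m⁻¹ = u ∧ cmap m (T.piece 0) = K by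
    obtain ⟨m, hm, hmK⟩ := hmain u K hu hK
    obtain ⟨n, hn, hnK⟩ := hmain u' K' hu' hK'
    refine ⟨n * m⁻¹, ?_, ?_⟩
    · rw [← hm, ← hn]; group
    · rw [← hmK, cmap_cmap, inv_mul_cancel_right, hnK]
  rintro u K ⟨g, hg⟩ hK
  have hgu : g⁻¹ * u * (g⁻¹)⁻¹ = N.z := by rw [← hg]; group
  obtain ⟨k, hk⟩ := T.isComp_z (hgu ▸ N.isComp_conj ⟨g, hg⟩ hK g⁻¹)
  obtain ⟨m, hm, hmk⟩ := T.conj_piece k
  refine ⟨g * m, ?_, ?_⟩
  · rw [show g * m * N.z * (g * m)⁻¹ = g * (m * N.z * m⁻¹) * g⁻¹ by group, hm, hg]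
  · rw [← cmap_cmap, hmk, ← hk, cmap_cmap, mul_inv_cancel, cmap_one]

/-- Membership among the perpendicular elements of the first summand. -/
theorem Tensor.mem_Qc_iff {x y : G} (hx : x ∈ N.Q) (hy : y ∈ N.Q) (hc : N.Cz x) {a i : I4} (ha : a ≠ 0)
    (hxa : N.π ⟨x, hx⟩ = T.e (a, 0)) (hyi : N.π ⟨y, hy⟩ = T.e (i, 0)) :
    y ∈ N.Qc x ↔ om i a = 0 := by
  obtain ⟨g, hg⟩ := hc
  subst hg
  have hne : g * N.z * g⁻¹ ≠ N.z := fun e => by
    have h0 : N.π ⟨_, hx⟩ = 0 := (N.ker_iff _).2 (.inr e)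
    rw [hxa] at h0
    exact ha (congrArg Prod.fst (T.e.injective (h0.trans T.e_zero.symm)))
  obtain ⟨d, hd⟩ := N.exists_pairData hx hne
  rw [N.Qc_eq rfl, ← hd ⟨y, hy⟩, hyi]
  generalize N.π ⟨_, hx⟩ = v at d hxa ⊢
  subst hxa
  exact d.mem_W_iff T i

include T hex in
theorem Tensor.card_piece_inf {x : G} (hx : x ∈ T.piece 0) (h1 : x ≠ 1) (hz : x ≠ N.z) :
    Nat.card (T.piece 0 ⊓ N.Qc x : Subgroup G) = 16 := by
  classical
  obtain ⟨hxQ, a, hxa⟩ := T.mem_piece.1 hx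
  have ha : a ≠ 0 := by
    rintro rfl
    rw [dAct_zero, T.e_zero] at hxa
    rcases (N.ker_iff _).1 hxa with e | e
    exacts [h1 e, hz e]
  have hc := T.piece_conj hex hx h1
  let P : AddSubgroup I4 :=
    { carrier := {i | om i a = 0}
      zero_mem' := om_zero_left a
      add_mem' := fun {i j} hi hj => by
        show om (i + j) a = 0
        rw [om_add_left, show om i a = 0 from hi, show om j a = 0 from hj, add_zero]
      neg_mem' := fun {i} hi => by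
        show om (-i) a = 0
        rw [neg_eq_of_add_eq_zero_left (i4_two i)]; exact hi }
  have heq : T.piece 0 ⊓ N.Qc x = N.preim (P.map (T.pieceHom 0)) := by
    ext y
    constructor
    · rintro ⟨hy, hy'⟩
      obtain ⟨hyQ, i, hi⟩ := T.mem_piece.1 hy
      exact ⟨hyQ, i, (T.mem_Qc_iff hxQ hyQ hc ha hxa hi).1 hy', hi.symm⟩
    · rintro ⟨hyQ, i, hi, hie⟩
      exact ⟨T.mem_piece.2 ⟨hyQ, i, hie.symm⟩, (T.mem_Qc_iff hxQ hyQ hc ha hxa hie.symm).2 hi⟩
  have hP : ∀ a : I4, a ≠ 0 → (Finset.univ.filter fun i => om i a = 0).card = 8 := by decide +kernel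
  rw [heq, N.card_preim, AddSubgroup.card_map_of_injective]
  · rw [show Nat.card P = 8 from ?_]
    rw [← hP a ha, ← Nat.card_eq_finsetCard]
    exact Nat.card_congr (Equiv.subtypeEquivRight fun i => by simp [P])
  · intro i j h
    simpa [dAct] using T.e.injective h

include T hex in
theorem Tensor.card_comp_inf {u x : G} (hu : N.Cz u) {K : Subgroup G} (hK : N.IsComp u K) (hx : x ∈ K)
    (h1 : x ≠ 1) (hxu : x ≠ u) : Nat.card (K ⊓ N.Qc x : Subgroup G) = 16 := by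
  obtain ⟨m, hm, hmK⟩ := T.exists_conj_comp hex hu N.cz_z hK (T.isComp_piece hex 0)
  have h := T.card_piece_inf hex (x := m * x * m⁻¹) (hmK ▸ cmap_mem m hx)
    (fun e => h1 (conj_eq_one_iff.1 e)) (fun e => hxu (by
      rw [← hm] at e
      exact mul_left_cancel (mul_right_cancel e)))
  rw [N.Qc_conj (hK.2.2 x hx h1), ← hmK, ← cmap_inf, card_cmap] at h
  exact h

include T hex in
theorem Tensor.inf_symm_piece {x : G} (hx : x ∈ T.piece 0) (h1 : x ≠ 1) (hz : x ≠ N.z) {L : Subgroup G}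
    (hL : N.IsComp x L) (hzL : N.z ∈ L) : L ⊓ N.Qc N.z = T.piece 0 ⊓ N.Qc x := by
  obtain ⟨hxQ, a, hxa⟩ := T.mem_piece.1 hx
  have hc := T.piece_conj hex hx h1
  have hcard : Nat.card (L ⊓ N.Qc N.z : Subgroup G) = 16 :=
    T.card_comp_inf hex hc hL hzL N.z_ne (Ne.symm hz)
  obtain ⟨k, hk⟩ := T.le_piece (K := L ⊓ N.Qc N.z) (fun y hy => N.Qc_z ▸ hy.2)
    (fun y hy h => hL.2.2 y hy.1 h) (by rw [hcard]; norm_num)
  have hxL : x ∈ L := by
    -- every group attached to a conjugate contains it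
    obtain ⟨m, hm, hmL⟩ := T.exists_conj_comp hex N.cz_z hc (T.isComp_piece hex 0) hL
    rw [← hmL, ← hm]
    exact cmap_mem m (N.z_mem_preim _)
  obtain rfl : k = 0 := by
    obtain ⟨hxQ2, i, hi⟩ := T.mem_piece.1 (hk ⟨hxL, N.Qc_z.symm ▸ hxQ⟩)
    rw [hxa] at hi
    have ha : a ≠ 0 := by
      rintro rfl
      rw [dAct_zero, T.e_zero] at hxa
      rcases (N.ker_iff _).1 hxa with e | e
      exacts [h1 e, hz e]
    exact ((dAct_inj _ _ _ _ ha (T.e.injective hi)).1).symm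
  exact eq_of_le_of_card_ge (le_inf hk (inf_le_left.trans hL.1))
    (by rw [hcard, T.card_piece_inf hex hx h1 hz])

include T hex in
/-- The common part of two attached groups does not depend on the order. -/
theorem Tensor.inf_symm {u x : G} (hu : N.Cz u) {K L : Subgroup G} (hK : N.IsComp u K) (hx : x ∈ K)
    (h1 : x ≠ 1) (hxu : x ≠ u) (hL : N.IsComp x L) (huL : u ∈ L) : L ⊓ N.Qc u = K ⊓ N.Qc x := by
  obtain ⟨m, hm, hmK⟩ := T.exists_conj_comp hex hu N.cz_z hK (T.isComp_piece hex 0)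
  have hc := hK.2.2 x hx h1
  have h := T.inf_symm_piece hex (x := m * x * m⁻¹) (hmK ▸ cmap_mem m hx)
    (fun e => h1 (conj_eq_one_iff.1 e)) (fun e => hxu (by
      rw [← hm] at e
      exact mul_left_cancel (mul_right_cancel e)))
    (N.isComp_conj hc hL m) (hm ▸ cmap_mem m huL)
  rw [← hm, N.Qc_conj hu, N.Qc_conj hc, ← hmK, ← cmap_inf, ← cmap_inf] at h
  exact map_injective (MulEquiv.injective _) h

include T hex in
theorem Tensor.exists_comp {u w : G} (hu : N.Cz u) (hw : N.Cz w) (hwu : w ∈ N.Qc u) (hne : w ≠ u) :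
    ∃ K, N.IsComp u K ∧ w ∈ K := by
  obtain ⟨g, rfl⟩ := hu
  have hw' : g⁻¹ * w * g ∈ N.Q := by
    rw [N.Qc_eq rfl] at hwu; exact mem_cmap.1 hwu
  obtain ⟨k, c, -, hkc⟩ := T.conj_pure hw' (by simpa using N.cz_conj hw g⁻¹) fun e => hne (by
    rw [← e]; group)
  refine ⟨cmap g (T.piece k), N.isComp_conj N.cz_z (T.isComp_piece hex k) g, ?_⟩
  exact mem_cmap.2 (T.mem_piece.2 ⟨hw', c, hkc⟩)

end CfsgLib.ExtraNine
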