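import Cfsg.Agent.Lib.ExtraNine.Main
import Cfsg.Agent.S3300
import Cfsg.Agent.Lib.LargeExtra.SubExtra

/-!
The hypotheses of the main lemma from a large extraspecial subgroup of the centralizer.
-/

namespace CfsgLib.ExtraNine

open Subgroup Cfsg CfsgLib.LargeExtra

variable {G : Type*} [Group G] [Finite G] {z : G}

/-- The data from a self centralizing normal extraspecial subgroup of the centralizer. -/
theorem fData_of_self (hz : orderOf z = 2) (Q : Subgroup (centralizer ({z} : Set G))) [hn : Q.Normal]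
    (hQ : IsExtraspecial 2 Q) (hCQ : centralizer (Q : Set (centralizer ({z} : Set G))) ≤ Q) :
    IsExtraspecial 2 (Q.map (centralizer ({z} : Set G)).subtype) ∧
    FData (Q.map (centralizer ({z} : Set G)).subtype) z := by
  set E := Q.map (centralizer ({z} : Set G)).subtype with hE
  have hEC : E ≤ (centralizer ({z} : Set G)) := map_subtype_le _
  have hex : IsExtraspecial 2 E :=
    isExtraspecial_of_mulEquiv (Q.equivMapOfInjective (centralizer ({z} : Set G)).subtype (centralizer ({z} : Set G)).subtype_injective) hQ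
  have hzC : z ∈ (centralizer ({z} : Set G)) := mem_centralizer_singleton_iff.2 rfl
  have hzQ : z ∈ E := by
    refine ⟨⟨z, hzC⟩, hCQ (mem_centralizer_iff.2 fun y _ => Subtype.ext ?_), rfl⟩
    exact mem_centralizer_singleton_iff.1 y.2
  have hcz : ∀ y ∈ E, y * z = z * y := fun y hy => mem_centralizer_singleton_iff.1 (hEC hy)
  have hcentre : (center E).map E.subtype = zpowers z := by
    refine (eq_of_le_of_card_ge (K := (center E).map E.subtype)
      (zpowers_le.2 (show z ∈ (center E).map E.subtype from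
        ⟨⟨z, hzQ⟩, mem_center_iff.2 fun y => Subtype.ext (hcz y y.2), rfl⟩)) ?_).symm
    rw [card_map_of_injective E.subtype_injective, hex.2, Nat.card_zpowers, hz]
  refine ⟨hex, hex, hz, hcentre, ?_, ?_, hEC⟩
  · refine le_antisymm (fun x hx => ?_) ?_
    · rw [mem_centralizer_iff] at hx
      have hxC : x ∈ (centralizer ({z} : Set G)) := mem_centralizer_singleton_iff.2 (hx z hzQ).symm
      have hxQ : x ∈ E := ⟨⟨x, hxC⟩, hCQ (mem_centralizer_iff.2 fun y hy =>
        Subtype.ext (hx _ (mem_map_of_mem _ hy))), rfl⟩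
      exact ⟨⟨x, hxQ⟩, mem_center_iff.2 fun y => Subtype.ext (hx y y.2), rfl⟩
    · rintro _ ⟨x, hx, rfl⟩
      exact mem_centralizer_iff.2 fun y hy => congrArg Subtype.val (mem_center_iff.1 hx ⟨y, hy⟩)
  · haveI : (E.subgroupOf (centralizer ({z} : Set G))).Normal := by
      rw [hE, subgroupOf, comap_map_eq_self_of_injective (centralizer ({z} : Set G)).subtype_injective]
      exact hn
    exact (normal_subgroupOf_iff_le_normalizer hEC).1 inferInstance

/-- A simple group with an element of order three is generated by its elements of odd order. -/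
theorem pResidual_top [IsSimpleGroup G] {y : G} (hy : orderOf y = 3) : pResidual 2 G = ⊤ := by
  have hle : normalClosure ({y} : Set G) ≤ pResidual 2 G := by
    rw [normalClosure, closure_le]
    intro x hx
    refine subset_closure ?_
    obtain ⟨w, hw, hxw⟩ := Group.mem_conjugatesOfSet_iff.1 hx
    rw [Set.mem_singleton_iff] at hw
    obtain ⟨g, hg⟩ := isConj_iff.1 hxw
    show Nat.Coprime (orderOf x) 2
    rw [← hg, hw, ← MulAut.conj_apply, MulEquiv.orderOf_eq, hy]
    decide
  rcases IsSimpleGroup.eq_bot_or_eq_top_of_normal (normalClosure ({y} : Set G)) normalClosure_normal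
    with h | h
  · have hy1 : y ∈ normalClosure ({y} : Set G) := subset_normalClosure rfl
    rw [h, mem_bot] at hy1
    rw [hy1, orderOf_one] at hy
    omega
  · exact top_unique (h ▸ hle)

/-- The two symmetries of the first factor. -/
theorem sign_facts : Equiv.Perm.sign c3 = 1 ∧ Equiv.Perm.sign (Equiv.swap (0 : Fin 3) 1) = -1 ∧
    Equiv.Perm.sign (Equiv.swap (0 : Fin 6) 1) = -1 := by decide

/-- The contradiction from the quotient map. -/
theorem false_of_quotientMap [IsSimpleGroup G] (hz : orderOf z = 2)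
    (Q : Subgroup (centralizer ({z} : Set G))) [hn : Q.Normal]
    (hpc : Q = pCore 2 (centralizer ({z} : Set G)))
    (hQ : IsExtraspecial 2 Q) (hQ9 : Nat.card Q = 2 ^ 9)
    (hCQ : centralizer (Q : Set (centralizer ({z} : Set G))) ≤ Q)
    (φ : centralizer ({z} : Set G) →* P36) (hker : ∀ y, φ y = 1 ↔ y ∈ Q)
    (hc : ((c3, 1) : P36) ∈ φ.range) (ha : ∀ a : A6, ((1, (a : Equiv.Perm (Fin 6))) : P36) ∈ φ.range)
    (hodd : ∃ y, Equiv.Perm.sign (φ y).1 = -1) : False := by
  classical
  set E := Q.map (centralizer ({z} : Set G)).subtype with hE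
  obtain ⟨hex, F⟩ := fData_of_self hz Q hQ hCQ
  have hE9 : Nat.card E = 512 := by
    rw [hE, card_map_of_injective (centralizer ({z} : Set G)).subtype_injective, hQ9]; rfl
  obtain ⟨y3, hy3⟩ : ∃ y : G, orderOf y = 3 := by
    haveI : Fact (Nat.Prime 3) := ⟨Nat.prime_three⟩
    refine exists_prime_orderOf_dvd_card' 3 ?_
    obtain ⟨g, hg⟩ := hc
    have h3 : orderOf (φ g) = 3 := by
      rw [hg]
      exact orderOf_eq_prime (Prod.ext c3_facts.1 (one_pow 3)) fun e => c3_facts.2.1 (congrArg Prod.fst e)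
    exact (h3 ▸ (orderOf_map_dvd φ g).trans (orderOf_dvd_natCard g)).trans (card_subgroup_dvd_card (centralizer ({z} : Set G)))
  let χ : (centralizer ({z} : Set G)) →* ℤˣ := Equiv.Perm.sign.comp ((MonoidHom.fst _ _).comp φ)
  set K := χ.ker.map (centralizer ({z} : Set G)).subtype with hK
  have hidx : χ.ker.index = 2 := by
    rw [Subgroup.index_ker, MonoidHom.range_eq_top.2 ?_, Subgroup.card_top, Nat.card_eq_fintype_card]
    · rfl
    intro u
    rcases Int.units_eq_one_or u with rfl | rfl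
    · exact ⟨1, map_one _⟩
    · obtain ⟨y, hy⟩ := hodd
      exact ⟨y, hy⟩
  have hKn : ∀ h ∈ (centralizer ({z} : Set G)), K.map (MulAut.conj h).toMonoidHom = K := by
    intro h hh
    refine eq_of_le_of_card_ge ?_ (by rw [card_map_of_injective (f := (MulAut.conj h).toMonoidHom) (MulEquiv.injective _)])
    rintro _ ⟨_, ⟨k, hk, rfl⟩, rfl⟩
    exact ⟨⟨h, hh⟩ * k * (⟨h, hh⟩ : (centralizer ({z} : Set G)))⁻¹, Normal.conj_mem inferInstance k hk _, rfl⟩
  have hKi : K.relIndex (centralizer ({z} : Set G)) = 2 := by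
    rw [relIndex, hK, subgroupOf, comap_map_eq_self_of_injective (centralizer ({z} : Set G)).subtype_injective]
    exact hidx
  have hcent : centralizer (E : Set G) ≤ E := F.self ▸ map_subtype_le _
  obtain ⟨g, hg⟩ := Cfsg.Agent.S3300.result (pResidual_top hy3) z hz E (by rw [hE, hpc]) hex hcent 4
    (by norm_num) (by rw [hE9]; rfl) K (map_subtype_le _) hKn hKi
  refine false_of_quotient F hE9 ⟨g, hg⟩ φ (fun y => (hker y).trans ⟨fun hy => mem_map_of_mem _ hy, ?_⟩) hc ha
  rintro ⟨y', hy', e⟩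
  exact (Subtype.ext e : y' = y) ▸ hy'

theorem six_centraliser : ∀ s : Equiv.Perm (Fin 6), s * xA.1 = xA.1 * s → s * fA.1 = fA.1 * s →
    s * rA.1 = rA.1 * s → s = 1 := by decide +kernel

theorem three_centraliser : ∀ s : Equiv.Perm (Fin 3), s * c3 = c3 * s → s ^ 3 = 1 := by decide

/-- Between the two bounds there is no nontrivial normal subgroup of two power order. -/
theorem normal_two_trivial (X : Subgroup P36) (hc : ((c3, 1) : P36) ∈ X)
    (ha : ∀ a : A6, ((1, (a : Equiv.Perm (Fin 6))) : P36) ∈ X) (R : Subgroup X) [R.Normal]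
    (hR : IsPGroup 2 R) : R = ⊥ := by
  haveI : Fact (Nat.Prime 2) := ⟨Nat.prime_two⟩
  have hpow : ∀ r : X, r ∈ R → ∀ n : ℕ, Nat.Coprime 2 n → r ^ n = 1 → r = 1 := by
    intro r hr n hn e
    obtain ⟨k, hk⟩ := hR ⟨r, hr⟩
    have hk' : r ^ 2 ^ k = 1 := congrArg Subtype.val hk
    have h1 := Nat.dvd_gcd (orderOf_dvd_of_pow_eq_one hk') (orderOf_dvd_of_pow_eq_one e)
    rw [(hn.pow_left k).gcd_eq_one, Nat.dvd_one, orderOf_eq_one_iff] at h1
    exact h1
  let ι : A6 →* X := MonoidHom.mk' (fun a => ⟨(1, (a : Equiv.Perm (Fin 6))), ha a⟩)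
    fun a b => Subtype.ext (Prod.ext (one_mul _).symm rfl)
  have hN : R.comap ι = ⊥ := by
    haveI := isSimple_A6
    refine ((inferInstance : (R.comap ι).Normal).eq_bot_or_eq_top).resolve_right fun htop => ?_
    obtain ⟨f, hf, hf1⟩ := exists_five
    have hfR : ι f ∈ R := mem_comap.1 (htop.symm ▸ mem_top f)
    have := hpow _ hfR 5 (by norm_num) (by rw [← map_pow, hf, map_one])
    exact hf1 (Subtype.ext (congrArg (fun x : X => (x : P36).2) this))
  refine (eq_bot_iff_forall _).2 fun r hr => ?_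
  have h2 : ∀ a : A6, (r : P36).2 * a.1 = a.1 * (r : P36).2 := by
    intro a
    let b : A6 := ⟨(r : P36).2 * a.1 * (r : P36).2⁻¹ * a.1⁻¹,
      mul_mem (Normal.conj_mem inferInstance _ a.2 _) (inv_mem a.2)⟩
    have hb : ι b = r * ι a * r⁻¹ * (ι a)⁻¹ := Subtype.ext (Prod.ext (by simp [ι]) (by simp [ι, b]))
    have hbR : b ∈ R.comap ι := by
      rw [mem_comap, hb, mul_assoc, mul_assoc r]
      exact mul_mem hr (by
        rw [← mul_assoc]; exact Normal.conj_mem inferInstance _ (inv_mem hr) _)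
    rw [hN, mem_bot] at hbR
    have e : (r : P36).2 * a.1 * (r : P36).2⁻¹ * a.1⁻¹ = 1 := congrArg Subtype.val hbR
    exact mul_inv_eq_iff_eq_mul.1 (mul_inv_eq_one.1 e)
  have h1 : (r : P36).1 * c3 = c3 * (r : P36).1 := by
    set c : X := ⟨(c3, 1), hc⟩
    set b := r * c * r⁻¹ * c⁻¹ with hb
    have hbR : b ∈ R := by
      rw [hb, mul_assoc, mul_assoc r]
      exact mul_mem hr (by rw [← mul_assoc]; exact Normal.conj_mem inferInstance _ (inv_mem hr) _)
    have hb3 : b ^ 3 = 1 := by
      refine Subtype.ext (Prod.ext ?_ ?_)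
      · show ((r : P36).1 * c3 * (r : P36).1⁻¹ * c3⁻¹) ^ 3 = 1
        exact (by decide +kernel : ∀ s : Equiv.Perm (Fin 3), (s * c3 * s⁻¹ * c3⁻¹) ^ 3 = 1) _
      · show ((r : P36).2 * 1 * (r : P36).2⁻¹ * 1⁻¹) ^ 3 = 1
        simp
    have := congrArg (fun x : X => (x : P36).1) (hpow b hbR 3 (by norm_num) hb3)
    exact mul_inv_eq_iff_eq_mul.1 (mul_inv_eq_one.1 this)
  refine hpow r hr 3 (by norm_num) (Subtype.ext (Prod.ext (three_centraliser _ h1) ?_))
  show (r : P36).2 ^ 3 = 1
  rw [six_centraliser _ (h2 xA) (h2 fA) (h2 rA), one_pow]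

end CfsgLib.ExtraNine
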