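import Cfsg.Agent.Lib.ExtraNine.Comp

/-!
An elementary abelian subgroup of order sixty four whose elements are all conjugate to the central
involution, and the contradiction from its invariant form.
-/

namespace CfsgLib.ExtraNine

open Subgroup Cfsg CfsgLib.LargeExtra

variable {G : Type*} [Group G] [Finite G] {V : Type*} [AddCommGroup V] [Fintype V]

/-- What the pair of attached groups gives: the centralizer of the first summand. -/
structure BigElem {N : Nine G V} {D : Equiv.Perm V} (T : Tensor N.S N.ρ.range D) where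
  J : Subgroup G
  w : G
  comm : ∀ a ∈ J, ∀ b ∈ J, a * b = b * a
  le : T.piece 0 ≤ J
  w_mem : w ∈ J
  cent : centralizer ((T.piece 0 : Subgroup G) : Set G) = J
  inf_Q : ∀ y ∈ J, y ∈ N.Q → y ∈ T.piece 0
  cases : ∀ y ∈ J, y ∈ T.piece 0 ∨ w⁻¹ * y ∈ T.piece 0
  w_notMem : w ∉ N.Q
  le_C : J ≤ centralizer ({N.z} : Set G)
  twist : ∀ (hw : w ∈ centralizer ({N.z} : Set G)) (p : I4 × I4),
    N.ρ ⟨w, hw⟩ (T.e p) = T.e (sAct true p)
  cz : ∀ u ∈ J, u ≠ 1 → N.Cz u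
  card_inf : ∀ u ∈ J, u ≠ 1 → Nat.card (J ⊓ N.Qc u : Subgroup G) * 2 = Nat.card J

theorem split_perp : ∀ i : I4, ∃ j, om j e1 = 0 ∧ om (i + j) e2 = 0 := by decide

theorem sAct_false (p : I4 × I4) : sAct false p = p := rfl

theorem exists_bigElem {N : Nine G V} {D : Equiv.Perm V} (T : Tensor N.S N.ρ.range D)
    (hex : ∃ g : G, g * N.z * g⁻¹ ∈ N.Q ∧ g * N.z * g⁻¹ ≠ N.z) : Nonempty (BigElem T) := by
  classical
  set I := T.piece 0 with hI
  have hIc := T.isComp_piece hex 0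
  have hIcomm : ∀ a ∈ I, ∀ b ∈ I, a * b = b * a := fun a ha b hb => N.comm_of_isComp hIc ha hb
  have hzI : N.z ∈ I := N.z_mem_preim _
  have hget : ∀ i : I4, i ≠ 0 → ∃ (y : G) (hy : y ∈ N.Q), y ∈ I ∧ N.π ⟨y, hy⟩ = T.e (i, 0) ∧
      y ≠ 1 ∧ y ≠ N.z := by
    intro i hi
    obtain ⟨⟨y, hy⟩, hπ⟩ := N.surj (T.e (i, 0))
    have hne : N.π ⟨y, hy⟩ ≠ 0 := by
      rw [hπ]
      exact fun e => hi (congrArg Prod.fst (T.e.injective (e.trans T.e_zero.symm)))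
    exact ⟨y, hy, T.mem_piece.2 ⟨hy, i, hπ⟩, hπ, fun e => hne ((N.ker_iff _).2 (.inl e)),
      fun e => hne ((N.ker_iff _).2 (.inr e))⟩
  obtain ⟨x, hxQ, hxI, hxπ, hx1, hxz⟩ := hget e1 e1_ne
  obtain ⟨p, hpQ, hpI, hpπ, hp1, hpz⟩ := hget e2 basis_forms.2.2.2.2.2.2
  have hcx := T.piece_conj hex hxI hx1
  have hcp := T.piece_conj hex hpI hp1
  have he12 : om e2 e1 = 0 ∧ om e1 e2 = 0 := by decide
  have hpx : p ∈ N.Qc x := (T.mem_Qc_iff hxQ hpQ hcx e1_ne hxπ hpπ).2 he12.1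
  have hxp : x ∈ N.Qc p := N.Qc_symm hcx hcp hpx
  have hzx : N.z ∈ N.Qc x := N.Qc_symm N.cz_z hcx (N.Qc_z.symm ▸ hxQ)
  have hzp : N.z ∈ N.Qc p := N.Qc_symm N.cz_z hcp (N.Qc_z.symm ▸ hpQ)
  obtain ⟨L, hL, hzL⟩ := T.exists_comp hex hcx N.cz_z hzx (Ne.symm hxz)
  obtain ⟨Lp, hLp, hzLp⟩ := T.exists_comp hex hcp N.cz_z hzp (Ne.symm hpz)
  have eL : L ⊓ N.Qc N.z = I ⊓ N.Qc x := T.inf_symm hex N.cz_z hIc hxI hx1 hxz hL hzL
  have eLp : Lp ⊓ N.Qc N.z = I ⊓ N.Qc p := T.inf_symm hex N.cz_z hIc hpI hp1 hpz hLp hzLp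
  have hpL : p ∈ L := ((eL.symm ▸ ⟨hpI, hpx⟩ : p ∈ L ⊓ N.Qc N.z)).1
  have hxLp : x ∈ Lp := ((eLp.symm ▸ ⟨hxI, hxp⟩ : x ∈ Lp ⊓ N.Qc N.z)).1
  have hpx' : p ≠ x := by
    rintro rfl
    have : e1 = e2 := congrArg Prod.fst (T.e.injective (hxπ.symm.trans hpπ))
    exact absurd this (by decide)
  have eM : Lp ⊓ N.Qc x = L ⊓ N.Qc p := T.inf_symm hex hcx hL hpL hp1 hpx' hLp hxLp
  -- the two halves generate
  have hdec : ∀ η ∈ I, ∃ η1 ∈ I ⊓ N.Qc x, ∃ η2 ∈ I ⊓ N.Qc p, η = η1 * η2 := by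
    intro η hη
    obtain ⟨hηQ, i, hi⟩ := T.mem_piece.1 hη
    obtain ⟨j, hj1, hj2⟩ := split_perp i
    obtain ⟨⟨q, hq⟩, hqπ⟩ := N.surj (T.e (j, 0))
    have hqI : q ∈ I := T.mem_piece.2 ⟨hq, j, hqπ⟩
    refine ⟨q, ⟨hqI, (T.mem_Qc_iff hxQ hq hcx e1_ne hxπ hqπ).2 hj1⟩, q⁻¹ * η,
      ⟨I.mul_mem (I.inv_mem hqI) hη, ?_⟩, by group⟩
    refine (T.mem_Qc_iff hpQ (mul_mem (inv_mem hq) hηQ) hcp basis_forms.2.2.2.2.2.2 hpπ (i := i + j) ?_).2 hj2
    rw [show (⟨q⁻¹ * η, mul_mem (inv_mem hq) hηQ⟩ : ↥N.Q) = (⟨q, hq⟩ : ↥N.Q)⁻¹ * ⟨η, hηQ⟩ from rfl,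
      N.π_mul, N.π_inv, hqπ, hi, ← T.e_add]
    simp [dAct, add_comm j i]
  set J := centralizer ((I : Subgroup G) : Set G) with hJ
  have hIJ : I ≤ J := fun a ha => mem_centralizer_iff.2 fun b hb => hIcomm b hb a ha
  have hJC : J ≤ centralizer ({N.z} : Set G) := fun y hy =>
    mem_centralizer_singleton_iff.2 (mem_centralizer_iff.1 hy N.z hzI).symm
  have hJρ : ∀ y (hy : y ∈ J), ∃ b : Bool,
      ∀ q, N.ρ ⟨y, hJC hy⟩ (T.e q) = T.e (sAct b q) := by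
    intro y hy
    obtain ⟨k, b, t, ht, hyt⟩ := T.elt (N.ρ ⟨y, hJC hy⟩) ⟨_, rfl⟩
    have hfix : ∀ i : I4, dAct k (t i, 0) = (i, 0) := by
      intro i
      obtain ⟨⟨η, hη⟩, hηπ⟩ := N.surj (T.e (i, 0))
      have hηI : η ∈ I := T.mem_piece.2 ⟨hη, i, hηπ⟩
      have e1 : N.ρ ⟨y, hJC hy⟩ (T.e (i, 0)) = T.e (i, 0) := by
        rw [← hηπ, N.ρ_π]
        congr 1
        refine Subtype.ext ?_
        show y * η * y⁻¹ = η
        rw [← mem_centralizer_iff.1 hy η hηI, mul_inv_cancel_right]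
      rw [hyt] at e1
      have e2 := T.e.injective e1
      simp only [act, map_zero_of_mem ht] at e2
      cases b <;> simpa [sAct] using e2
    have hk : ∀ i : I4, i ≠ 0 → k = 0 ∧ t i = i := fun i hi =>
      dAct_inj k 0 (t i) i (fun e => hi (t.injective (e.trans (map_zero_of_mem ht).symm))) (hfix i)
    obtain ⟨rfl, -⟩ := hk e1 e1_ne
    have ht1 : ∀ i, t i = i := fun i => by
      by_cases hi : i = 0
      · rw [hi, map_zero_of_mem ht]
      · exact (hk i hi).2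
    exact ⟨b, fun q => by rw [hyt]; simp only [act, ht1]; rfl⟩
  have hJQ : ∀ y ∈ J, y ∈ N.Q → y ∈ I := by
    intro y hy hyQ
    obtain ⟨⟨a, b⟩, hab⟩ := T.e.surjective (N.π ⟨y, hyQ⟩)
    obtain rfl : b = 0 := by
      refine om_nondeg b fun i => ?_
      obtain ⟨⟨η, hη⟩, hηπ⟩ := N.surj (T.e (i, 0))
      have hηI : η ∈ I := T.mem_piece.2 ⟨hη, i, hηπ⟩
      have h0 := (N.B_eq_zero_iff ⟨η, hη⟩ ⟨y, hyQ⟩).2 (mem_centralizer_iff.1 hy η hηI)
      rw [hηπ, ← hab, B_e] at h0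
      simpa [om_zero_right, om_comm b i] using h0
    exact T.mem_piece.2 ⟨hyQ, a, hab.symm⟩
  have hnot : ∀ y (hy : y ∈ J), y ∉ I → ∀ q, N.ρ ⟨y, hJC hy⟩ (T.e q) = T.e (sAct true q) := by
    intro y hy hyI q
    obtain ⟨b, hb⟩ := hJρ y hy
    obtain rfl : b = true := by
      by_contra hne
      rw [Bool.not_eq_true] at hne
      subst hne
      refine hyI (hJQ y hy ((N.ρ_eq_one_iff ⟨y, hJC hy⟩).1 (Equiv.ext fun v => ?_)))
      obtain ⟨q, rfl⟩ := T.e.surjective v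
      rw [hb]; rfl
    exact hb q
  -- the new element
  obtain ⟨w, hwM, hwI⟩ : ∃ w, w ∈ L ⊓ N.Qc p ∧ w ∉ I := by
    by_contra hno
    push Not at hno
    have c1 := T.card_comp_inf hex hcx hL hpL hp1 hpx'
    have c2 := T.card_piece_inf hex hxI hx1 hxz
    have c3 := T.card_piece_inf hex hpI hp1 hpz
    rw [← hI] at c2 c3
    have e1' : L ⊓ N.Qc p = I ⊓ N.Qc x := by
      refine eq_of_le_of_card_ge (fun y hy => ?_) (by rw [c1, c2])
      rw [← eL]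
      exact ⟨hy.1, N.Qc_z.symm ▸ (T.mem_piece.1 (hno y hy)).1⟩
    have e2' : L ⊓ N.Qc p = I ⊓ N.Qc p := by
      refine eq_of_le_of_card_ge (fun y hy => ⟨hno y hy, hy.2⟩) (by rw [c1, c3])
    obtain ⟨i, hi1, hi2⟩ : ∃ i, om i e1 = 0 ∧ om i e2 ≠ 0 :=
      exists_perp_sep e1 e2 e1_ne basis_forms.2.2.2.2.2.2 (by decide)
    obtain ⟨⟨q, hq⟩, hqπ⟩ := N.surj (T.e (i, 0))
    have hqm : q ∈ I ⊓ N.Qc x :=
      ⟨T.mem_piece.2 ⟨hq, i, hqπ⟩, (T.mem_Qc_iff hxQ hq hcx e1_ne hxπ hqπ).2 hi1⟩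
    rw [← e1', e2'] at hqm
    exact hi2 ((T.mem_Qc_iff hpQ hq hcp basis_forms.2.2.2.2.2.2 hpπ hqπ).1 hqm.2)
  have hwJ : w ∈ J := by
    refine mem_centralizer_iff.2 fun η hη => ?_
    obtain ⟨η1, h1, η2, h2, rfl⟩ := hdec η hη
    have h1L : η1 ∈ L := ((eL.symm ▸ h1 : η1 ∈ L ⊓ N.Qc N.z)).1
    have h2L : η2 ∈ Lp := ((eLp.symm ▸ h2 : η2 ∈ Lp ⊓ N.Qc N.z)).1
    have hwLp : w ∈ Lp := ((eM.symm ▸ hwM : w ∈ Lp ⊓ N.Qc x)).1
    rw [mul_assoc, N.comm_of_isComp hLp h2L hwLp, ← mul_assoc, N.comm_of_isComp hL h1L hwM.1, mul_assoc]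
  have hwQ : w ∉ N.Q := fun h => hwI (hJQ w hwJ h)
  have hww : w * w = 1 := (N.cz_invol (hL.2.2 w hwM.1 fun e => hwI (e ▸ one_mem _))).1
  have hcases : ∀ y ∈ J, y ∈ I ∨ w⁻¹ * y ∈ I := by
    intro y hy
    by_cases hyI : y ∈ I
    · exact .inl hyI
    refine .inr (hJQ _ (mul_mem (inv_mem hwJ) hy) ((N.ρ_eq_iff ⟨w, hJC hwJ⟩ ⟨y, hJC hy⟩).1 ?_))
    refine Equiv.ext fun v => ?_
    obtain ⟨q, rfl⟩ := T.e.surjective v
    rw [hnot w hwJ hwI, hnot y hy hyI]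
  have hcomm : ∀ a ∈ J, ∀ b ∈ J, a * b = b * a := by
    have hw' : ∀ η ∈ I, w * η = η * w := fun η hη => (mem_centralizer_iff.1 hwJ η hη).symm
    intro a ha b hb
    rcases hcases a ha with h1 | h1 <;> rcases hcases b hb with h2 | h2
    · exact hIcomm a h1 b h2
    · exact mem_centralizer_iff.1 hb a h1
    · exact (mem_centralizer_iff.1 ha b h2).symm
    · calc a * b = (w * (w⁻¹ * a)) * (w * (w⁻¹ * b)) := by group
        _ = w * ((w⁻¹ * a) * w) * (w⁻¹ * b) := by group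
        _ = w * (w * (w⁻¹ * a)) * (w⁻¹ * b) := by rw [← hw' _ h1]
        _ = w * w * ((w⁻¹ * a) * (w⁻¹ * b)) := by group
        _ = w * w * ((w⁻¹ * b) * (w⁻¹ * a)) := by rw [hIcomm _ h1 _ h2]
        _ = w * (w * (w⁻¹ * b)) * (w⁻¹ * a) := by group
        _ = w * ((w⁻¹ * b) * w) * (w⁻¹ * a) := by rw [hw' _ h2]
        _ = b * a := by group
  have hIcard : Nat.card I = 32 := T.card_piece 0
  have hJcard : Nat.card J = 64 := by
    have hle : Nat.card J ≤ 2 * Nat.card (I.subgroupOf J) := by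
      refine card_le_two_mul _ fun b c hb hc => ?_
      simp only [mem_subgroupOf] at hb hc ⊢
      have := mul_mem (inv_mem ((hcases b b.2).resolve_left hb)) ((hcases c c.2).resolve_left hc)
      simpa [mul_assoc] using this
    rw [Nat.card_congr (subgroupOfEquivOfLe hIJ).toEquiv, hIcard] at hle
    obtain ⟨c, hc⟩ := card_dvd_of_le hIJ
    rw [hIcard] at hc
    have hne : Nat.card J ≠ 32 := fun e =>
      hwI ((eq_of_le_of_card_ge hIJ (by rw [e, hIcard])).symm ▸ hwJ)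
    have hpos : 0 < Nat.card J := Nat.card_pos
    generalize Nat.card J = n at hle hc hne hpos ⊢
    omega
  -- the intersection with the conjugate
  have hLJ : L ≤ J := by
    have hD : L ⊓ N.Qc N.z ≤ L ⊓ J := le_inf inf_le_left (by rw [eL]; exact inf_le_left.trans hIJ)
    have hc16 : Nat.card (L ⊓ N.Qc N.z : Subgroup G) = 16 := by
      rw [eL]; exact T.card_piece_inf hex hxI hx1 hxz
    have h16 := card_dvd_of_le hD
    have h32 := card_dvd_of_le (inf_le_left : L ⊓ J ≤ L)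
    rw [hc16] at h16
    rw [hL.2.1] at h32
    have hne : Nat.card (L ⊓ J : Subgroup G) ≠ 16 := fun e => by
      have := eq_of_le_of_card_ge hD (by rw [e, hc16])
      exact hwI (((eL ▸ this.symm ▸ ⟨hwM.1, hwJ⟩ : w ∈ I ⊓ N.Qc x)).1)
    have heq : L ⊓ J = L := eq_of_le_of_card_ge inf_le_left (by
      rw [hL.2.1]
      obtain ⟨c, hc⟩ := h16
      have hle := Nat.le_of_dvd (by norm_num) h32
      generalize Nat.card (L ⊓ J : Subgroup G) = n at hc hne hle h32 ⊢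
      have hn : n ≠ 0 := fun e => by rw [e] at h32; norm_num at h32
      omega)
    exact inf_eq_left.1 heq
  have hJx : J ⊓ N.Qc x = L := by
    refine (eq_of_le_of_card_ge (le_inf hLJ hL.1) ?_).symm
    rw [hL.2.1]
    have h64 := card_dvd_of_le (inf_le_left : J ⊓ N.Qc x ≤ J)
    rw [hJcard] at h64
    have hne : Nat.card (J ⊓ N.Qc x : Subgroup G) ≠ 64 := fun e => by
      have heq : J ⊓ N.Qc x = J := eq_of_le_of_card_ge inf_le_left (by rw [e, hJcard])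
      have h16 := T.card_piece_inf hex hxI hx1 hxz
      rw [show T.piece 0 ⊓ N.Qc x = I from inf_eq_left.2 (hIJ.trans (inf_eq_left.1 heq)), hIcard] at h16
      omega
    have hle := Nat.le_of_dvd (by norm_num) h64
    obtain ⟨c, hc⟩ := h64
    by_contra hlt
    push Not at hlt
    generalize Nat.card (J ⊓ N.Qc x : Subgroup G) = n at hc hne hlt hle
    have : c ≤ 1 := by
      by_contra h2
      push Not at h2
      nlinarith
    interval_cases c <;> omega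
  have hcardx : Nat.card (J ⊓ N.Qc x : Subgroup G) = 32 := by rw [hJx, hL.2.1]
  -- invariance
  have hJinv : ∀ (m : G) (K : Subgroup G), cmap m I = K → cmap m J = centralizer (K : Set G) := by
    rintro m K rfl
    ext y
    rw [mem_cmap, mem_centralizer_iff, mem_centralizer_iff]
    constructor
    · intro h q hq
      have e := h _ (mem_cmap.1 hq)
      calc q * y = m * (m⁻¹ * q * m * (m⁻¹ * y * m)) * m⁻¹ := by group
        _ = m * (m⁻¹ * y * m * (m⁻¹ * q * m)) * m⁻¹ := by rw [e]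
        _ = _ := by group
    · intro h η hη
      have e := h _ (cmap_mem m hη)
      calc η * (m⁻¹ * y * m) = m⁻¹ * (m * η * m⁻¹ * y) * m := by group
        _ = m⁻¹ * (y * (m * η * m⁻¹)) * m := by rw [e]
        _ = _ := by group
  have htrans : ∀ m : G, cmap m J = J → ∀ u, N.Cz u →
      Nat.card (J ⊓ N.Qc (m * u * m⁻¹) : Subgroup G) = Nat.card (J ⊓ N.Qc u : Subgroup G) := by
    intro m hm u hu
    rw [N.Qc_conj hu]
    conv_lhs => rw [← hm, ← cmap_inf, card_cmap]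
  have hη32 : ∀ η ∈ I, η ≠ 1 → Nat.card (J ⊓ N.Qc η : Subgroup G) = 32 := by
    intro η hη h1
    by_cases hηz : η = N.z
    · rw [hηz, N.Qc_z]
      rw [show J ⊓ N.Q = I from le_antisymm (fun y hy => hJQ y hy.1 hy.2)
        (le_inf hIJ fun y hy => (T.mem_piece.1 hy).1)]
      exact hIcard
    obtain ⟨hηQ, a, ha⟩ := T.mem_piece.1 hη
    have ha0 : a ≠ 0 := by
      rintro rfl
      rw [dAct_zero, T.e_zero] at ha
      rcases (N.ker_iff _).1 ha with e | e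
      exacts [h1 e, hηz e]
    obtain ⟨t, ht, ⟨g, ⟨m, rfl⟩, hge⟩, hta⟩ := T.trans e1 a e1_ne ha0
    have hmI : cmap (m : G) I = I := by
      refine eq_of_le_of_card_ge ?_ (by rw [card_cmap])
      intro y hy
      obtain ⟨hyQ, i, hi⟩ := T.mem_piece.1 (mem_cmap.1 hy)
      have hy' : y = (m : G) * ((m : G)⁻¹ * y * m) * (m : G)⁻¹ := by group
      refine T.mem_piece.2 ⟨hy'.symm ▸ N.conj_mem m.2 ⟨_, hyQ⟩, t i, ?_⟩
      have e := congrArg (N.ρ m) hi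
      rw [N.ρ_π, hge] at e
      simp only [dAct, map_zero_of_mem ht] at e
      simp only [dAct]
      rw [← e]
      congr 1
      exact Subtype.ext hy'
    have e : N.π ⟨(m : G) * x * (m : G)⁻¹, N.conj_mem m.2 ⟨x, hxQ⟩⟩ = N.π ⟨η, hηQ⟩ := by
      rw [show N.π ⟨(m : G) * x * (m : G)⁻¹, N.conj_mem m.2 ⟨x, hxQ⟩⟩ = N.ρ m (N.π ⟨x, hxQ⟩) from
        (N.ρ_π m ⟨x, hxQ⟩).symm, hxπ, hge, ha]
      simp only [dAct, hta, map_zero_of_mem ht]
    have hmJ : cmap (m : G) J = J := hJinv _ _ hmI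
    rcases N.π_eq e with e' | e'
    · rw [show η = (m : G) * x * (m : G)⁻¹ from e', htrans _ hmJ x hcx, hcardx]
    · obtain ⟨g0, hg0⟩ := hcx
      have hxQ' : g0 * N.z * g0⁻¹ ∈ N.Q := hg0.symm ▸ hxQ
      obtain ⟨q, hq, hqx⟩ := (N.pairHyp hxQ' (hg0.symm ▸ hxz)).automizer.1
      rw [hg0] at hqx
      have hqI : cmap q I = I := by
        refine eq_of_le_of_card_ge ?_ (by rw [card_cmap])
        intro y hy
        obtain ⟨hyQ, i, hi⟩ := T.mem_piece.1 (mem_cmap.1 hy)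
        have hy' : y = q * (q⁻¹ * y * q) * q⁻¹ := by group
        have hqC := N.F.le hq
        refine T.mem_piece.2 ⟨hy'.symm ▸ N.conj_mem hqC ⟨_, hyQ⟩, i, ?_⟩
        have e := congrArg (N.ρ ⟨q, hqC⟩) hi
        rw [N.ρ_π, (N.ρ_eq_one_iff ⟨q, hqC⟩).2 hq] at e
        rw [Equiv.Perm.one_apply] at e
        rw [← e]
        congr 1
        exact Subtype.ext hy'
      have hmqJ : cmap ((m : G) * q) J = J := hJinv _ _ (by rw [← cmap_cmap, hqI, hmI])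
      have hη' : η = ((m : G) * q) * x * ((m : G) * q)⁻¹ := by
        have e'' : η = (m : G) * x * (m : G)⁻¹ * N.z := e'
        rw [e'', show ((m : G) * q) * x * ((m : G) * q)⁻¹ = (m : G) * (q * x * q⁻¹) * (m : G)⁻¹ by group, hqx]
        calc (m : G) * x * (m : G)⁻¹ * N.z =
            (m : G) * x * (m : G)⁻¹ * ((m : G) * N.z * (m : G)⁻¹) := by rw [N.conj_z m.2]
          _ = (m : G) * (x * N.z) * (m : G)⁻¹ := by group
          _ = (m : G) * (N.z * x) * (m : G)⁻¹ := by rw [N.z_comm hxQ]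
      rw [hη', htrans _ hmqJ x ⟨g0, hg0⟩, hcardx]
  have hall : ∀ u ∈ J, u ≠ 1 → N.Cz u ∧ Nat.card (J ⊓ N.Qc u : Subgroup G) = 32 := by
    intro u hu h1
    by_cases huI : u ∈ I
    · exact ⟨T.piece_conj hex huI h1, hη32 u huI h1⟩
    have hi := (hcases u hu).resolve_left huI
    obtain ⟨hiQ, i, hiπ⟩ := T.mem_piece.1 hi
    obtain ⟨⟨r, hr⟩, hrπ⟩ := N.surj (T.e (0, i))
    have hwC := hJC hwJ
    have hδQ : r * w * r⁻¹ * w⁻¹ ∈ N.Q := by
      have h1 := N.conj_mem hwC (⟨r, hr⟩ : ↥N.Q)⁻¹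
      simp only [InvMemClass.coe_inv] at h1
      have := mul_mem hr h1
      simpa [mul_assoc] using this
    have hδπ : N.π ⟨r * w * r⁻¹ * w⁻¹, hδQ⟩ = T.e (i, 0) := by
      have e : (⟨r * w * r⁻¹ * w⁻¹, hδQ⟩ : ↥N.Q) =
          ⟨r, hr⟩ * ⟨w * ((⟨r, hr⟩ : ↥N.Q)⁻¹ : ↥N.Q) * w⁻¹, N.conj_mem hwC _⟩ :=
        Subtype.ext (by simp [mul_assoc])
      rw [e, N.π_mul, show N.π ⟨w * ((⟨r, hr⟩ : ↥N.Q)⁻¹ : ↥N.Q) * w⁻¹, N.conj_mem hwC _⟩ =
        N.ρ ⟨w, hwC⟩ (N.π (⟨r, hr⟩ : ↥N.Q)⁻¹) from (N.ρ_π ⟨w, hwC⟩ (⟨r, hr⟩ : ↥N.Q)⁻¹).symm,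
        N.π_inv, hrπ, hnot w hwJ hwI, ← T.e_add]
      simp [sAct, i4_two]
    have hrI : cmap r I = I := by
      refine eq_of_le_of_card_ge ?_ (by rw [card_cmap])
      intro y hy
      obtain ⟨hyQ, i', hi'⟩ := T.mem_piece.1 (mem_cmap.1 hy)
      have hy' : y = r * (r⁻¹ * y * r) * r⁻¹ := by group
      have hrC := N.F.le hr
      refine T.mem_piece.2 ⟨hy'.symm ▸ N.conj_mem hrC ⟨_, hyQ⟩, i', ?_⟩
      have e := congrArg (N.ρ ⟨r, hrC⟩) hi'
      rw [N.ρ_π, (N.ρ_eq_one_iff ⟨r, hrC⟩).2 hr, Equiv.Perm.one_apply] at e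
      rw [← e]
      congr 1
      exact Subtype.ext hy'
    obtain ⟨y0, hy0, huy⟩ : ∃ y0 ∈ L, u = r * y0 * r⁻¹ := by
      have hπeq : N.π ⟨r * w * r⁻¹ * w⁻¹, hδQ⟩ = N.π ⟨w⁻¹ * u, hiQ⟩ := by
        rw [hδπ, hiπ]; rfl
      rcases N.π_eq hπeq with e | e
      · refine ⟨w, hwM.1, ?_⟩
        have e' : w⁻¹ * u = r * w * r⁻¹ * w⁻¹ := e
        calc u = w * (w⁻¹ * u) := by group
          _ = (w⁻¹ * u) * w := mem_centralizer_iff.1 hwJ _ hi |>.symm
          _ = r * w * r⁻¹ := by rw [e']; group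
      · refine ⟨w * N.z, mul_mem hwM.1 hzL, ?_⟩
        have e' : w⁻¹ * u = r * w * r⁻¹ * w⁻¹ * N.z := e
        have hwz : N.z * w = w * N.z := mem_centralizer_iff.1 hwJ _ hzI
        have hrz : N.z * r⁻¹ = r⁻¹ * N.z := (N.z_comm (inv_mem hr)).symm
        calc u = w * (w⁻¹ * u) := by group
          _ = (w⁻¹ * u) * w := mem_centralizer_iff.1 hwJ _ hi |>.symm
          _ = r * w * r⁻¹ * w⁻¹ * (N.z * w) := by rw [e']; group
          _ = r * w * r⁻¹ * N.z := by rw [hwz]; group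
          _ = r * (w * N.z) * r⁻¹ := by rw [mul_assoc (r * w), ← hrz]; group
    have hy01 : y0 ≠ 1 := fun e => h1 (by rw [huy, e]; group)
    obtain ⟨m, -, hmL⟩ := T.exists_conj_comp hex N.cz_z hcx hIc hL
    have hmJ : cmap m J = J := by
      rw [hJinv m L hmL]
      refine (eq_of_le_of_card_ge (fun y hy => mem_centralizer_iff.2 fun l hl => ?_) ?_).symm
      · exact hcomm l (hLJ hl) y hy
      · rw [← hJinv m L hmL, card_cmap]
    have hη : m⁻¹ * y0 * m ∈ I := mem_cmap.1 (hmL.symm ▸ hy0)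
    have hη1 : m⁻¹ * y0 * m ≠ 1 := fun e => hy01 (by
      calc y0 = m * (m⁻¹ * y0 * m) * m⁻¹ := by group
        _ = 1 := by rw [e]; group)
    have hy0e : y0 = m * (m⁻¹ * y0 * m) * m⁻¹ := by group
    have hcy : N.Cz y0 := hL.2.2 y0 hy0 hy01
    have h32 : Nat.card (J ⊓ N.Qc y0 : Subgroup G) = 32 := by
      rw [hy0e, htrans m hmJ _ (T.piece_conj hex hη hη1), hη32 _ hη hη1]
    refine ⟨huy ▸ N.cz_conj hcy r, ?_⟩
    rw [huy, htrans r (hJinv r I hrI) y0 hcy, h32]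
  exact ⟨⟨J, w, hcomm, hIJ, hwJ, rfl, hJQ, hcases, hwQ, hJC, fun hw q => hnot w hwJ hwI q,
    fun u hu h => (hall u hu h).1, fun u hu h => by rw [(hall u hu h).2, hJcard]⟩⟩

/-- No conjugate of the central involution lies in its extraspecial subgroup, given the coordinates. -/
theorem false_of_tensor {N : Nine G V} {D : Equiv.Perm V} (T : Tensor N.S N.ρ.range D)
    (hex : ∃ g : G, g * N.z * g⁻¹ ∈ N.Q ∧ g * N.z * g⁻¹ ≠ N.z) : False := by
  classical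
  obtain ⟨B⟩ := exists_bigElem T hex
  set I := T.piece 0 with hI
  set J := B.J with hJ
  set w := B.w with hw
  let β : G → G → ZMod 2 := fun u y => if u = 1 ∨ y ∈ N.Qc u then 0 else 1
  have hsymm : ∀ u ∈ J, ∀ y ∈ J, β u y = β y u := by
    intro u hu y hy
    simp only [β]
    by_cases h1 : u = 1
    · subst h1; simp
    by_cases h2 : y = 1
    · subst h2; simp
    have hiff : y ∈ N.Qc u ↔ u ∈ N.Qc y :=
      ⟨N.Qc_symm (B.cz u hu h1) (B.cz y hy h2), N.Qc_symm (B.cz y hy h2) (B.cz u hu h1)⟩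
    simp [h1, h2, hiff]
  have hadd : ∀ u ∈ J, ∀ y ∈ J, ∀ y' ∈ J, β u (y * y') = β u y + β u y' := by
    intro u hu y hy y' hy'
    simp only [β]
    by_cases h1 : u = 1
    · simp [h1]
    have hidx : ((J ⊓ N.Qc u).subgroupOf J).index = 2 := by
      have h := ((J ⊓ N.Qc u).subgroupOf J).index_mul_card
      rw [Nat.card_congr (subgroupOfEquivOfLe inf_le_left).toEquiv, ← B.card_inf u hu h1, mul_comm] at h
      exact Nat.eq_of_mul_eq_mul_left Nat.card_pos h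
    have hm := Subgroup.mul_mem_iff_of_index_two hidx (a := ⟨y, hy⟩) (b := ⟨y', hy'⟩)
    simp only [mem_subgroupOf, Subgroup.coe_mul, mem_inf, hy, hy', mul_mem hy hy', true_and] at hm
    by_cases a1 : y ∈ N.Qc u <;> by_cases a2 : y' ∈ N.Qc u <;>
      simp [h1, hm, a1, a2, show (1 : ZMod 2) + 1 = 0 from rfl]
  have hadd' : ∀ u ∈ J, ∀ u' ∈ J, ∀ y ∈ J, β (u * u') y = β u y + β u' y := by
    intro u hu u' hu' y hy
    rw [hsymm _ (mul_mem hu hu') y hy, hadd y hy u hu u' hu', hsymm u hu y hy, hsymm u' hu' y hy]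
  have hinv : ∀ m u y, N.Cz u ∨ u = 1 → β (m * u * m⁻¹) (m * y * m⁻¹) = β u y := by
    intro m u y hu
    simp only [β]
    rcases hu with hu | rfl
    · have h1 : u ≠ 1 := (N.cz_invol hu).2
      have h1' : m * u * m⁻¹ ≠ 1 := fun e => h1 (conj_eq_one_iff.1 e)
      have hiff : m * y * m⁻¹ ∈ N.Qc (m * u * m⁻¹) ↔ y ∈ N.Qc u := by
        rw [N.Qc_conj hu, mem_cmap]; simp [mul_assoc]
      simp [h1, h1', hiff]
    · simp
  have hzI : N.z ∈ I := N.z_mem_preim _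
  have hzJ := B.le hzI
  have hcoord : ∀ η ∈ I, ∃ (hη : η ∈ N.Q) (i : I4), N.π ⟨η, hη⟩ = T.e (i, 0) := fun η hη => by
    obtain ⟨h, i, hi⟩ := T.mem_piece.1 hη
    exact ⟨h, i, hi⟩
  have hβI : ∀ η ∈ I, ∀ ζ ∈ I, ∀ (hη : η ∈ N.Q) (hζ : ζ ∈ N.Q) (i j : I4),
      N.π ⟨η, hη⟩ = T.e (i, 0) → N.π ⟨ζ, hζ⟩ = T.e (j, 0) → β η ζ = om j i := by
    intro η hη ζ hζ hηQ hζQ i j hi hj
    simp only [β]
    by_cases hi0 : i = 0
    · subst hi0
      rw [om_zero_right, if_pos]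
      rw [T.e_zero] at hi
      rcases (N.ker_iff _).1 hi with e | e
      · exact .inl e
      · refine .inr ?_
        rw [show η = N.z from e, N.Qc_z]
        exact hζQ
    · have h1 : η ≠ 1 := fun e => hi0 (congrArg Prod.fst (T.e.injective
        ((hi.symm.trans ((N.ker_iff _).2 (.inl e))).trans T.e_zero.symm)))
      have hiff := T.mem_Qc_iff hηQ hζQ (T.piece_conj hex hη h1) hi0 hi hj
      rcases zcases (om j i) with h | h <;> simp [h1, hiff, h]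
  -- the commutators with the outside element
  have hwC := B.le_C B.w_mem
  let δ : ↥N.Q → G := fun r => (r : G) * w * (r : G)⁻¹ * w⁻¹
  have hδQ : ∀ r, δ r ∈ N.Q := by
    intro r
    have h1 := N.conj_mem hwC r⁻¹
    simp only [InvMemClass.coe_inv] at h1
    have := mul_mem r.2 h1
    simpa [δ, mul_assoc] using this
  have hδπ : ∀ (r : ↥N.Q) a b, N.π r = T.e (a, b) → N.π ⟨δ r, hδQ r⟩ = T.e (b, 0) := by
    intro r a b hr
    have e : (⟨δ r, hδQ r⟩ : ↥N.Q) = r * ⟨w * (r⁻¹ : ↥N.Q) * w⁻¹, N.conj_mem hwC _⟩ :=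
      Subtype.ext (by simp [δ, mul_assoc])
    rw [e, N.π_mul, show N.π ⟨w * (r⁻¹ : ↥N.Q) * w⁻¹, N.conj_mem hwC _⟩ =
      N.ρ ⟨w, hwC⟩ (N.π r⁻¹) from (N.ρ_π ⟨w, hwC⟩ r⁻¹).symm, N.π_inv, hr, B.twist, ← T.e_add]
    congr 1
    simp only [sAct, if_true, Prod.mk_add_mk]
    rw [← add_assoc, i4_two, zero_add, i4_two]
  have hδI : ∀ r, δ r ∈ I := fun r => by
    obtain ⟨⟨a, b⟩, hab⟩ := T.e.surjective (N.π r)
    exact T.mem_piece.2 ⟨hδQ r, b, hδπ r a b hab.symm⟩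
  let ε : ↥N.Q → ZMod 2 := fun r => β w (δ r)
  let Z : ZMod 2 → G := fun c => if c = 0 then 1 else N.z
  have hZI : ∀ c, Z c ∈ I := fun c => by
    simp only [Z]; split_ifs
    exacts [one_mem _, hzI]
  have hwJ := B.w_mem
  have hw1 : w ≠ 1 := fun e => B.w_notMem (show w ∈ N.Q from e ▸ one_mem _)
  have hβZ : ∀ c, β w (Z c) = c := by
    intro c
    rcases zcases c with rfl | rfl
    · simp [β, Z]
    · rw [hsymm w hwJ _ (B.le (hZI 1))]
      simp [β, Z, N.z_ne, N.Qc_z, B.w_notMem]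
      exact B.w_notMem
  have hconj : ∀ (r s : ↥N.Q), (r : G) * s * (r : G)⁻¹ = Z (N.S.B (N.π r) (N.π s)) * s := by
    intro r s
    rw [← mul_inv_eq_iff_eq_mul, N.comm r s]
  have hadd2 : ∀ (r r' : ↥N.Q) a b a' b', N.π r = T.e (a, b) → N.π r' = T.e (a', b') →
      ε (r * r') = ε r + ε r' + om b' b := by
    intro r r' a b a' b' hr hr'
    have e : δ (r * r') = Z (N.S.B (N.π r) (N.π ⟨δ r', hδQ r'⟩)) * δ r' * δ r := by
      rw [← hconj r ⟨δ r', hδQ r'⟩]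
      simp [δ, mul_assoc]
    simp only [ε]
    rw [e, hadd w hwJ _ (mul_mem (B.le (hZI _)) (B.le (hδI r'))) _ (B.le (hδI r)),
      hadd w hwJ _ (B.le (hZI _)) _ (B.le (hδI r')), hβZ, hr, hδπ r' a' b' hr', B_e]
    simp only [om_zero_right, zero_add]
    ring
  have hεI : ∀ (r : ↥N.Q), (r : G) ∈ I → ε r = 0 := by
    intro r hr
    have e : δ r = 1 := by
      simp only [δ]
      rw [B.comm (r : G) (B.le hr) w hwJ]
      group
    simp only [ε, e, β]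
    simp
  let rr : I4 → ↥N.Q := fun b => Function.surjInv N.surj (T.e (0, b))
  have hrr : ∀ b, N.π (rr b) = T.e (0, b) := fun b => Function.surjInv_eq N.surj _
  let q : I4 → ZMod 2 := fun b => ε (rr b)
  have hεq : ∀ (r : ↥N.Q) a b, N.π r = T.e (a, b) → ε r = q b := by
    intro r a b hr
    set s := (rr b)⁻¹ * r with hs
    have hsπ : N.π s = T.e (a, 0) := by
      rw [hs, N.π_mul, N.π_inv, hrr, hr, ← T.e_add]
      simp [i4_two]
    have hsI : (s : G) ∈ I := T.mem_piece.2 ⟨s.2, a, hsπ⟩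
    have e : r = rr b * s := by rw [hs, mul_inv_cancel_left]
    rw [e, hadd2 _ _ _ _ _ _ (hrr b) hsπ, hεI s hsI, om_zero_left, add_zero, add_zero]
  have hquad : ∀ u v, q (u + v) = q u + q v + om v u := by
    intro u v
    have hπ : N.π (rr u * rr v) = T.e (0, u + v) := by
      rw [N.π_mul, hrr, hrr, ← T.e_add]; simp
    rw [← hεq _ _ _ hπ, hadd2 _ _ _ _ _ _ (hrr u) (hrr v)]
  have hinvq : ∀ c c' : I4, c ≠ 0 → c' ≠ 0 → q c = q c' := by
    intro c c' hc hc'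
    obtain ⟨t, ht, ⟨g, ⟨m, rfl⟩, hge⟩, rfl⟩ := T.trans c c' hc hc'
    set r := rr c
    set r' : ↥N.Q := ⟨(m : G) * r * (m : G)⁻¹, N.conj_mem m.2 r⟩ with hr'
    have hr'π : N.π r' = T.e (0, t c) := by
      rw [hr', show N.π ⟨(m : G) * r * (m : G)⁻¹, N.conj_mem m.2 r⟩ = N.ρ m (N.π r) from
        (N.ρ_π m r).symm, hrr, hge]
      simp only [map_zero_of_mem ht]
    have hmI : ∀ η ∈ I, (m : G) * η * (m : G)⁻¹ ∈ I := by
      intro η hη
      obtain ⟨hηQ, i, hi⟩ := hcoord η hη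
      refine T.mem_piece.2 ⟨N.conj_mem m.2 ⟨η, hηQ⟩, t i, ?_⟩
      rw [show N.π ⟨(m : G) * η * (m : G)⁻¹, N.conj_mem m.2 ⟨η, hηQ⟩⟩ = N.ρ m (N.π ⟨η, hηQ⟩) from
        (N.ρ_π m ⟨η, hηQ⟩).symm, hi, hge]
      simp only [map_zero_of_mem ht, dAct]
    have hmw : (m : G) * w * (m : G)⁻¹ ∈ J := by
      rw [hJ, ← B.cent]
      refine mem_centralizer_iff.2 fun η hη => ?_
      have hη' : (m : G)⁻¹ * η * m ∈ I := by
        obtain ⟨hηQ, i, hi⟩ := hcoord η hη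
        refine T.mem_piece.2 ⟨by simpa using N.conj_mem (inv_mem m.2) ⟨η, hηQ⟩, t⁻¹ i, ?_⟩
        have e : N.ρ m⁻¹ (T.e (i, 0)) = T.e (t⁻¹ i, 0) := by
          rw [map_inv, Equiv.Perm.inv_eq_iff_eq, hge]
          simp [map_zero_of_mem ht]
        rw [← hi, N.ρ_π] at e
        simp only [dAct]
        rw [← e]
        congr 1
        exact Subtype.ext (by simp [mul_assoc])
      have hc := mem_centralizer_iff.1 (show w ∈ centralizer ((I : Subgroup G) : Set G) by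
        rw [hI, B.cent]; exact hwJ) _ hη'
      calc η * ((m : G) * w * (m : G)⁻¹) = (m : G) * ((m : G)⁻¹ * η * m * w) * (m : G)⁻¹ := by group
        _ = (m : G) * (w * ((m : G)⁻¹ * η * m)) * (m : G)⁻¹ := by rw [hc]
        _ = _ := by group
    set η := (m : G) * w * (m : G)⁻¹ * w⁻¹ with hη
    have hmwQ : (m : G) * w * (m : G)⁻¹ ∉ N.Q := fun h => B.w_notMem (by
      have := N.conj_mem (inv_mem m.2) ⟨_, h⟩
      simpa [mul_assoc] using this)
    have hηI : η ∈ I := by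
      rcases B.cases _ hmw with h | h
      · exact absurd (T.mem_piece.1 h).1 hmwQ
      · rwa [hη, B.comm _ hmw _ (inv_mem hwJ)]
    obtain ⟨hηQ, i, hi⟩ := hcoord η hηI
    set cc := N.S.B (N.π r') (N.π ⟨η, hηQ⟩) with hcc
    have hccval : cc = om i (t c) := by
      rw [hcc, hr'π, hi, B_e]
      simp [om_zero_left]
    have hmδ : (m : G) * δ r * (m : G)⁻¹ = Z cc * δ r' := by
      have e1' : (m : G) * δ r * (m : G)⁻¹ = (r' : G) * η * (r' : G)⁻¹ * δ r' * η⁻¹ := by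
        simp only [δ, hη, hr', mul_inv_rev, inv_inv]
        group
      rw [e1', hconj r' ⟨η, hηQ⟩, mul_assoc (Z cc), B.comm η (B.le hηI) _ (B.le (hδI r'))]
      group
    have hmw' : (m : G) * w * (m : G)⁻¹ = η * w := by rw [hη]; group
    have e2 := hinv (m : G) w (δ r) (.inl (B.cz w hwJ hw1))
    rw [hmδ, hmw', hadd' η (B.le hηI) w hwJ _ (mul_mem (B.le (hZI _)) (B.le (hδI r'))),
      hadd η (B.le hηI) _ (B.le (hZI _)) _ (B.le (hδI r')), hadd w hwJ _ (B.le (hZI _)) _ (B.le (hδI r')),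
      hβI η hηI _ (hδI r') hηQ (hδQ r') i (t c) hi (hδπ r' _ _ hr'π), hβZ, hccval] at e2
    have h0 : β η (Z (om i (t c))) = 0 := by
      have hZ : Z (om i (t c)) = 1 ∨ Z (om i (t c)) = N.z := by simp only [Z]; split_ifs <;> simp
      have hZQ : Z (om i (t c)) ∈ N.Q := by
        rcases hZ with e | e <;> rw [e]
        exacts [one_mem _, N.z_mem]
      rw [hβI η hηI _ (hZI _) hηQ hZQ i 0 hi (by
        rw [T.e_zero]; exact (N.ker_iff _).2 hZ), om_zero_left]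
    have e3 : ε r = ε r' := by
      simp only [ε]
      rw [← e2, h0, om_comm (t c) i, zero_add, ← add_assoc, CharTwo.add_self_eq_zero, zero_add]
    show ε r = _
    rw [e3, hεq r' 0 (t c) hr'π]
  obtain ⟨u, v, hu, hv, huv, hne⟩ := not_const (q e1)
  refine hne ?_
  have h := hquad u v
  rw [hinvq _ e1 huv e1_ne, hinvq u e1 hu e1_ne, hinvq v e1 hv e1_ne] at h
  rw [om_comm]
  revert h
  generalize q e1 = c
  generalize om v u = d
  revert c d
  decide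

end CfsgLib.ExtraNine
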