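import Cfsg.Agent.Lib.ExtraNine.Final

/-!
No conjugate of the central involution lies in its extraspecial subgroup of order `2^9` when the quotient
of the centralizer lies between `3 × A₆` and `S₃ × S₆`.
-/

namespace CfsgLib.ExtraNine

open Subgroup Cfsg CfsgLib.LargeExtra

/-- The ambient group of the quotient. -/
abbrev P36 := Equiv.Perm (Fin 3) × Equiv.Perm (Fin 6)

theorem isPGroup_invol {K : Type*} [Group K] (h : ∀ b : K, b * b = 1) : IsPGroup 2 K := fun b =>
  ⟨1, by rw [pow_one, sq, h]⟩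

/-- An elementary abelian two-subgroup of the symmetric group of degree six has order at most eight. -/
theorem card_elem_six (K : Subgroup (Equiv.Perm (Fin 6))) (hK : ∀ b ∈ K, b * b = 1) : Nat.card K ≤ 8 := by
  haveI : Fact (Nat.Prime 2) := ⟨Nat.prime_two⟩
  have hp : IsPGroup 2 K := isPGroup_invol fun b => Subtype.ext (hK b b.2)
  have h720 : Nat.card (Equiv.Perm (Fin 6)) = 720 := by
    rw [Nat.card_perm, Nat.card_eq_fintype_card, Fintype.card_fin]
    rfl
  obtain ⟨n, hn⟩ := IsPGroup.iff_card.1 hp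
  have hdvd := K.card_subgroup_dvd_card
  rw [h720, hn] at hdvd
  have hn4 : n ≤ 4 := by
    by_contra hlt
    have h32 : 2 ^ 5 ∣ 720 := (pow_dvd_pow 2 (by omega : 5 ≤ n)).trans hdvd
    norm_num at h32
  by_contra hgt
  have hn' : n = 4 := by
    by_contra hne
    have := Nat.pow_le_pow_right (show 2 > 0 by norm_num) (show n ≤ 3 by omega)
    norm_num at this
    omega
  obtain ⟨P, hKP⟩ := hp.exists_le_sylow
  obtain ⟨m, hm⟩ := IsPGroup.iff_card.1 P.isPGroup'
  have hle := Subgroup.card_le_of_le hKP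
  have hdP := (P : Subgroup (Equiv.Perm (Fin 6))).card_subgroup_dvd_card
  rw [h720, hm] at hdP
  have hm4 : m ≤ 4 := by
    by_contra hlt
    have h32 : 2 ^ 5 ∣ 720 := (pow_dvd_pow 2 (by omega : 5 ≤ m)).trans hdP
    norm_num at h32
  have hKeq : K = (P : Subgroup (Equiv.Perm (Fin 6))) := eq_of_le_of_card_ge hKP (by
    rw [hn, hn', hm]
    exact Nat.pow_le_pow_right (by norm_num) hm4)
  let g : Equiv.Perm (Fin 6) := Equiv.swap 0 1 * Equiv.swap 1 2 * Equiv.swap 2 3
  obtain ⟨hg4, hg2⟩ : g ^ 4 = 1 ∧ g * g ≠ 1 := by decide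
  have hgp : IsPGroup 2 (zpowers g) := by
    rintro ⟨y, hy⟩
    obtain ⟨k, rfl⟩ := mem_zpowers_iff.1 hy
    refine ⟨2, Subtype.ext ?_⟩
    show (g ^ k) ^ (4 : ℕ) = 1
    rw [← zpow_natCast, ← zpow_mul, mul_comm, zpow_mul, zpow_natCast, hg4, one_zpow]
  obtain ⟨P', hgP⟩ := hgp.exists_le_sylow
  have e := Sylow.equiv P' P
  apply hg2
  have hmem : g ∈ (P' : Subgroup (Equiv.Perm (Fin 6))) := hgP (mem_zpowers g)
  set y := e ⟨g, hmem⟩ with hy
  have hy1 : y * y = 1 := Subtype.ext (hK y (hKeq.symm ▸ y.2))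
  rw [hy, ← map_mul] at hy1
  exact congrArg Subtype.val (e.injective (hy1.trans (map_one e).symm))

/-- The bound on elementary abelian two-subgroups of the ambient group. -/
theorem card_elem_P36 (K : Subgroup P36) (hK : ∀ b ∈ K, b * b = 1) :
    Nat.card K ≤ 16 ∧ ((∀ b ∈ K, b.1 = 1) → Nat.card K ≤ 8) := by
  set f := MonoidHom.fst (Equiv.Perm (Fin 3)) (Equiv.Perm (Fin 6))
  set g := MonoidHom.snd (Equiv.Perm (Fin 3)) (Equiv.Perm (Fin 6))
  have h1 := card_map_mul_inf f K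
  have h8 : Nat.card (K ⊓ f.ker : Subgroup P36) ≤ 8 := by
    have hinj : Function.Injective (g.comp (K ⊓ f.ker).subtype) := by
      intro a b e
      exact Subtype.ext (Prod.ext ((a.2.2 : (a : P36).1 = 1).trans (b.2.2 : (b : P36).1 = 1).symm) e)
    rw [Nat.card_congr (MonoidHom.ofInjective hinj).toEquiv]
    refine card_elem_six _ ?_
    rintro _ ⟨a, rfl⟩
    rw [← map_mul, show a * a = 1 from Subtype.ext (hK a a.2.1), map_one]
  refine ⟨?_, fun hall => ?_⟩
  · have h2 : Nat.card (K.map f) ≤ 2 := by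
      haveI : Fact (Nat.Prime 2) := ⟨Nat.prime_two⟩
      have hp : IsPGroup 2 (K.map f) := isPGroup_invol (by
        rintro ⟨_, b, hb, rfl⟩
        exact Subtype.ext (by show f b * f b = 1; rw [← map_mul, hK b hb, map_one]))
      obtain ⟨n, hn⟩ := IsPGroup.iff_card.1 hp
      have hd := (K.map f).card_subgroup_dvd_card
      rw [Nat.card_perm, Nat.card_fin, hn] at hd
      rw [hn]
      by_contra hlt
      have hn2 : 2 ≤ n := by
        by_contra h2
        have := Nat.pow_le_pow_right (show 2 > 0 by norm_num) (show n ≤ 1 by omega)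
        omega
      have := (pow_dvd_pow 2 hn2).trans hd
      norm_num [Nat.factorial] at this
    calc Nat.card K = _ := h1.symm
      _ ≤ 2 * 8 := Nat.mul_le_mul h2 h8
  · rw [show K ⊓ f.ker = K from inf_eq_left.2 fun b hb => hall b hb] at h8
    exact h8

/-- The first three cycle. -/
def c3 : Equiv.Perm (Fin 3) := Equiv.swap 0 1 * Equiv.swap 1 2

theorem c3_facts : c3 ^ 3 = 1 ∧ c3 ≠ 1 ∧ (∀ s : Equiv.Perm (Fin 3), s * c3 * s⁻¹ = c3 ∨ s * c3 * s⁻¹ = c3⁻¹) ∧
    ∀ s : Equiv.Perm (Fin 3), s * s = 1 → s * c3 = c3 * s → s = 1 := by decide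

/-- The general form. -/
theorem false_of_quotient {G : Type*} [Group G] [Finite G] {z : G} {Q : Subgroup G} (F : FData Q z)
    (hcard : Nat.card Q = 512) (hex : ∃ g : G, g * z * g⁻¹ ∈ Q ∧ g * z * g⁻¹ ≠ z)
    (φ : centralizer ({z} : Set G) →* P36) (hker : ∀ y, φ y = 1 ↔ (y : G) ∈ Q)
    (hc : ((c3, 1) : P36) ∈ φ.range) (ha : ∀ a : A6, ((1, (a : Equiv.Perm (Fin 6))) : P36) ∈ φ.range) :
    False := by
  classical
  obtain ⟨V, _, _, N, rfl, rfl, hV⟩ := exists_nine F hcard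
  have hiff : ∀ y y', N.ρ y = N.ρ y' ↔ φ y = φ y' := by
    intro y y'
    rw [← inv_mul_eq_one, ← map_inv, ← map_mul, N.ρ_eq_one_iff, ← hker, map_mul, map_inv, inv_mul_eq_one]
  obtain ⟨gD, hgD⟩ := hc
  choose ga hga using ha
  let D := N.ρ gD
  let α : A6 →* Equiv.Perm V := MonoidHom.mk' (fun a => N.ρ (ga a)) fun a b => by
    rw [← map_mul, hiff, map_mul, hga, hga, hga]
    exact Prod.ext (one_mul _).symm rfl
  have hαe : ∀ a, α a = N.ρ (ga a) := fun a => rfl
  obtain ⟨h3, hne, hconj, hcomm⟩ := c3_facts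
  have hone : ∀ y, N.ρ y = 1 ↔ φ y = 1 := fun y => by rw [← map_one N.ρ, hiff, map_one]
  have h : SixAct N.S D α := by
    refine ⟨N.ρ_mem gD, ?_, ?_, fun a => N.ρ_mem _, fun a b e => ?_, fun a => ?_⟩
    · show N.ρ gD ^ 3 = 1
      rw [← map_pow, hone, map_pow, hgD]
      exact Prod.ext h3 (one_pow 3)
    · intro e
      exact hne (congrArg Prod.fst (hgD.symm.trans ((hone gD).1 e)))
    · have e' := (hiff _ _).1 e
      rw [hga, hga] at e'
      exact Subtype.ext (congrArg Prod.snd e')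
    · show N.ρ (ga a) * N.ρ gD = N.ρ gD * N.ρ (ga a)
      rw [← map_mul, ← map_mul, hiff, map_mul, map_mul, hga, hgD]
      exact Prod.ext ((one_mul _).trans (mul_one _).symm) ((mul_one _).trans (one_mul _).symm)
  have hH : N.ρ.range ≤ N.S.Iso := by rintro _ ⟨y, rfl⟩; exact N.ρ_mem y
  have hD : ∀ g ∈ N.ρ.range, g * D * g⁻¹ = D ∨ g * D * g⁻¹ = D⁻¹ := by
    rintro _ ⟨y, rfl⟩
    have e : ∀ c, φ c = ((φ y).1 * c3 * (φ y).1⁻¹, 1) → N.ρ y * N.ρ gD * (N.ρ y)⁻¹ = N.ρ c := by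
      intro c hc
      rw [← map_inv, ← map_mul, ← map_mul, hiff, hc, map_mul, map_mul, map_inv, hgD]
      exact Prod.ext rfl (by show (φ y).2 * 1 * (φ y).2⁻¹ = 1; group)
    rcases hconj (φ y).1 with hs | hs
    · exact .inl (e gD (by rw [hgD, hs]))
    · refine .inr ((e gD⁻¹ ?_).trans (map_inv _ _))
      rw [map_inv, hgD, hs]
      exact Prod.ext rfl inv_one
  have hA : ∀ g ∈ N.ρ.range, ∀ a, ∃ a', g * α a * g⁻¹ = α a' := by
    rintro _ ⟨y, rfl⟩ a
    refine ⟨⟨(φ y).2 * (a : Equiv.Perm (Fin 6)) * (φ y).2⁻¹, Normal.conj_mem inferInstance _ a.2 _⟩, ?_⟩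
    rw [hαe, hαe, ← map_inv, ← map_mul, ← map_mul, hiff, map_mul, map_mul, map_inv, hga, hga]
    exact Prod.ext (by show (φ y).1 * 1 * (φ y).1⁻¹ = 1; group) rfl
  have hbound : ∀ K : Subgroup (Equiv.Perm V), K ≤ N.ρ.range → (∀ b ∈ K, b * b = 1) →
      Nat.card K ≤ 16 ∧ ((∀ b ∈ K, b * D = D * b) → Nat.card K ≤ 8) := by
    intro K hK hsq
    set K' := (K.comap N.ρ).map φ with hK'
    have hK'sq : ∀ b ∈ K', b * b = 1 := by
      rintro _ ⟨y, hy, rfl⟩
      rw [← map_mul, ← hone, map_mul]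
      exact hsq _ hy
    have hle : Nat.card K ≤ Nat.card K' := by
      choose s hs using fun b : K => hK b.2
      refine Nat.card_le_card_of_injective
        (fun b : K => (⟨φ (s b), mem_map_of_mem φ (show s b ∈ K.comap N.ρ from
          mem_comap.2 (by rw [hs]; exact b.2))⟩ : K')) fun b b' e => ?_
      have e' : φ (s b) = φ (s b') := congrArg Subtype.val e
      exact Subtype.ext (by rw [← hs b, ← hs b']; exact (hiff _ _).2 e')
    obtain ⟨b16, b8⟩ := card_elem_P36 K' hK'sq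
    refine ⟨hle.trans b16, fun hc => hle.trans (b8 ?_)⟩
    rintro _ ⟨y, hy, rfl⟩
    refine hcomm _ (congrArg Prod.fst (hK'sq _ (mem_map_of_mem φ hy))) ?_
    have e := hc _ hy
    rw [show D = N.ρ gD from rfl, ← map_mul, ← map_mul, hiff, map_mul, map_mul, hgD] at e
    exact congrArg Prod.fst e
  have hDH : D ∈ N.ρ.range := ⟨gD, rfl⟩
  rcases h.dichotomy hV with hfree | ⟨hc4, hn1, hn0, -, hfree⟩
  · obtain ⟨T⟩ := h.exists_tensor_of_normal hV hfree N.ρ.range hH hDH (fun a => ⟨ga a, rfl⟩) hD hA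
    exact false_of_tensor T hex
  · obtain ⟨g, hx, hgne⟩ := hex
    obtain ⟨d, -⟩ := N.exists_pairData hx hgne
    exact d.false_of_six h.D_mem h.D_pow hDH hD hH (fun K hK hs => (hbound K hK hs).1)
      (fun K hK hs hc => (hbound K hK hs).2 hc) hc4 hn1 hn0 hfree

end CfsgLib.ExtraNine
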