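import Cfsg.Agent.Lib.ExtraNine.Twist

/-!
The commutant of the alternating group and the element of order three, and the tensor coordinates of
every group normalizing both.
-/

namespace CfsgLib.ExtraNine

variable {V : Type*} [AddCommGroup V] [Fintype V] {S : QV V}

theorem fixed_points : ∀ u, rotFun u = u → comFun u = u → u = 0 ∨ u = e1 := by decide

/-- The elements of the product of the two actions. -/
def prodRange {D : Equiv.Perm V} {α : A6 →* Equiv.Perm V} (h : SixAct S D α) :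
    Subgroup (Equiv.Perm V) where
  carrier := {g | ∃ (k : ℕ) (a : A6), g = D ^ k * α a}
  one_mem' := ⟨0, 1, by simp⟩
  mul_mem' := by
    rintro _ _ ⟨k, a, rfl⟩ ⟨l, b, rfl⟩
    refine ⟨k + l, a * b, ?_⟩
    rw [pow_add, map_mul, mul_assoc, ← mul_assoc (α a), ((show Commute (α a) D from h.comm a).pow_right l).eq]
    group
  inv_mem' := by
    rintro _ ⟨k, a, rfl⟩
    refine ⟨2 * k, a⁻¹, ?_⟩
    refine inv_eq_of_mul_eq_one_right ?_
    rw [map_inv, mul_assoc, ← mul_assoc (α a), ((show Commute (α a) D from h.comm a).pow_right (2 * k)).eq,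
      mul_assoc, mul_inv_cancel, mul_one, ← pow_add, show k + 2 * k = 3 * k by ring, pow_mul, h.D_pow,
      one_pow]

theorem D_mem_prodRange {D : Equiv.Perm V} {α : A6 →* Equiv.Perm V} (h : SixAct S D α) :
    D ∈ prodRange h := ⟨1, 1, by simp⟩

theorem α_mem_prodRange {D : Equiv.Perm V} {α : A6 →* Equiv.Perm V} (h : SixAct S D α) (a : A6) :
    α a ∈ prodRange h := ⟨0, a, by simp⟩

variable {D : Equiv.Perm V} {α : A6 →* Equiv.Perm V}

/-- Only the powers of the element of order three commute with both. -/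
theorem SixAct.commutant (h : SixAct S D α) (T : Tensor S (prodRange h) D) {δ : Equiv.Perm V}
    (hδ : δ ∈ S.Iso) (hδD : δ * D = D * δ) (hδα : ∀ a, δ * α a = α a * δ) :
    ∃ k : Fin 3, δ = D ^ (k : ℕ) := by
  have hcomm : ∀ g ∈ prodRange h, ∀ v, δ (g v) = g (δ v) := by
    rintro _ ⟨k, a, rfl⟩ v
    have e : δ * (D ^ k * α a) = D ^ k * α a * δ :=
      ((show Commute δ D from hδD).pow_right k).mul_right (hδα a)
    exact Equiv.ext_iff.1 e v
  have hlift : ∀ t, Lift (prodRange h) T.e t → ∀ p : I4 × I4, δ (T.e (t p.1, t p.2)) =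
      T.e (t (T.e.symm (δ (T.e p))).1, t (T.e.symm (δ (T.e p))).2) := by
    rintro t ⟨g, hg, hge⟩ p
    rw [← hge, hcomm g hg, ← hge, T.e.apply_symm_apply]
  obtain ⟨a1, a2, a3, a4, a5, a6⟩ := rot_frame
  obtain ⟨g, hg, q1, q2, q3, q4⟩ := exists_frame a1 a2 a3 a4 a5 a6
  obtain ⟨b1, b2, b3, b4, b5, b6⟩ := rad_frame
  obtain ⟨r, hr, p1, p2, p3, p4⟩ := exists_frame b1 b2 b3 b4 b5 b6
  have hgf : ∀ u, g u = rotFun u := frame_eq hg q1 q2 q3 q4
  have hrf : ∀ u, r u = radFun u := frame_eq hr p1 p2 p3 p4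
  obtain ⟨k1, k2, k3, k4⟩ := rot_rad_facts
  have hg3 : ∀ u, g (g (g u)) = u := fun u => by rw [hgf, hgf, hgf, k1]
  have hL1 : Lift (prodRange h) T.e g := by
    rw [sq_of_order_three hg3]
    exact T.lift_sq _ (mul_mem hg hg)
  have hL2 := T.lift_comm g hg r hr
  have hcf : ∀ u, (g * r * g⁻¹ * r⁻¹) u = comFun u := by
    intro u
    have e1 : g⁻¹ (r⁻¹ u) = g (g (r u)) := by
      rw [Equiv.Perm.inv_eq_iff_eq, hg3, Equiv.Perm.inv_eq_iff_eq, hrf, hrf, k2]
    show g (r (g⁻¹ (r⁻¹ u))) = _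
    rw [e1, comFun, hgf, hrf, hgf, hgf, hrf]
  have he1 : g e1 = e1 ∧ (g * r * g⁻¹ * r⁻¹) e1 = e1 :=
    ⟨q1, by rw [hcf]; decide⟩
  obtain ⟨⟨x, y⟩, hxy⟩ := T.e.surjective (δ (T.e (e1, 0)))
  have hfix : ∀ t ∈ SpG, Lift (prodRange h) T.e t → t e1 = e1 → t x = x ∧ t y = y := by
    intro t ht hL he
    have e := hlift t hL (e1, 0)
    simp only [he, map_zero_of_mem ht, ← hxy, T.e.symm_apply_apply] at e
    exact Prod.mk.injEq _ _ _ _ ▸ (T.e.injective e).symm
  obtain ⟨hgx, hgy⟩ := hfix g hg hL1 he1.1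
  obtain ⟨hcx, hcy⟩ := hfix _ (mul_mem (mul_mem (mul_mem hg hr) (inv_mem hg)) (inv_mem hr)) hL2 he1.2
  have hx := fixed_points x (by rw [← hgf]; exact hgx) (by rw [← hcf]; exact hcx)
  have hy := fixed_points y (by rw [← hgf]; exact hgy) (by rw [← hcf]; exact hcy)
  have he0 : T.e (0, 0) = 0 := by
    have hh := T.e_add (0, 0) (0, 0)
    simp only [Prod.mk_add_mk, add_zero] at hh
    exact left_eq_add.1 hh
  obtain ⟨k, hk⟩ : ∃ k : Fin 3, (D ^ (k : ℕ)) (T.e (e1, 0)) = δ (T.e (e1, 0)) := by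
    rw [← hxy]
    rcases hx with rfl | rfl <;> rcases hy with rfl | rfl
    · exfalso
      rw [he0] at hxy
      have := δ.injective (hxy.symm.trans (QV.iso_zero hδ).symm)
      exact e1_ne (congrArg Prod.fst (T.e.injective (this.trans he0.symm)))
    · refine ⟨1, ?_⟩
      show (D ^ 1) _ = _
      rw [pow_one, T.D_e]; simp
    · exact ⟨0, rfl⟩
    · refine ⟨2, ?_⟩
      show (D ^ 2) _ = _
      rw [pow_two, Equiv.Perm.mul_apply, T.D_e, T.D_e]; simp
  refine ⟨k, Equiv.ext fun v => ?_⟩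
  have hfirst : ∀ i, δ (T.e (i, 0)) = (D ^ (k : ℕ)) (T.e (i, 0)) := by
    intro i
    by_cases hi : i = 0
    · rw [hi, he0, QV.iso_zero hδ, QV.iso_zero (pow_mem h.D_mem _)]
    · obtain ⟨t, ht, ⟨m, hm, hme⟩, hti⟩ := T.trans e1 i e1_ne hi
      have e : T.e (i, 0) = m (T.e (e1, 0)) := by
        rw [hme]; simp only [hti, map_zero_of_mem ht]
      rw [e, hcomm m hm, ← hk]
      obtain ⟨l, a, rfl⟩ := hm
      exact Equiv.ext_iff.1 ((((Commute.refl D).pow_pow l (k : ℕ)).mul_left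
        ((show Commute (α a) D from h.comm a).pow_right (k : ℕ))).eq) _
  obtain ⟨⟨i, j⟩, rfl⟩ := T.e.surjective v
  have e : T.e (i, j) = T.e (i, 0) + D (T.e (j, 0)) := by
    rw [T.D_e, ← T.e_add]; simp
  have hDc : ∀ u, δ (D u) = D (δ u) := fun u => Equiv.ext_iff.1 hδD u
  rw [e, hδ.1, hDc, hfirst, hfirst, (pow_mem h.D_mem _ : D ^ (k : ℕ) ∈ S.Iso).1]
  congr 1
  exact Equiv.ext_iff.1 (Commute.self_pow D (k : ℕ)).eq _

/-- Tensor coordinates for every group of isometries normalizing the two actions. -/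
theorem SixAct.exists_tensor_of_normal (h : SixAct S D α) (hV : Fintype.card V = 256)
    (hfree : ∀ v, v + D v + D (D v) = 0) (H : Subgroup (Equiv.Perm V)) (hH : H ≤ S.Iso) (hDH : D ∈ H)
    (hαH : ∀ a, α a ∈ H) (hD : ∀ g ∈ H, g * D * g⁻¹ = D ∨ g * D * g⁻¹ = D⁻¹)
    (hA : ∀ g ∈ H, ∀ a, ∃ a', g * α a * g⁻¹ = α a') : Nonempty (Tensor S H D) := by
  obtain ⟨Sw, hS, hS2, hSD, hSα⟩ := h.exists_twist hV hfree
  have hSS : Sw * Sw = 1 := Equiv.ext hS2
  have hSinv : Sw⁻¹ = Sw := inv_eq_of_mul_eq_one_right hSS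
  have hSDm : Sw * D = D ^ 2 * Sw := Equiv.ext fun v => by
    simpa [pow_two] using hSD v
  have hSαm : ∀ a, Sw * α a = α a * Sw := fun a => Equiv.ext fun v => hSα a v
  obtain ⟨T0⟩ := exists_tensor h hV hfree Sw hS hS2 hSD hSα (prodRange h) (D_mem_prodRange h)
    (α_mem_prodRange h) (by
      rintro _ ⟨k, a, rfl⟩
      refine ⟨⟨k % 3, Nat.mod_lt _ (by norm_num)⟩, false, α a, h.α_mem a, h.comm_apply a,
        fun v => (hSα a v).symm, ?_⟩
      rw [pow_eq_pow_mod k h.D_pow]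
      simp)
  have hD2 : D⁻¹ = D ^ 2 := inv_eq_of_mul_eq_one_right (by rw [← pow_succ', h.D_pow])
  have hSpow : ∀ n : ℕ, Sw * D ^ n = D ^ (2 * n) * Sw := by
    intro n
    induction n with
    | zero => simp
    | succ n ih => rw [pow_succ, ← mul_assoc, ih, mul_assoc, hSDm, ← mul_assoc, ← pow_add, mul_add]
  refine exists_tensor h hV hfree Sw hS hS2 hSD hSα H hDH hαH fun g hg => ?_
  have hgS := hH hg
  set Sw' := g * Sw * g⁻¹ with hSw'
  set δ := Sw * Sw' with hδ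
  obtain ⟨k, hk⟩ : ∃ k : Fin 3, δ = D ^ (k : ℕ) := by
    refine h.commutant T0 (mul_mem hS (mul_mem (mul_mem hgS hS) (inv_mem hgS))) ?_ fun a => ?_
    · have hSD' : Sw' * D = D ^ 2 * Sw' := by
        rcases hD g hg with e | e
        · calc Sw' * D = Sw' * (g * D * g⁻¹) := by rw [e]
            _ = g * (Sw * D) * g⁻¹ := by rw [hSw']; group
            _ = (g * D * g⁻¹) ^ 2 * Sw' := by rw [hSDm, conj_pow, hSw']; group
            _ = _ := by rw [e]
        · have e' : g * D ^ 2 * g⁻¹ = D := by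
            rw [← conj_pow, e, hD2, ← pow_mul, pow_eq_pow_mod _ h.D_pow, pow_one]
          calc Sw' * D = Sw' * (g * D ^ 2 * g⁻¹) := by rw [e']
            _ = g * (Sw * D ^ 2) * g⁻¹ := by rw [hSw']; group
            _ = g * (D ^ (2 * 2) * Sw) * g⁻¹ := by rw [hSpow]
            _ = (g * D ^ 2 * g⁻¹) ^ 2 * Sw' := by rw [conj_pow, ← pow_mul, hSw']; group
            _ = _ := by rw [e']
      rw [hδ, mul_assoc, hSD', ← mul_assoc, hSpow, pow_eq_pow_mod (2 * 2) h.D_pow, pow_one, mul_assoc]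
    · obtain ⟨a', ha'⟩ := hA g⁻¹ (inv_mem hg) a
      rw [inv_inv] at ha'
      have e1 : Sw' * α a = α a * Sw' := by
        have hc : α a = g * α a' * g⁻¹ := by rw [← ha']; group
        rw [hc, hSw', show g * Sw * g⁻¹ * (g * α a' * g⁻¹) = g * (Sw * α a') * g⁻¹ by group, hSαm]
        group
      rw [hδ, mul_assoc, e1, ← mul_assoc, hSαm, mul_assoc]
  have hSw'2 : Sw' = Sw * D ^ (k : ℕ) := by rw [← hk, hδ, ← mul_assoc, hSS, one_mul]
  set g1 := D ^ (2 * (k : ℕ)) * g with hg1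
  have hg1H : g1 ∈ H := mul_mem (pow_mem hDH _) hg
  have hg1S : g1 * Sw = Sw * g1 := by
    rw [hg1, mul_assoc, show g * Sw = Sw' * g by rw [hSw']; group, hSw'2, ← mul_assoc, ← mul_assoc,
      ← mul_assoc Sw, mul_assoc (D ^ (2 * (k : ℕ))) Sw, hSpow, ← mul_assoc, ← pow_add,
      hSpow, pow_eq_pow_mod (2 * (k : ℕ) + 2 * (k : ℕ)) h.D_pow, pow_eq_pow_mod (2 * (2 * (k : ℕ))) h.D_pow]
    congr 4
    omega
  have hgk : g = D ^ (k : ℕ) * g1 := by
    rw [hg1, ← mul_assoc, ← pow_add, show (k : ℕ) + 2 * (k : ℕ) = 3 * k by ring, pow_mul, h.D_pow,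
      one_pow, one_mul]
  rcases hD g1 hg1H with e | e
  · refine ⟨k, false, g1, hH hg1H, fun v => ?_, fun v => Equiv.ext_iff.1 hg1S v, by simpa using hgk⟩
    exact Equiv.ext_iff.1 (mul_inv_eq_iff_eq_mul.1 e) v
  · refine ⟨k, true, Sw * g1, mul_mem hS (hH hg1H), fun v => ?_, fun v => ?_, ?_⟩
    · have e' : g1 * D = D ^ 2 * g1 := by rw [← hD2]; exact mul_inv_eq_iff_eq_mul.1 e
      have : Sw * g1 * D = D * (Sw * g1) := by
        rw [mul_assoc, e', ← mul_assoc, hSpow, pow_eq_pow_mod (2 * 2) h.D_pow, pow_one, mul_assoc]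
      exact Equiv.ext_iff.1 this v
    · have : Sw * g1 * Sw = Sw * (Sw * g1) := by rw [mul_assoc, hg1S]
      exact Equiv.ext_iff.1 this v
    · rw [if_pos rfl, mul_assoc, ← mul_assoc Sw, hSS, one_mul]
      exact hgk

end CfsgLib.ExtraNine
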