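import Cfsg.Agent.Lib.ExtraNine.Split

/-!
The alternating group of degree six and an element of order three, commuting, on a quadratic space of
dimension eight: either the element is fixed point free, or its fixed space has dimension six and the
alternating group is trivial on the other summand.
-/

namespace CfsgLib.ExtraNine

/-- The alternating group of degree six. -/
abbrev A6 := ↥(alternatingGroup (Fin 6))

theorem card_A6 : Nat.card A6 = 360 := by
  rw [nat_card_alternatingGroup]
  simp [Nat.card_eq_fintype_card, Nat.factorial]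

theorem isSimple_A6 : IsSimpleGroup A6 := alternatingGroup.isSimpleGroup (by simp)

theorem exists_five : ∃ f : A6, f ^ 5 = 1 ∧ f ≠ 1 := by
  haveI : Fact (Nat.Prime 5) := ⟨by norm_num⟩
  obtain ⟨f, hf⟩ := exists_prime_orderOf_dvd_card' (G := A6) 5 (by rw [card_A6]; norm_num)
  exact ⟨f, hf ▸ pow_orderOf_eq_one f, fun h => by rw [h, orderOf_one] at hf; omega⟩

theorem eq_top_of_ne_one {N : Subgroup A6} (hN : N.Normal) {a : A6} (ha : a ∈ N) (h1 : a ≠ 1) :
    N = ⊤ :=
  haveI := isSimple_A6
  hN.eq_bot_or_eq_top.resolve_left fun h => h1 (by rw [h] at ha; exact Subgroup.mem_bot.1 ha)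

/-- The group acts trivially on every set of at most five points. -/
theorem hom_small {S : Type*} [Fintype S] (hS : Fintype.card S ≤ 5) (φ : A6 →* Equiv.Perm S) (a : A6) :
    φ a = 1 := by
  by_cases hk : φ.ker = ⊥
  · exfalso
    have hle := Nat.card_le_card_of_injective φ ((MonoidHom.ker_eq_bot_iff φ).1 hk)
    classical
    rw [card_A6, Nat.card_perm, Nat.card_eq_fintype_card] at hle
    have := hle.trans (Nat.factorial_le hS)
    simp [Nat.factorial] at this
  · obtain ⟨b, hb⟩ := (Subgroup.ne_bot_iff_exists_ne_one.1 hk)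
    have h : φ.ker = ⊤ := eq_top_of_ne_one inferInstance b.2 (fun e => hb (Subtype.ext e))
    exact MonoidHom.mem_ker.1 (h ▸ Subgroup.mem_top a)

variable {V : Type*} [AddCommGroup V] [Fintype V] {S : QV V}

/-- Commuting isometric actions of the alternating group and of an element of order three. -/
structure SixAct (S : QV V) (D : Equiv.Perm V) (α : A6 →* Equiv.Perm V) : Prop where
  D_mem : D ∈ S.Iso
  D_pow : D ^ 3 = 1
  D_ne : D ≠ 1
  α_mem : ∀ a, α a ∈ S.Iso
  α_inj : Function.Injective α
  comm : ∀ a, α a * D = D * α a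

namespace SixAct

variable {D : Equiv.Perm V} {α : A6 →* Equiv.Perm V} (h : SixAct S D α)

include h

omit [Fintype V] in
theorem comm_apply (a : A6) (v : V) : α a (D v) = D (α a v) := Equiv.ext_iff.1 (h.comm a) v

omit [Fintype V] h in
theorem trivial_of_elem {U : Set V} (hU : ∀ a, ∀ u ∈ U, α a u ∈ U) {b : A6} (hb : b ≠ 1)
    (hbU : ∀ u ∈ U, α b u = u) : ∀ a, ∀ u ∈ U, α a u = u := by
  let N : Subgroup A6 :=
    { carrier := {a | ∀ u ∈ U, α a u = u}
      one_mem' := fun u _ => by simp
      mul_mem' := fun {a c} (ha : ∀ u ∈ U, α a u = u) (hc : ∀ u ∈ U, α c u = u) u hu => by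
        rw [map_mul, Equiv.Perm.mul_apply, hc u hu, ha u hu]
      inv_mem' := fun {a} (ha : ∀ u ∈ U, α a u = u) u hu => by
        apply (α a).injective
        rw [← Equiv.Perm.mul_apply, ← map_mul, mul_inv_cancel, map_one, Equiv.Perm.one_apply, ha u hu] }
  have hn : N.Normal := ⟨fun a (ha : ∀ u ∈ U, α a u = u) g u hu => by
    simp only [map_mul, Equiv.Perm.mul_apply]
    rw [ha _ (hU g⁻¹ u hu), ← Equiv.Perm.mul_apply, ← map_mul, mul_inv_cancel, map_one]
    rfl⟩
  intro a
  have hab : a ∈ N := (eq_top_of_ne_one hn (a := b) hbU hb).symm ▸ Subgroup.mem_top a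
  exact hab

/-- The possible orders of a fixed space. -/
theorem card_fix (f : A6) (hf : f ^ 5 = 1) (U : AddSubgroup V) (hU : ∀ u ∈ U, α f u ∈ U) :
    Nat.card (U ⊓ S.fix (h.α_mem f) : AddSubgroup V) % 5 = Nat.card U % 5 :=
  haveI : Fact (Nat.Prime 5) := ⟨by norm_num⟩
  S.card_modEq (h.α_mem f) (by rw [← map_pow, hf, map_one]) U hU

theorem trivial_small {U : AddSubgroup V} (hU : ∀ a, ∀ u ∈ U, α a u ∈ U) (hc : Nat.card U ≤ 8) :
    ∀ a, ∀ u ∈ U, α a u = u := by
  obtain ⟨f, hf, hf1⟩ := exists_five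
  refine trivial_of_elem (U := (U : Set V)) hU hf1 ?_
  obtain ⟨k, hk⟩ := S.card_two_pow U
  obtain ⟨j, hj⟩ := S.card_two_pow (U ⊓ S.fix (h.α_mem f))
  have hle : Nat.card (U ⊓ S.fix (h.α_mem f) : AddSubgroup V) ≤ Nat.card U :=
    AddSubgroup.card_le_of_le inf_le_left
  have hm := h.card_fix f hf U (hU f)
  rw [hk, hj] at hm hle
  have hk3 : k ≤ 3 := by
    by_contra hlt
    have := Nat.pow_le_pow_right (show 2 > 0 by norm_num) (show 4 ≤ k by omega)
    norm_num at this
    omega
  have hjk : j ≤ k := (Nat.pow_le_pow_iff_right (by norm_num)).1 hle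
  have : j = k := by
    interval_cases k <;> interval_cases j <;> simp_all
  have heq : (U ⊓ S.fix (h.α_mem f) : AddSubgroup V) = U :=
    AddSubgroup.eq_of_le_of_card_ge inf_le_left (by rw [hk, hj, this])
  intro u hu
  have hu' : u ∈ U ⊓ S.fix (h.α_mem f) := heq.symm ▸ hu
  exact hu'.2

/-- On a nondegenerate invariant subgroup of order sixteen the group is trivial. -/
theorem trivial_sixteen {U : AddSubgroup V} (hU : ∀ a, ∀ u ∈ U, α a u ∈ U)
    (hc : Nat.card U = 16) (hn : S.Nondeg U) : ∀ a, ∀ u ∈ U, α a u = u := by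
  classical
  obtain ⟨f, hf, hf1⟩ := exists_five
  refine trivial_of_elem (U := (U : Set V)) hU hf1 ?_
  by_contra hnot
  obtain ⟨j, hj⟩ := S.card_two_pow (U ⊓ S.fix (h.α_mem f))
  have hle : Nat.card (U ⊓ S.fix (h.α_mem f) : AddSubgroup V) ≤ Nat.card U :=
    AddSubgroup.card_le_of_le inf_le_left
  have hm := h.card_fix f hf U (hU f)
  rw [hc, hj] at hm hle
  have hj4 : j ≤ 4 := (Nat.pow_le_pow_iff_right (by norm_num : 1 < 2)).1 hle
  have hj0 : j = 0 := by
    by_contra hne
    refine hnot fun u hu => ?_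
    have heq : (U ⊓ S.fix (h.α_mem f) : AddSubgroup V) = U :=
      AddSubgroup.eq_of_le_of_card_ge inf_le_left (by
        rw [hc, hj]
        interval_cases j <;> simp_all)
    exact ((heq.symm ▸ hu : u ∈ U ⊓ S.fix (h.α_mem f))).2
  have hfree : ∀ u ∈ U, α f u = u → u = 0 := by
    intro u hu hfu
    have h1 : Nat.card (U ⊓ S.fix (h.α_mem f) : AddSubgroup V) ≤ 1 := by rw [hj, hj0]; norm_num
    have heq := AddSubgroup.card_le_one_iff_eq_bot _ |>.1 h1
    exact AddSubgroup.mem_bot.1 (heq ▸ (⟨hu, hfu⟩ : u ∈ U ⊓ S.fix (h.α_mem f)))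
  -- the classes of the nonzero vectors by their values
  let T : ZMod 2 → Finset V := fun c => Finset.univ.filter fun u => u ∈ U ∧ u ≠ 0 ∧ S.q u = c
  have hT : ∀ c a, ∀ u ∈ T c, α a u ∈ T c := by
    intro c a u hu
    simp only [T, Finset.mem_filter, Finset.mem_univ, true_and] at hu ⊢
    refine ⟨hU a u hu.1, fun e => hu.2.1 ((α a).injective (e.trans (QV.iso_zero (h.α_mem a)).symm)), ?_⟩
    rw [(h.α_mem a).2, hu.2.2]
  have hsum : (T 0).card + (T 1).card = 15 := by
    rw [← Finset.card_union_of_disjoint]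
    · have e : T 0 ∪ T 1 = (Finset.univ.filter fun u => u ∈ U).erase 0 := by
        ext u
        have hc2 : ∀ c : ZMod 2, c = 0 ∨ c = 1 := by decide
        simp only [T, Finset.mem_union, Finset.mem_filter, Finset.mem_univ, true_and, Finset.mem_erase]
        rcases hc2 (S.q u) with e | e <;> simp [e] <;> tauto
      have hcard : (Finset.univ.filter fun u => u ∈ U).card = 16 := by
        rw [← hc, ← Nat.card_eq_finsetCard]
        exact Nat.card_congr (Equiv.subtypeEquivRight fun u => by simp)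
      rw [e, Finset.card_erase_of_mem (by simp), hcard]
    · rw [Finset.disjoint_left]
      intro u hu hu'
      simp only [T, Finset.mem_filter] at hu hu'
      exact zero_ne_one (hu.2.2.2.symm.trans hu'.2.2.2)
  have hfive : ∀ c, 5 ∣ (T c).card := by
    intro c
    have hinv : ∀ u, α f u ∈ T c ↔ u ∈ T c := by
      intro u
      refine ⟨fun hu => ?_, hT c f u⟩
      have := hT c f⁻¹ _ hu
      rwa [← Equiv.Perm.mul_apply, ← map_mul, inv_mul_cancel, map_one, Equiv.Perm.one_apply] at this
    let σ : Equiv.Perm (T c) := (α f).subtypePerm hinv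
    have hσ : σ ^ 5 ^ 1 = 1 := by
      rw [pow_one]
      ext x
      simp [σ, ← map_pow, hf]
    haveI : Fact (Nat.Prime 5) := ⟨by norm_num⟩
    have hm := Equiv.Perm.card_compl_support_modEq hσ
    have he : σ.supportᶜ = ∅ := by
      refine Finset.eq_empty_of_forall_notMem fun x hx => ?_
      simp only [Finset.mem_compl, Equiv.Perm.mem_support, not_not] at hx
      have hx' := Finset.mem_filter.1 x.2
      exact hx'.2.2.1 (hfree _ hx'.2.1 (congrArg Subtype.val hx))
    rw [he, Finset.card_empty, Fintype.card_coe] at hm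
    exact Nat.modEq_zero_iff_dvd.1 hm.symm
  have hsmall : ∀ c, (T c).card ≤ 5 → T c = ∅ := by
    intro c hle'
    refine Finset.eq_empty_of_forall_notMem fun u hu => ?_
    let φ : A6 →* Equiv.Perm (T c) := MonoidHom.mk'
      (fun a => (α a).subtypePerm fun u => ⟨fun hu => by
        have := hT c a⁻¹ _ hu
        rwa [← Equiv.Perm.mul_apply, ← map_mul, inv_mul_cancel, map_one, Equiv.Perm.one_apply] at this,
        hT c a u⟩)
      (fun a b => Equiv.ext fun x => Subtype.ext (by
        show α (a * b) x.1 = α a (α b x.1)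
        rw [map_mul]; rfl))
    have hφ := hom_small (by rw [Fintype.card_coe]; exact hle') φ f
    have e := congrArg Subtype.val (Equiv.ext_iff.1 hφ ⟨u, hu⟩)
    have hu' := Finset.mem_filter.1 hu
    exact hu'.2.2.1 (hfree _ hu'.2.1 e)
  have hempty : T 0 = ∅ ∨ T 1 = ∅ := by
    obtain ⟨a, ha⟩ := hfive 0
    obtain ⟨b, hb⟩ := hfive 1
    by_cases ha' : a ≤ 1
    · exact .inl (hsmall 0 (by omega))
    · exact .inr (hsmall 1 (by omega))
  rcases hempty with e | e
  · refine S.not_constant hn (by omega) 1 fun u hu hu0 => ?_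
    by_contra hne
    have : u ∈ T 0 := by
      simp only [T, Finset.mem_filter, Finset.mem_univ, true_and]
      exact ⟨hu, hu0, ((by decide : ∀ c : ZMod 2, c ≠ 1 → c = 0) _ hne)⟩
    rw [e] at this
    exact absurd this (Finset.notMem_empty u)
  · refine S.not_constant hn (by omega) 0 fun u hu hu0 => ?_
    by_contra hne
    have : u ∈ T 1 := by
      simp only [T, Finset.mem_filter, Finset.mem_univ, true_and]
      exact ⟨hu, hu0, ((by decide : ∀ c : ZMod 2, c ≠ 0 → c = 1) _ hne)⟩
    rw [e] at this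
    exact absurd this (Finset.notMem_empty u)

/-- A fixed point free element of order three commuting with one of order five in dimension four. -/
theorem false_of_fifteen {f : A6} (hf : f ^ 5 = 1) {U : AddSubgroup V}
    (hDU : ∀ u ∈ U, D u ∈ U) (hfU : ∀ u ∈ U, α f u ∈ U) (hc : Nat.card U = 16) (hn : S.Nondeg U)
    (hD0 : ∀ u ∈ U, D u = u → u = 0) (hf0 : ∀ u ∈ U, α f u = u → u = 0) : False := by
  classical
  obtain ⟨u, hu, hu0⟩ : ∃ u ∈ U, u ≠ 0 := by
    by_contra hno
    push Not at hno
    have : U = ⊥ := (AddSubgroup.eq_bot_iff_forall U).2 hno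
    rw [this, AddSubgroup.card_bot] at hc
    omega
  have hg : ∀ (i j : ℕ), ∀ w ∈ U, (D ^ j * α (f ^ i)) w ∈ U := by
    intro i
    induction i with
    | zero =>
      intro j
      induction j with
      | zero => intro w hw; simpa using hw
      | succ j ih =>
        intro w hw
        have := hDU _ (ih w hw)
        rwa [pow_succ', mul_assoc, Equiv.Perm.mul_apply]
    | succ i ih =>
      intro j w hw
      have := ih j _ (hfU w hw)
      rwa [pow_succ, map_mul, ← mul_assoc, Equiv.Perm.mul_apply]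
  have hC : ∀ i : ℕ, Commute (α (f ^ i)) D := fun i => h.comm _
  let orb : Fin 5 × Fin 3 → V := fun x => (D ^ (x.2 : ℕ) * α (f ^ (x.1 : ℕ))) u
  -- the stabilizer of the vector is trivial
  have hst : ∀ i j : ℕ, (D ^ j * α (f ^ i)) u = u → i % 5 = 0 ∧ j % 3 = 0 := by
    intro i j e
    have hpow : ∀ n : ℕ, ((D ^ j * α (f ^ i)) ^ n) u = u := by
      intro n
      induction n with
      | zero => rfl
      | succ n ih => rw [pow_succ, Equiv.Perm.mul_apply, e, ih]
    have hcj : Commute (D ^ j) (α (f ^ i)) := ((hC i).pow_right j).symm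
    have h3 := hpow 3
    rw [hcj.mul_pow, ← pow_mul, mul_comm j 3, pow_mul, h.D_pow, one_pow, one_mul, ← map_pow,
      ← pow_mul] at h3
    have h5 := hpow 5
    rw [hcj.mul_pow, ← map_pow α (f ^ i), ← pow_mul, ← pow_mul, mul_comm i 5, pow_mul f, hf, one_pow,
      map_one, mul_one] at h5
    refine ⟨?_, ?_⟩
    · by_contra hi
      obtain ⟨n, hn⟩ : ∃ n, (i * 3) * n % 5 = 1 := by
        have : i % 5 = 1 ∨ i % 5 = 2 ∨ i % 5 = 3 ∨ i % 5 = 4 := by omega
        rcases this with r | r | r | r
        · exact ⟨2, by omega⟩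
        · exact ⟨1, by omega⟩
        · exact ⟨4, by omega⟩
        · exact ⟨3, by omega⟩
      refine hu0 (hf0 u hu ?_)
      have hh : ∀ m : ℕ, α (f ^ (i * 3 * m)) u = u := by
        intro m
        induction m with
        | zero => simp
        | succ m ih => rw [Nat.mul_succ, pow_add, map_mul, Equiv.Perm.mul_apply, h3, ih]
      have := hh n
      rw [← Nat.mod_add_div (i * 3 * n) 5, hn, pow_add, pow_mul, hf, one_pow, mul_one, pow_one] at this
      exact this
    · by_contra hj
      obtain ⟨n, hn⟩ : ∃ n, (j * 5) * n % 3 = 1 := by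
        have : j % 3 = 1 ∨ j % 3 = 2 := by omega
        rcases this with r | r
        · exact ⟨2, by omega⟩
        · exact ⟨1, by omega⟩
      refine hu0 (hD0 u hu ?_)
      have hh : ∀ m : ℕ, (D ^ (j * 5 * m)) u = u := by
        intro m
        induction m with
        | zero => simp
        | succ m ih => rw [Nat.mul_succ, pow_add, Equiv.Perm.mul_apply, h5, ih]
      have := hh n
      rw [← Nat.mod_add_div (j * 5 * n) 3, hn, pow_add, pow_mul, h.D_pow, one_pow, mul_one,
        pow_one] at this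
      exact this
  have hinj : Function.Injective orb := by
    rintro ⟨i, j⟩ ⟨i', j'⟩ e
    simp only [orb] at e
    have e2 : (D ^ ((j : ℕ) + (3 - (j' : ℕ))) * α (f ^ ((i : ℕ) + (5 - (i' : ℕ))))) u = u := by
      have e' := congrArg (fun w => (D ^ (3 - (j' : ℕ)) * α (f ^ (5 - (i' : ℕ)))) w) e
      simp only [← Equiv.Perm.mul_apply] at e'
      have hid : ∀ a b c d : ℕ, D ^ a * α (f ^ b) * (D ^ c * α (f ^ d)) = D ^ (c + a) * α (f ^ (d + b)) := by
        intro a b c d
        rw [mul_assoc, ← mul_assoc (α (f ^ b)), ((hC b).pow_right c).eq, mul_assoc, ← map_mul, ← pow_add,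
          ← mul_assoc, ← pow_add, add_comm a c, add_comm b d]
      rw [hid, hid] at e'
      rw [e', show (j' : ℕ) + (3 - (j' : ℕ)) = 3 by omega, show (i' : ℕ) + (5 - (i' : ℕ)) = 5 by omega,
        h.D_pow, hf, map_one, mul_one]
      rfl
    obtain ⟨h1, h2⟩ := hst _ _ e2
    exact Prod.ext (Fin.ext (show (i : ℕ) = (i' : ℕ) by omega)) (Fin.ext (show (j : ℕ) = (j' : ℕ) by omega))
  refine S.not_constant hn (by omega) (S.q u) fun w hw hw0 => ?_
  have hsub : Finset.univ.map ⟨orb, hinj⟩ ⊆ (Finset.univ.filter fun w => w ∈ U).erase 0 := by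
    intro w hw
    obtain ⟨x, -, rfl⟩ := Finset.mem_map.1 hw
    rw [Finset.mem_erase, Finset.mem_filter]
    refine ⟨fun e => hu0 ((D ^ (x.2 : ℕ) * α (f ^ (x.1 : ℕ))).injective (e.trans ?_)),
      Finset.mem_univ _, hg _ _ u hu⟩
    exact (QV.iso_zero (mul_mem (pow_mem h.D_mem _) (h.α_mem _))).symm
  have hcard : (Finset.univ.filter fun w => w ∈ U).card = 16 := by
    rw [← hc, ← Nat.card_eq_finsetCard]
    exact Nat.card_congr (Equiv.subtypeEquivRight fun u => by simp)
  have heq := Finset.eq_of_subset_of_card_le hsub (by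
    rw [Finset.card_map, Finset.card_erase_of_mem (by simp), hcard]
    simp)
  have hw' : w ∈ Finset.univ.map ⟨orb, hinj⟩ := by
    rw [heq, Finset.mem_erase, Finset.mem_filter]; exact ⟨hw0, Finset.mem_univ _, hw⟩
  obtain ⟨x, -, rfl⟩ := Finset.mem_map.1 hw'
  exact (mul_mem (pow_mem h.D_mem _) (h.α_mem _) : _ ∈ S.Iso).2 u

/-- The summand moved by the element of order three. -/
theorem dichotomy (hV : Fintype.card V = 256) :
    (∀ v, v + D v + D (D v) = 0) ∨
      (Nat.card (S.nker h.D_mem 3) = 4 ∧ S.Nondeg (S.nker h.D_mem 3) ∧ S.Nondeg (S.fix h.D_mem) ∧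
        (∀ a, ∀ u ∈ S.nker h.D_mem 3, α a u = u) ∧ ∀ u ∈ S.nker h.D_mem 3, D u = u → u = 0) := by
  classical
  obtain ⟨n0, n1, hcard, hfree⟩ := S.split h.D_mem (p := 3) ⟨1, rfl⟩ h.D_pow (U := ⊤)
    (fun u _ => AddSubgroup.mem_top _) S.nondeg_top
  rw [top_inf_eq] at n0 n1 hfree
  rw [top_inf_eq, top_inf_eq, AddSubgroup.card_top, Nat.card_eq_fintype_card, hV] at hcard
  have hinv0 : ∀ a, ∀ u ∈ S.fix h.D_mem, α a u ∈ S.fix h.D_mem := by
    intro a u (hu : D u = u)
    show D (α a u) = α a u
    rw [← h.comm_apply, hu]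
  have hinv1 : ∀ a, ∀ u ∈ S.nker h.D_mem 3, α a u ∈ S.nker h.D_mem 3 := by
    intro a u (hu : QV.norm D 3 u = 0)
    show QV.norm D 3 (α a u) = 0
    have e : ∀ i : ℕ, (D ^ i) (α a u) = α a ((D ^ i) u) := fun i =>
      (Equiv.ext_iff.1 ((show Commute (α a) D from h.comm a).pow_right i).eq u).symm
    let g : V →+ V := AddMonoidHom.mk' (α a) (h.α_mem a).1
    have hm := map_sum g (fun i => (D ^ i) u) (Finset.range 3)
    change α a (QV.norm D 3 u) = _ at hm
    rw [hu, QV.iso_zero (h.α_mem a)] at hm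
    simp only [QV.norm, e]
    exact hm.symm
  obtain ⟨k, hk⟩ := S.card_two_pow (S.nker h.D_mem 3)
  have hk8 : k ≤ 8 := by
    by_contra hlt
    have := Nat.pow_le_pow_right (show 2 > 0 by norm_num) (show 9 ≤ k by omega)
    have hd : Nat.card (S.nker h.D_mem 3) ≤ 256 := Nat.le_of_dvd (by norm_num) ⟨_, (hcard.trans (mul_comm _ _))⟩
    rw [hk] at hd
    norm_num at this
    omega
  have hmod : Nat.card (S.nker h.D_mem 3) % 3 = 1 := by
    haveI : Fact (Nat.Prime 3) := ⟨Nat.prime_three⟩
    have hm := S.card_modEq h.D_mem h.D_pow (S.nker h.D_mem 3) (fun u (hu : QV.norm D 3 u = 0) => by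
      show QV.norm D 3 (D u) = 0
      let g : V →+ V := AddMonoidHom.mk' D h.D_mem.1
      have hm := map_sum g (fun i => (D ^ i) u) (Finset.range 3)
      change D (QV.norm D 3 u) = _ at hm
      rw [hu, QV.iso_zero h.D_mem] at hm
      simp only [QV.norm]
      refine Eq.trans ?_ hm.symm
      refine Finset.sum_congr rfl fun i _ => ?_
      show (D ^ i) (D u) = D ((D ^ i) u)
      rw [← Equiv.Perm.mul_apply, ← Equiv.Perm.mul_apply, ← pow_succ, ← pow_succ'])
    have he : (S.nker h.D_mem 3 ⊓ S.fix h.D_mem : AddSubgroup V) = ⊥ :=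
      (AddSubgroup.eq_bot_iff_forall _).2 fun u hu => hfree u hu.1 hu.2
    rw [he, AddSubgroup.card_bot] at hm
    exact hm.symm
  rw [hk] at hmod hcard
  have h1 : Nat.card (S.fix h.D_mem) * 2 ^ k = 256 := hcard.symm
  interval_cases k
  all_goals simp only [Nat.reducePow, Nat.reduceMod] at hmod h1 hk
  all_goals try omega
  · -- trivial summand
    exfalso
    apply h.D_ne
    have htop : S.fix h.D_mem = ⊤ := AddSubgroup.eq_top_of_card_eq _ (by
      rw [Nat.card_eq_fintype_card (α := V), hV]; exact (mul_one _).symm.trans h1)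
    refine Equiv.ext fun v => ?_
    have hv : v ∈ S.fix h.D_mem := htop ▸ AddSubgroup.mem_top v
    exact hv
  · exact .inr ⟨hk, n1, n0, h.trivial_small hinv1 (by omega), hfree⟩
  · -- two summands of order sixteen
    exfalso
    have t1 := h.trivial_sixteen hinv1 hk n1
    have t0 := h.trivial_sixteen hinv0 (by omega) n0
    obtain ⟨f, -, hf1⟩ := exists_five
    apply hf1
    apply h.α_inj
    rw [map_one]
    refine Equiv.ext fun v => ?_
    have e : v = QV.norm D 3 v + (v + QV.norm D 3 v) := by rw [add_left_comm, S.two, add_zero]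
    rw [Equiv.Perm.one_apply]
    conv_lhs => rw [e, (h.α_mem f).1]
    conv_rhs => rw [e]
    congr 1
    · exact t0 f _ (S.map_norm h.D_mem h.D_pow v)
    · refine t1 f _ ?_
      show QV.norm D 3 _ = 0
      rw [S.norm_add h.D_mem, S.norm_fixed (p := 3) ⟨1, rfl⟩ (S.map_norm h.D_mem h.D_pow v), S.two]
  · -- a summand of order sixty-four
    exfalso
    obtain ⟨f, hf, hf1⟩ := exists_five
    have t0 := h.trivial_small hinv0 (by omega)
    obtain ⟨m0, m1, hc', hff⟩ := S.split (h.α_mem f) (p := 5) ⟨2, rfl⟩ (by rw [← map_pow, hf, map_one])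
      (hinv1 f) n1
    obtain ⟨j, hj⟩ := S.card_two_pow (S.nker h.D_mem 3 ⊓ S.fix (h.α_mem f))
    have hmj := h.card_fix f hf (S.nker h.D_mem 3) (hinv1 f)
    rw [hk, hj] at hmj
    rw [hk, hj] at hc'
    have hj6 : j ≤ 6 := by
      have hd : 2 ^ j ≤ 64 := Nat.le_of_dvd (by norm_num) ⟨_, hc'⟩
      by_contra hlt
      have := Nat.pow_le_pow_right (show 2 > 0 by norm_num) (show 7 ≤ j by omega)
      norm_num at this
      omega
    interval_cases j
    all_goals simp only [Nat.reducePow, Nat.reduceMod] at hmj hc' hj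
    all_goals try omega
    · -- the element of order five fixes a subgroup of order four
      refine h.false_of_fifteen hf (U := S.nker h.D_mem 3 ⊓ S.nker (h.α_mem f) 5) ?_ ?_ (by omega) m1
        (fun u hu => hfree u hu.1) (fun u hu => hff u hu)
      · rintro u ⟨hu, hu5 : QV.norm (α f) 5 u = 0⟩
        refine ⟨?_, ?_⟩
        · show QV.norm D 3 (D u) = 0
          have hcm : ∀ i : ℕ, (D ^ i) (D u) = D ((D ^ i) u) := fun i => by
            rw [← Equiv.Perm.mul_apply, ← Equiv.Perm.mul_apply, ← pow_succ, ← pow_succ']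
          let g : V →+ V := AddMonoidHom.mk' D h.D_mem.1
          have hm := map_sum g (fun i => (D ^ i) u) (Finset.range 3)
          change D (QV.norm D 3 u) = _ at hm
          rw [show QV.norm D 3 u = 0 from hu, QV.iso_zero h.D_mem] at hm
          simp only [QV.norm, hcm]
          exact hm.symm
        · show QV.norm (α f) 5 (D u) = 0
          have e : ∀ i : ℕ, ((α f) ^ i) (D u) = D (((α f) ^ i) u) := fun i => by
            rw [← map_pow]; exact h.comm_apply _ _
          let g : V →+ V := AddMonoidHom.mk' D h.D_mem.1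
          have hm := map_sum g (fun i => ((α f) ^ i) u) (Finset.range 5)
          change D (QV.norm (α f) 5 u) = _ at hm
          rw [hu5, QV.iso_zero h.D_mem] at hm
          simp only [QV.norm, e]
          exact hm.symm
      · rintro u ⟨hu, hu5 : QV.norm (α f) 5 u = 0⟩
        refine ⟨hinv1 f u hu, ?_⟩
        show QV.norm (α f) 5 (α f u) = 0
        have e : ∀ i : ℕ, ((α f) ^ i) (α f u) = α f (((α f) ^ i) u) := fun i => by
          rw [← Equiv.Perm.mul_apply, ← Equiv.Perm.mul_apply, ← pow_succ, ← pow_succ']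
        let g : V →+ V := AddMonoidHom.mk' (α f) (h.α_mem f).1
        have hm := map_sum g (fun i => ((α f) ^ i) u) (Finset.range 5)
        change α f (QV.norm (α f) 5 u) = _ at hm
        rw [hu5, QV.iso_zero (h.α_mem f)] at hm
        simp only [QV.norm, e]
        exact hm.symm
    · -- the element of order five is trivial
      apply hf1
      apply h.α_inj
      rw [map_one]
      refine Equiv.ext fun v => ?_
      have heq : (S.nker h.D_mem 3 ⊓ S.fix (h.α_mem f) : AddSubgroup V) = S.nker h.D_mem 3 :=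
        AddSubgroup.eq_of_le_of_card_ge inf_le_left (by omega)
      have e : v = QV.norm D 3 v + (v + QV.norm D 3 v) := by rw [add_left_comm, S.two, add_zero]
      rw [Equiv.Perm.one_apply]
      conv_lhs => rw [e, (h.α_mem f).1]
      conv_rhs => rw [e]
      congr 1
      · exact t0 f _ (S.map_norm h.D_mem h.D_pow v)
      · have hm : v + QV.norm D 3 v ∈ S.nker h.D_mem 3 := by
          show QV.norm D 3 _ = 0
          rw [S.norm_add h.D_mem, S.norm_fixed (p := 3) ⟨1, rfl⟩ (S.map_norm h.D_mem h.D_pow v), S.two]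
        exact ((heq.symm ▸ hm : _ ∈ S.nker h.D_mem 3 ⊓ S.fix (h.α_mem f))).2
  · left
    intro v
    have htop : S.nker h.D_mem 3 = ⊤ := AddSubgroup.eq_top_of_card_eq _ (by
      rw [Nat.card_eq_fintype_card (α := V), hV]; exact hk)
    have hv : v ∈ S.nker h.D_mem 3 := htop ▸ AddSubgroup.mem_top v
    have hv' : QV.norm D 3 v = 0 := hv
    simpa [QV.norm, Finset.sum_range_succ, pow_succ] using hv'

end SixAct

end CfsgLib.ExtraNine
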