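import Mathlib

/-!
The symplectic space of dimension four over the field with two elements, in coordinates.
-/

namespace CfsgLib.ExtraNine

/-- The coordinate space of dimension four. -/
abbrev I4 := (ZMod 2 × ZMod 2) × (ZMod 2 × ZMod 2)

/-- The standard alternating form. -/
def om (u w : I4) : ZMod 2 := u.1.1 * w.1.2 + u.1.2 * w.1.1 + u.2.1 * w.2.2 + u.2.2 * w.2.1

theorem i4_two : ∀ u : I4, u + u = 0 := by decide

theorem om_self : ∀ u, om u u = 0 := by decide

theorem om_comm : ∀ u w, om u w = om w u := by decide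

theorem om_add_left : ∀ u u' w, om (u + u') w = om u w + om u' w := by
  intro u u' w
  simp only [om, Prod.fst_add, Prod.snd_add]
  ring

theorem om_add_right (u w w' : I4) : om u (w + w') = om u w + om u w' := by
  rw [om_comm, om_add_left, om_comm w, om_comm w']

theorem om_zero_left (w : I4) : om 0 w = 0 := by simp [om]

theorem om_zero_right (w : I4) : om w 0 = 0 := by simp [om]

theorem om_nondeg : ∀ u, (∀ w, om u w = 0) → u = 0 := by decide

theorem exists_perp_ne : ∀ a : I4, a ≠ 0 → ∃ p, om a p = 0 ∧ p ≠ 0 ∧ p ≠ a := by decide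

theorem exists_perp_sep : ∀ a p : I4, a ≠ 0 → p ≠ 0 → p ≠ a → ∃ i, om i a = 0 ∧ om i p ≠ 0 := by
  decide

theorem not_const : ∀ c : ZMod 2, ∃ u w : I4, u ≠ 0 ∧ w ≠ 0 ∧ u + w ≠ 0 ∧ om u w ≠ c := by decide

/-- The transvection with centre `a`. -/
def transv (a i : I4) : I4 := if om i a = 0 then i else i + a

/-- The group of the form. -/
def SpG : Subgroup (Equiv.Perm I4) where
  carrier := {t | (∀ u w, t (u + w) = t u + t w) ∧ ∀ u w, om (t u) (t w) = om u w}
  one_mem' := ⟨fun _ _ => rfl, fun _ _ => rfl⟩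
  mul_mem' := fun {s t} hs ht => ⟨fun u w => by simp [ht.1, hs.1],
    fun u w => by simp [ht.2, hs.2]⟩
  inv_mem' := fun {t} ht => ⟨fun u w => t.injective (by simp [ht.1]),
    fun u w => by rw [← ht.2]; simp⟩

theorem map_zero_of_mem {t : Equiv.Perm I4} (ht : t ∈ SpG) : t 0 = 0 := by
  have h := ht.1 0 0
  rw [add_zero] at h
  exact left_eq_add.1 h

/-- The list of all vectors. -/
def allV : List I4 :=
  [0, 1].flatMap fun a : ZMod 2 => [0, 1].flatMap fun b : ZMod 2 =>
    [0, 1].flatMap fun c : ZMod 2 => [0, 1].map fun d : ZMod 2 => ((a, b), (c, d))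

theorem mem_allV : ∀ u : I4, u ∈ allV := by decide

/-- The images of a basis under the form group. -/
def frames : List (I4 × I4 × I4 × I4) :=
  allV.flatMap fun a => (allV.filter fun a' => decide (om a a' = 1)).flatMap fun a' =>
    (allV.filter fun b => decide (b ≠ 0 ∧ om a b = 0 ∧ om a' b = 0)).flatMap fun b =>
      (allV.filter fun b' => decide (om a b' = 0 ∧ om a' b' = 0 ∧ om b b' = 1)).map fun b' =>
        (a, a', b, b')

theorem frames_length : frames.length = 720 := by decide +kernel

/-- The first basis vector. -/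
def e1 : I4 := ((1, 0), (0, 0))
/-- The second basis vector. -/
def f1 : I4 := ((0, 1), (0, 0))
/-- The third basis vector. -/
def e2 : I4 := ((0, 0), (1, 0))
/-- The fourth basis vector. -/
def f2 : I4 := ((0, 0), (0, 1))

theorem decomp : ∀ u : I4, u = (if u.1.1 = 1 then e1 else 0) + (if u.1.2 = 1 then f1 else 0) +
    (if u.2.1 = 1 then e2 else 0) + (if u.2.2 = 1 then f2 else 0) := by decide

theorem eq_of_basis {t t' : Equiv.Perm I4} (ht : t ∈ SpG) (ht' : t' ∈ SpG) (h1 : t e1 = t' e1)
    (h2 : t f1 = t' f1) (h3 : t e2 = t' e2) (h4 : t f2 = t' f2) : t = t' := by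
  refine Equiv.ext fun u => ?_
  rw [decomp u, ht.1, ht.1, ht.1, ht'.1, ht'.1, ht'.1]
  split_ifs <;> simp [h1, h2, h3, h4, map_zero_of_mem ht, map_zero_of_mem ht']

theorem basis_forms : om e1 f1 = 1 ∧ om e1 e2 = 0 ∧ om f1 e2 = 0 ∧ om e1 f2 = 0 ∧ om f1 f2 = 0 ∧
    om e2 f2 = 1 ∧ e2 ≠ 0 := by decide

theorem frame_mem {t : Equiv.Perm I4} (ht : t ∈ SpG) : (t e1, t f1, t e2, t f2) ∈ frames := by
  obtain ⟨h1, h2, h3, h4, h5, h6, h7⟩ := basis_forms
  have hne : t e2 ≠ 0 := fun e => h7 (t.injective (e.trans (map_zero_of_mem ht).symm))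
  simp only [frames, List.mem_flatMap, List.mem_map, List.mem_filter, decide_eq_true_eq]
  exact ⟨_, mem_allV _, _, ⟨mem_allV _, (ht.2 _ _).trans h1⟩, _,
    ⟨mem_allV _, hne, (ht.2 _ _).trans h2, (ht.2 _ _).trans h3⟩, _,
    ⟨mem_allV _, (ht.2 _ _).trans h4, (ht.2 _ _).trans h5, (ht.2 _ _).trans h6⟩, rfl⟩

theorem card_SpG_le : Nat.card SpG ≤ 720 := by
  classical
  let f : SpG → frames.toFinset := fun t =>
    ⟨(t.1 e1, t.1 f1, t.1 e2, t.1 f2), List.mem_toFinset.2 (frame_mem t.2)⟩
  have hinj : Function.Injective f := by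
    intro t t' h
    have h' := congrArg Subtype.val h
    simp only [f, Prod.mk.injEq] at h'
    exact Subtype.ext (eq_of_basis t.2 t'.2 h'.1 h'.2.1 h'.2.2.1 h'.2.2.2)
  refine (Nat.card_le_card_of_injective f hinj).trans ?_
  rw [Nat.card_eq_fintype_card, Fintype.card_coe]
  exact frames_length ▸ List.toFinset_card_le _

/-- The map with a prescribed image of the basis. -/
def frameFun (a a' b b' u : I4) : I4 :=
  (if u.1.1 = 1 then a else 0) + (if u.1.2 = 1 then a' else 0) + (if u.2.1 = 1 then b else 0) +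
    (if u.2.2 = 1 then b' else 0)

theorem zcases : ∀ c : ZMod 2, c = 0 ∨ c = 1 := by decide

theorem exists_frame {a a' b b' : I4} (h1 : om a a' = 1) (h2 : om a b = 0) (h3 : om a' b = 0)
    (h4 : om a b' = 0) (h5 : om a' b' = 0) (h6 : om b b' = 1) :
    ∃ t ∈ SpG, t e1 = a ∧ t f1 = a' ∧ t e2 = b ∧ t f2 = b' := by
  have hlin : ∀ u w, frameFun a a' b b' (u + w) = frameFun a a' b b' u + frameFun a a' b b' w := by
    intro u w
    obtain ⟨⟨u1, u2⟩, u3, u4⟩ := u
    obtain ⟨⟨w1, w2⟩, w3, w4⟩ := w
    simp only [frameFun, Prod.mk_add_mk]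
    have key : ∀ (x y : ZMod 2) (c : I4), (if x + y = 1 then c else 0) =
        (if x = 1 then c else 0) + (if y = 1 then c else 0) := by
      intro x y c
      rcases zcases x with rfl | rfl <;> rcases zcases y with rfl | rfl <;>
        simp [i4_two, show (1 : ZMod 2) + 1 = 0 from rfl]
    rw [key, key, key, key]
    abel
  have hform : ∀ u w, om (frameFun a a' b b' u) (frameFun a a' b b' w) = om u w := by
    intro u w
    obtain ⟨⟨u1, u2⟩, u3, u4⟩ := u
    obtain ⟨⟨w1, w2⟩, w3, w4⟩ := w
    have h1' := (om_comm a' a).trans h1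
    have h2' := (om_comm b a).trans h2
    have h3' := (om_comm b a').trans h3
    have h4' := (om_comm b' a).trans h4
    have h5' := (om_comm b' a').trans h5
    have h6' := (om_comm b' b).trans h6
    have key : ∀ (x : ZMod 2) (c d : I4), om (if x = 1 then c else 0) d = x * om c d := by
      intro x c d
      rcases zcases x with rfl | rfl <;> simp [om_zero_left]
    have key' : ∀ (x : ZMod 2) (c d : I4), om c (if x = 1 then d else 0) = x * om c d := by
      intro x c d
      rcases zcases x with rfl | rfl <;> simp [om_zero_right]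
    simp only [frameFun, om_add_left, om_add_right, key, key', h1, h2, h3, h4, h5, h6, h1', h2', h3',
      h4', h5', h6', om_self, mul_zero, mul_one, add_zero, zero_add]
    simp only [om]
    ring
  have hinj : Function.Injective (frameFun a a' b b') := by
    intro u w h
    have h0 : u + w = 0 := by
      refine om_nondeg _ fun y => ?_
      rw [← hform, hlin, h, i4_two, om_zero_left]
    calc u = u + (w + w) := by rw [i4_two, add_zero]
      _ = u + w + w := (add_assoc _ _ _).symm
      _ = w := by rw [h0, zero_add]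
  refine ⟨Equiv.ofBijective _ (Finite.injective_iff_bijective.1 hinj), ⟨hlin, hform⟩, ?_, ?_, ?_, ?_⟩
  all_goals
    simp only [Equiv.ofBijective_apply]
    simp [frameFun, e1, f1, e2, f2]

theorem complete_pair_aux : ∀ a b : I4, a = 0 ∨ b = 0 ∨ a = b ∨ om a b = 1 ∨
    ∃ a' : I4, om a a' = 1 ∧ om a' b = 0 := by decide +kernel

theorem complete_pair (a b : I4) (ha : a ≠ 0) (hb : b ≠ 0) (hab : a ≠ b) (h : om a b = 0) :
    ∃ a' : I4, om a a' = 1 ∧ om a' b = 0 := by
  rcases complete_pair_aux a b with e | e | e | e | e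
  exacts [absurd e ha, absurd e hb, absurd e hab, absurd (h.symm.trans e) zero_ne_one, e]

theorem complete_last_aux : ∀ a a' b : I4, om a a' = 0 ∨ b = 0 ∨ om a b = 1 ∨ om a' b = 1 ∨
    ∃ b' : I4, om a b' = 0 ∧ om a' b' = 0 ∧ om b b' = 1 := by decide +kernel

theorem complete_last (a a' b : I4) (h1 : om a a' = 1) (hb : b ≠ 0) (h : om a b = 0)
    (h3 : om a' b = 0) : ∃ b' : I4, om a b' = 0 ∧ om a' b' = 0 ∧ om b b' = 1 := by
  rcases complete_last_aux a a' b with e | e | e | e | e
  exacts [absurd (e.symm.trans h1) zero_ne_one, absurd e hb, absurd (h.symm.trans e) zero_ne_one,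
    absurd (h3.symm.trans e) zero_ne_one, e]

/-- An isotropic pair is the image of the standard one. -/
theorem exists_map_pair {a b : I4} (ha : a ≠ 0) (hb : b ≠ 0) (hab : a ≠ b) (h : om a b = 0) :
    ∃ t ∈ SpG, t e1 = a ∧ t e2 = b := by
  obtain ⟨a', h1, h3⟩ := complete_pair a b ha hb hab h
  obtain ⟨b', h4, h5, h6⟩ := complete_last a a' b h1 hb h h3
  obtain ⟨t, ht, q1, -, q3, -⟩ := exists_frame h1 h h3 h4 h5 h6
  exact ⟨t, ht, q1, q3⟩

theorem exists_map_point {a : I4} (ha : a ≠ 0) : ∃ t ∈ SpG, t e1 = a := by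
  obtain ⟨p, h, hp, hpa⟩ := exists_perp_ne a ha
  obtain ⟨t, ht, q, -⟩ := exists_map_pair ha hp (Ne.symm hpa) h
  exact ⟨t, ht, q⟩

theorem transv_mem (a : I4) : ∃ t ∈ SpG, ∀ i, t i = transv a i := by
  have hlin : ∀ u w, transv a (u + w) = transv a u + transv a w := by
    intro u w
    simp only [transv, om_add_left]
    rcases zcases (om u a) with h | h <;> rcases zcases (om w a) with h' | h' <;>
      simp [h, h', show (1 : ZMod 2) + 1 = 0 from rfl]
    · abel
    · abel
    · have e := i4_two a
      calc u + w = u + w + (a + a) := by rw [e, add_zero]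
        _ = _ := by abel
  have hform : ∀ u w, om (transv a u) (transv a w) = om u w := by
    intro u w
    simp only [transv]
    rcases zcases (om u a) with h | h <;> rcases zcases (om w a) with h' | h' <;>
      simp [h, h', om_add_left, om_add_right, om_self, om_comm a w]
    rw [add_assoc, show (1 : ZMod 2) + 1 = 0 from rfl, add_zero]
  have hinv : Function.Involutive (transv a) := by
    intro u
    simp only [transv]
    rcases zcases (om u a) with h | h <;> simp [h, om_add_left, om_self, add_assoc, i4_two]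
  exact ⟨hinv.toPerm, ⟨hlin, hform⟩, fun i => rfl⟩

/-- An isometry moving every vector by a multiple of `a` is trivial or the transvection. -/
theorem eq_transv {t : Equiv.Perm I4} (ht : t ∈ SpG) {a : I4} (ha : a ≠ 0)
    (h : ∀ i, t i = i ∨ t i = i + a) : (∀ i, t i = i) ∨ ∀ i, t i = transv a i := by
  obtain ⟨j, hj⟩ : ∃ j, om j a ≠ 0 := by
    by_contra hno
    push Not at hno
    exact ha (om_nondeg a fun w => (om_comm a w).trans (hno w))
  have hj1 : om j a = 1 := (zcases _).resolve_left hj
  rcases h j with hjt | hjt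
  · left
    intro i
    rcases h i with hi | hi
    · exact hi
    · exfalso
      have e := ht.2 i j
      rw [hi, hjt, om_add_left, om_comm a, hj1] at e
      simp at e
  · right
    intro i
    simp only [transv]
    rcases h i with hi | hi <;> rcases zcases (om i a) with h0 | h0 <;> simp only [h0, hi]
    · simp
    · exfalso
      have e := ht.2 i j
      rw [hi, hjt, om_add_right, h0] at e
      simp at e
    · exfalso
      have e := ht.2 i j
      rw [hi, hjt, om_add_left, om_add_right, om_add_right, h0, om_comm a j, hj1, om_self] at e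
      simp at e
    · simp

end CfsgLib.ExtraNine
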