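import Mathlib

/-!
Isometries of odd order of a quadratic space over the field with two elements, and actions of the
alternating group of degree six on such spaces.
-/

namespace CfsgLib.ExtraNine

/-- A nondegenerate quadratic space over the field with two elements. -/
structure QV (V : Type*) [AddCommGroup V] where
  q : V → ZMod 2
  two : ∀ v : V, v + v = 0
  add_left : ∀ u u' w, q (u + u' + w) + q (u + u') + q w =
    (q (u + w) + q u + q w) + (q (u' + w) + q u' + q w)
  nondeg : ∀ u, (∀ w, q (u + w) + q u + q w = 0) → u = 0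

variable {V : Type*} [AddCommGroup V]

namespace QV

variable (S : QV V)

/-- The polar form. -/
def B (u w : V) : ZMod 2 := S.q (u + w) + S.q u + S.q w

theorem B_add_left (u u' w : V) : S.B (u + u') w = S.B u w + S.B u' w := S.add_left u u' w

theorem B_comm (u w : V) : S.B u w = S.B w u := by simp only [B, add_comm u w]; ring

theorem B_add_right (u w w' : V) : S.B u (w + w') = S.B u w + S.B u w' := by
  rw [S.B_comm, S.B_add_left, S.B_comm w, S.B_comm w']

theorem B_zero_left (w : V) : S.B 0 w = 0 := by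
  have h := S.B_add_left 0 0 w
  rw [add_zero] at h
  exact left_eq_add.1 h

theorem B_zero_right (u : V) : S.B u 0 = 0 := by rw [S.B_comm, S.B_zero_left]

theorem q_zero : S.q 0 = 0 := by
  have h := S.B_zero_left 0
  simp only [B, add_zero] at h
  revert h; generalize S.q 0 = a; revert a; decide

theorem B_self (u : V) : S.B u u = 0 := by
  simp only [B, S.two, S.q_zero, zero_add]
  exact CharTwo.add_self_eq_zero _

theorem q_add (u w : V) : S.q (u + w) = S.q u + S.q w + S.B u w := by
  simp only [B]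
  linear_combination -(CharTwo.add_self_eq_zero (S.q u)) - CharTwo.add_self_eq_zero (S.q w)

/-- The isometries. -/
def Iso : Subgroup (Equiv.Perm V) where
  carrier := {g | (∀ u w, g (u + w) = g u + g w) ∧ ∀ u, S.q (g u) = S.q u}
  one_mem' := ⟨fun _ _ => rfl, fun _ => rfl⟩
  mul_mem' := fun {g h} hg hh => ⟨fun u w => by simp [hh.1, hg.1], fun u => by simp [hg.2, hh.2]⟩
  inv_mem' := fun {g} hg => ⟨fun u w => g.injective (by simp [hg.1]),
    fun u => by rw [← hg.2]; simp⟩

variable {S}

theorem iso_zero {g : Equiv.Perm V} (hg : g ∈ S.Iso) : g 0 = 0 := by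
  have h := hg.1 0 0
  rw [add_zero] at h
  exact left_eq_add.1 h

theorem iso_B {g : Equiv.Perm V} (hg : g ∈ S.Iso) (u w : V) : S.B (g u) (g w) = S.B u w := by
  simp only [B, ← hg.1, hg.2]

variable (S)

/-- Nondegeneracy on a subgroup. -/
def Nondeg (U : AddSubgroup V) : Prop := ∀ u ∈ U, (∀ w ∈ U, S.B u w = 0) → u = 0

theorem nondeg_top : S.Nondeg ⊤ := fun u _ h => S.nondeg u fun w => h w trivial

variable [Fintype V]

include S in
theorem card_two_pow (U : AddSubgroup V) : ∃ k : ℕ, Nat.card U = 2 ^ k := by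
  have hp : IsPGroup 2 (Multiplicative U) := fun x => ⟨1, by
    rw [pow_one, sq]
    apply Multiplicative.toAdd.injective
    exact Subtype.ext (S.two _)⟩
  haveI : Fact (Nat.Prime 2) := ⟨Nat.prime_two⟩
  obtain ⟨k, hk⟩ := IsPGroup.iff_card.1 hp
  exact ⟨k, by rw [← hk]; exact Nat.card_congr Multiplicative.ofAdd⟩

/-- The fixed space of an isometry. -/
def fix {g : Equiv.Perm V} (hg : g ∈ S.Iso) : AddSubgroup V where
  carrier := {v | g v = v}
  zero_mem' := iso_zero hg
  add_mem' := fun {a b} (ha : g a = a) (hb : g b = b) => by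
    show g (a + b) = a + b; rw [hg.1, ha, hb]
  neg_mem' := fun {a} (ha : g a = a) => by
    show g (-a) = -a
    have : -a = a := neg_eq_of_add_eq_zero_left (S.two a)
    rw [this, ha]

theorem card_modEq {g : Equiv.Perm V} (hg : g ∈ S.Iso) {p : ℕ} [Fact p.Prime] (hp : g ^ p = 1)
    (U : AddSubgroup V) (hU : ∀ u ∈ U, g u ∈ U) :
    Nat.card (U ⊓ S.fix hg : AddSubgroup V) ≡ Nat.card U [MOD p] := by
  classical
  have hU' : ∀ x, g x ∈ U ↔ x ∈ U := by
    intro x
    refine ⟨fun hx => ?_, hU x⟩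
    have hall : ∀ n : ℕ, ∀ y ∈ U, (g ^ n) y ∈ U := by
      intro n
      induction n with
      | zero => exact fun y hy => hy
      | succ n ih => intro y hy; rw [pow_succ, Equiv.Perm.mul_apply]; exact ih _ (hU y hy)
    have hp0 : 0 < p := (Fact.out : p.Prime).pos
    have := hall (p - 1) _ hx
    rwa [← Equiv.Perm.mul_apply, ← pow_succ, Nat.sub_add_cancel hp0, hp] at this
  let σ : Equiv.Perm U := g.subtypePerm hU'
  have hσ : σ ^ p ^ 1 = 1 := by
    rw [pow_one]
    ext x
    simp [σ, hp]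
  have h := Equiv.Perm.card_compl_support_modEq hσ
  have hc : σ.supportᶜ.card = Nat.card (U ⊓ S.fix hg : AddSubgroup V) := by
    rw [← Nat.card_eq_finsetCard]
    refine Nat.card_congr
      ⟨fun x => ⟨(x.1 : V), x.1.2, ?_⟩, fun y => ⟨⟨y.1, y.2.1⟩, ?_⟩, fun x => rfl, fun y => rfl⟩
    · have := x.2
      simp only [Finset.mem_compl, Equiv.Perm.mem_support, not_not] at this
      exact congrArg Subtype.val this
    · simp only [Finset.mem_compl, Equiv.Perm.mem_support, not_not]
      exact Subtype.ext y.2.2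
  rwa [hc, Fintype.card_eq_nat_card] at h

/-- The sum over the powers of an isometry. -/
def norm (g : Equiv.Perm V) (p : ℕ) (v : V) : V := ∑ i ∈ Finset.range p, (g ^ i) v

omit [Fintype V] in
theorem norm_add {g : Equiv.Perm V} (hg : g ∈ S.Iso) (p : ℕ) (u w : V) :
    norm g p (u + w) = norm g p u + norm g p w := by
  simp only [norm, (pow_mem hg _ : g ^ _ ∈ S.Iso).1, Finset.sum_add_distrib]

omit [Fintype V] in
theorem norm_zero {g : Equiv.Perm V} (hg : g ∈ S.Iso) (p : ℕ) : norm g p (0 : V) = 0 :=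
  Finset.sum_eq_zero fun i _ => iso_zero (pow_mem hg i)

/-- The kernel of the norm. -/
def nker {g : Equiv.Perm V} (hg : g ∈ S.Iso) (p : ℕ) : AddSubgroup V where
  carrier := {v | norm g p v = 0}
  zero_mem' := S.norm_zero hg p
  add_mem' := fun {a b} (ha : norm g p a = 0) (hb : norm g p b = 0) => by
    show norm g p (a + b) = 0; rw [S.norm_add hg, ha, hb, add_zero]
  neg_mem' := fun {a} (ha : norm g p a = 0) => by
    show norm g p (-a) = 0
    rw [neg_eq_of_add_eq_zero_left (S.two a), ha]

omit [Fintype V] in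
include S in
theorem smul_odd {p : ℕ} (hp : Odd p) (v : V) : p • v = v := by
  obtain ⟨k, rfl⟩ := hp
  rw [succ_nsmul, mul_comm, mul_nsmul', two_nsmul, S.two, smul_zero, zero_add]

omit [Fintype V] in
include S in
theorem norm_fixed {g : Equiv.Perm V} {p : ℕ} (hp : Odd p) {v : V} (hv : g v = v) :
    norm g p v = v := by
  have h : ∀ i : ℕ, (g ^ i) v = v := by
    intro i
    induction i with
    | zero => rfl
    | succ i ih => rw [pow_succ, Equiv.Perm.mul_apply, hv, ih]
  simp only [norm, h, Finset.sum_const, Finset.card_range]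
  exact S.smul_odd hp v

omit [Fintype V] in
theorem map_norm {g : Equiv.Perm V} (hg : g ∈ S.Iso) {p : ℕ} (hgp : g ^ p = 1) (v : V) :
    g (norm g p v) = norm g p v := by
  let f : V →+ V := AddMonoidHom.mk' g hg.1
  have h := map_sum f (fun i => (g ^ i) v) (Finset.range p)
  change g (norm g p v) = _ at h
  rw [h]
  have e : ∀ i, f ((g ^ i) v) = (g ^ (i + 1)) v := fun i => by
    rw [pow_succ', Equiv.Perm.mul_apply]; rfl
  simp only [e, norm]
  have h1 := Finset.sum_range_succ' (fun i => (g ^ i) v) p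
  have h2 := Finset.sum_range_succ (fun i => (g ^ i) v) p
  rw [h2, hgp] at h1
  simp only [pow_zero] at h1
  exact (add_right_cancel h1).symm

omit [Fintype V] in
theorem B_norm {g : Equiv.Perm V} (hg : g ∈ S.Iso) {p : ℕ} (hp : Odd p) {w : V} (hw : g w = w)
    (u : V) : S.B w (norm g p u) = S.B w u := by
  let f : V →+ ZMod 2 := AddMonoidHom.mk' (S.B w) (S.B_add_right w)
  have h := map_sum f (fun i => (g ^ i) u) (Finset.range p)
  change S.B w (norm g p u) = _ at h
  rw [h]
  have hfix : ∀ i : ℕ, (g ^ i) w = w := by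
    intro i
    induction i with
    | zero => rfl
    | succ i ih => rw [pow_succ, Equiv.Perm.mul_apply, hw, ih]
  have e : ∀ i, f ((g ^ i) u) = S.B w u := fun i => by
    show S.B w ((g ^ i) u) = _
    conv_lhs => rw [← hfix i]
    exact iso_B (pow_mem hg i) w u
  simp only [e, Finset.sum_const, Finset.card_range, nsmul_eq_mul]
  obtain ⟨k, rfl⟩ := hp
  push_cast
  rw [show (2 : ZMod 2) = 0 from rfl]
  ring

omit [Fintype V] in
theorem B_fix_nker {g : Equiv.Perm V} (hg : g ∈ S.Iso) {p : ℕ} (hp : Odd p) {w u : V}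
    (hw : g w = w) (hu : norm g p u = 0) : S.B w u = 0 := by
  rw [← S.B_norm hg hp hw, hu, S.B_zero_right]

/-- The decomposition of an invariant nondegenerate subgroup by an isometry of odd order. -/
theorem split {g : Equiv.Perm V} (hg : g ∈ S.Iso) {p : ℕ} (hp : Odd p) (hgp : g ^ p = 1)
    {U : AddSubgroup V} (hU : ∀ u ∈ U, g u ∈ U) (hn : S.Nondeg U) :
    S.Nondeg (U ⊓ S.fix hg) ∧ S.Nondeg (U ⊓ S.nker hg p) ∧
      Nat.card U = Nat.card (U ⊓ S.fix hg : AddSubgroup V) *
        Nat.card (U ⊓ S.nker hg p : AddSubgroup V) ∧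
      ∀ u ∈ U ⊓ S.nker hg p, g u = u → u = 0 := by
  have hpow : ∀ i : ℕ, ∀ u ∈ U, (g ^ i) u ∈ U := by
    intro i
    induction i with
    | zero => exact fun u hu => hu
    | succ i ih => intro u hu; rw [pow_succ, Equiv.Perm.mul_apply]; exact ih _ (hU u hu)
  have hN : ∀ u ∈ U, norm g p u ∈ U := fun u hu => sum_mem fun i _ => hpow i u hu
  have hN1 : ∀ u ∈ U, u + norm g p u ∈ U ⊓ S.nker hg p := by
    intro u hu
    refine ⟨add_mem hu (hN u hu), ?_⟩
    show norm g p (u + norm g p u) = 0
    rw [S.norm_add hg, S.norm_fixed hp (S.map_norm hg hgp u), S.two]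
  have hdec : ∀ u : V, u = norm g p u + (u + norm g p u) := fun u => by
    rw [add_left_comm, S.two, add_zero]
  refine ⟨?_, ?_, ?_, ?_⟩
  · rintro u ⟨hu, hu'⟩ h
    refine hn u hu fun w hw => ?_
    rw [← S.B_norm hg hp hu']
    exact h _ ⟨hN w hw, S.map_norm hg hgp w⟩
  · rintro u ⟨hu, hu'⟩ h
    refine hn u hu fun w hw => ?_
    rw [hdec w, S.B_add_right, h _ (hN1 w hw), S.B_comm,
      S.B_fix_nker hg hp (S.map_norm hg hgp w) hu', add_zero]
  · rw [← Nat.card_prod]
    refine (Nat.card_congr (Equiv.ofBijective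
      (fun x : (U ⊓ S.fix hg : AddSubgroup V) × (U ⊓ S.nker hg p : AddSubgroup V) =>
        (⟨(x.1 : V) + x.2, add_mem x.1.2.1 x.2.2.1⟩ : U)) ⟨?_, ?_⟩)).symm
    · rintro ⟨a, b⟩ ⟨a', b'⟩ h
      have h' : (a : V) + b = a' + b' := congrArg Subtype.val h
      have hk := congrArg (norm g p) h'
      rw [S.norm_add hg, S.norm_add hg, S.norm_fixed hp a.2.2, S.norm_fixed hp a'.2.2,
        show norm g p (b : V) = 0 from b.2.2, show norm g p (b' : V) = 0 from b'.2.2, add_zero,
        add_zero] at hk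
      rw [hk] at h'
      exact Prod.ext (Subtype.ext hk) (Subtype.ext (add_left_cancel h'))
    · rintro ⟨u, hu⟩
      exact ⟨(⟨_, hN u hu, S.map_norm hg hgp u⟩, ⟨_, hN1 u hu⟩), Subtype.ext (hdec u).symm⟩
  · rintro u ⟨-, hu'⟩ h
    rw [← S.norm_fixed hp h]
    exact hu'

/-- A nondegenerate subgroup of order at least eight has no constant form off zero. -/
theorem not_constant {U : AddSubgroup V} (hn : S.Nondeg U) (hc : 4 < Nat.card U) (c : ZMod 2)
    (h : ∀ u ∈ U, u ≠ 0 → S.q u = c) : False := by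
  classical
  have hB : ∀ u ∈ U, ∀ w ∈ U, u ≠ 0 → w ≠ 0 → u + w ≠ 0 → S.B u w = c := by
    intro u hu w hw h1 h2 h3
    simp only [B, h _ (add_mem hu hw) h3, h u hu h1, h w hw h2]
    linear_combination CharTwo.add_self_eq_zero c
  haveI : Fintype U := Fintype.ofFinite U
  have hex : ∀ A : Finset V, A.card < Nat.card U → ∃ u ∈ U, u ∉ A := by
    intro A hA
    by_contra hno
    push Not at hno
    have h := Finset.card_le_card (s := Finset.univ.map ⟨Subtype.val, Subtype.val_injective⟩)
      (t := A) (fun x hx => by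
        obtain ⟨y, -, rfl⟩ := Finset.mem_map.1 hx
        exact hno _ (y : U).2)
    rw [Finset.card_map, Finset.card_univ, ← Nat.card_eq_fintype_card] at h
    omega
  obtain ⟨u, hu, hu0⟩ := hex {0} (by rw [Finset.card_singleton]; omega)
  obtain ⟨w, hw, hw0⟩ := hex {0, u} (lt_of_le_of_lt Finset.card_le_two (by omega))
  simp only [Finset.mem_insert, Finset.mem_singleton, not_or] at hu0 hw0
  have huw : u + w ≠ 0 := fun e => hw0.2 (by
    rw [eq_neg_of_add_eq_zero_left e, neg_eq_of_add_eq_zero_left (S.two w)])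
  have h2 := hB u hu w hw hu0 hw0.1 huw
  have huwu : u + (u + w) = w := by rw [← add_assoc, S.two, zero_add]
  have h3 := hB u hu _ (add_mem hu hw) hu0 huw (by rw [huwu]; exact hw0.1)
  rw [S.B_add_right, S.B_self, h2, zero_add] at h3
  obtain ⟨y, hy, hy'⟩ := hex {0, u, w, u + w}
    (lt_of_le_of_lt ((Finset.card_insert_le _ _).trans (Nat.succ_le_succ
      ((Finset.card_insert_le _ _).trans (Nat.succ_le_succ Finset.card_le_two)))) hc)
  simp only [Finset.mem_insert, Finset.mem_singleton, not_or] at hy'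
  have hwy : w + y ≠ 0 := fun e => hy'.2.2.1 (by
    rw [eq_neg_of_add_eq_zero_right e, neg_eq_of_add_eq_zero_left (S.two w)])
  have h4 := hB u hu y hy hu0 hy'.1 (fun e => hy'.2.1 (by
    rw [eq_neg_of_add_eq_zero_right e, neg_eq_of_add_eq_zero_left (S.two u)]))
  have h5 := hB u hu _ (add_mem hw hy) hu0 hwy (fun e => hy'.2.2.2 (by
    rw [← add_assoc] at e
    rw [eq_neg_of_add_eq_zero_right e, neg_eq_of_add_eq_zero_left (S.two (u + w))]))
  rw [S.B_add_right, h2, h4] at h5
  have hc0 : c = 0 := by rw [← h5]; exact CharTwo.add_self_eq_zero c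
  refine hu0 (hn u hu fun x hx => ?_)
  by_cases hx0 : x = 0
  · rw [hx0, S.B_zero_right]
  by_cases hxu : u + x = 0
  · rw [show x = u by rw [eq_neg_of_add_eq_zero_right hxu, neg_eq_of_add_eq_zero_left (S.two u)],
      S.B_self]
  · rw [hB u hu x hx hu0 hx0 hxu, hc0]

end QV

end CfsgLib.ExtraNine
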