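import Cfsg.Agent.Lib.ExtraNine.Sp4
import Cfsg.Agent.Lib.ExtraNine.Six

/-!
The tensor coordinates of a fixed point free element of order three, commuting with the alternating
group of degree six, and inverted by an involutory isometry commuting with that group.
-/

namespace CfsgLib.ExtraNine

/-- The action of the involution on coordinates. -/
def sAct (b : Bool) (p : I4 × I4) : I4 × I4 := if b then (p.1 + p.2, p.2) else p

/-- The action of the powers of the element of order three on coordinates. -/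
def dAct : Fin 3 → I4 × I4 → I4 × I4
  | 0, p => p
  | 1, p => (p.2, p.1 + p.2)
  | 2, p => (p.1 + p.2, p.1)

/-- A general element on coordinates. -/
def act (k : Fin 3) (b : Bool) (t : Equiv.Perm I4) (p : I4 × I4) : I4 × I4 :=
  dAct k (sAct b (t p.1, t p.2))

variable {V : Type*} [AddCommGroup V]

/-- An element acting as a diagonal isometry lies in the group. -/
def Lift (H : Subgroup (Equiv.Perm V)) (e : I4 × I4 ≃ V) (t : Equiv.Perm I4) : Prop :=
  ∃ g ∈ H, ∀ p, g (e p) = e (t p.1, t p.2)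

/-- Tensor coordinates for a group of isometries. -/
structure Tensor (S : QV V) (H : Subgroup (Equiv.Perm V)) (D : Equiv.Perm V) where
  e : I4 × I4 ≃ V
  e_add : ∀ p p', e (p + p') = e p + e p'
  q_e : ∀ p : I4 × I4, S.q (e p) = om p.1 p.2
  D_mem : D ∈ H
  D_e : ∀ p, D (e p) = e (p.2, p.1 + p.2)
  elt : ∀ g ∈ H, ∃ (k : Fin 3) (b : Bool) (t : Equiv.Perm I4), t ∈ SpG ∧ ∀ p, g (e p) = e (act k b t p)
  lift_sq : ∀ t ∈ SpG, Lift H e (t * t)
  lift_comm : ∀ t ∈ SpG, ∀ u ∈ SpG, Lift H e (t * u * t⁻¹ * u⁻¹)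
  trans : ∀ a b : I4, a ≠ 0 → b ≠ 0 → ∃ t ∈ SpG, Lift H e t ∧ t a = b

theorem dAct_one_apply (p : I4 × I4) : dAct 1 p = (p.2, p.1 + p.2) := rfl

variable [Fintype V] {S : QV V}

open QV in
theorem exists_tensor {D : Equiv.Perm V} {α : A6 →* Equiv.Perm V} (h : SixAct S D α)
    (hV : Fintype.card V = 256) (hfree : ∀ v, v + D v + D (D v) = 0)
    (Sw : Equiv.Perm V) (hS : Sw ∈ S.Iso) (hS2 : ∀ v, Sw (Sw v) = v)
    (hSD : ∀ v, Sw (D v) = D (D (Sw v))) (hSα : ∀ a v, Sw (α a v) = α a (Sw v))
    (H : Subgroup (Equiv.Perm V)) (hDH : D ∈ H) (hαH : ∀ a, α a ∈ H)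
    (hgen : ∀ g ∈ H, ∃ (k : Fin 3) (b : Bool) (g' : Equiv.Perm V), g' ∈ S.Iso ∧
      (∀ v, g' (D v) = D (g' v)) ∧ (∀ v, g' (Sw v) = Sw (g' v)) ∧
      g = D ^ (k : ℕ) * (if b then Sw else 1) * g') :
    Nonempty (Tensor S H D) := by
  classical
  set I := S.fix hS with hI
  have hII : ∀ u ∈ I, Sw u = u := fun u hu => hu
  have hneg : ∀ u : V, -u = u := fun u => neg_eq_of_add_eq_zero_left (S.two u)
  have hDD : ∀ v, D (D v) = v + D v := fun v => by
    rw [eq_neg_of_add_eq_zero_right (hfree v), hneg]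
  -- the two summands
  let Φ : I × I → V := fun x => (x.1 : V) + D x.2
  have hΦs : ∀ i ∈ I, ∀ j ∈ I, Sw (i + D j) = (i + j) + D j := by
    intro i hi j hj
    rw [hS.1, hSD, hII i hi, hII j hj, hDD]
    abel
  have hΦ : Function.Bijective Φ := by
    constructor
    · rintro ⟨⟨i, hi⟩, ⟨j, hj⟩⟩ ⟨⟨i', hi'⟩, ⟨j', hj'⟩⟩ hh
      simp only [Φ] at hh
      have h2 := congrArg Sw hh
      rw [hΦs i hi j hj, hΦs i' hi' j' hj'] at h2
      have hjj : j = j' := by
        have e : (i + j + D j) + (i + D j) = (i' + j' + D j') + (i' + D j') := by rw [hh, h2]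
        have e1 : ∀ a c : V, (a + c + D c) + (a + D c) = c := fun a c => by
          rw [show (a + c + D c) + (a + D c) = c + ((a + a) + (D c + D c)) by abel, S.two, S.two,
            add_zero, add_zero]
        rwa [e1, e1] at e
      subst hjj
      have hii : i = i' := add_right_cancel hh
      subst hii
      rfl
    · intro u
      refine ⟨(⟨u + D (Sw u + u), ?_⟩, ⟨Sw u + u, ?_⟩), ?_⟩
      · show Sw (u + D (Sw u + u)) = u + D (Sw u + u)
        rw [hS.1, hSD, hS.1, hS2, hDD, add_comm (Sw u) u]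
        rw [show Sw u + (u + Sw u + D (u + Sw u)) = (Sw u + Sw u) + (u + D (u + Sw u)) by abel, S.two,
          zero_add]
      · show Sw (Sw u + u) = Sw u + u
        rw [hS.1, hS2, add_comm]
      · simp only [Φ]
        rw [add_assoc, S.two, add_zero]
  have hIcard : Nat.card I = 16 := by
    have hc := Nat.card_congr (Equiv.ofBijective Φ hΦ)
    rw [Nat.card_prod, Nat.card_eq_fintype_card (α := V), hV] at hc
    exact Nat.mul_self_inj.1 (hc.trans (by norm_num : (256 : ℕ) = 16 * 16))
  -- the action of the alternating group on the summand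
  have hαI : ∀ a, ∀ u ∈ I, α a u ∈ I := fun a u hu => by
    show Sw (α a u) = α a u
    rw [hSα, hII u hu]
  obtain ⟨f, hf, hf1⟩ := exists_five
  have hall : ∀ a, (∀ u ∈ I, α a u = u) → a = 1 := by
    intro a ha
    apply h.α_inj
    rw [map_one]
    refine Equiv.ext fun v => ?_
    obtain ⟨⟨i, j⟩, rfl⟩ := hΦ.2 v
    simp only [Φ, Equiv.Perm.one_apply, (h.α_mem a).1, h.comm_apply, ha _ i.2, ha _ j.2]
  have hffree : ∀ u ∈ I, α f u = u → u = 0 := by
    obtain ⟨j, hj⟩ := S.card_two_pow (I ⊓ S.fix (h.α_mem f))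
    have hle : Nat.card (I ⊓ S.fix (h.α_mem f) : AddSubgroup V) ≤ Nat.card I :=
      AddSubgroup.card_le_of_le inf_le_left
    have hm := h.card_fix f hf I (hαI f)
    rw [hIcard, hj] at hm hle
    have hj4 : j ≤ 4 := (Nat.pow_le_pow_iff_right (by norm_num : 1 < 2)).1 hle
    have hj0 : j = 0 ∨ j = 4 := by interval_cases j <;> simp_all
    rcases hj0 with rfl | rfl
    · intro u hu hfu
      have heq := AddSubgroup.card_le_one_iff_eq_bot _ |>.1 (le_of_eq hj)
      exact AddSubgroup.mem_bot.1 (heq ▸ (⟨hu, hfu⟩ : u ∈ I ⊓ S.fix (h.α_mem f)))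
    · exfalso
      have heq : (I ⊓ S.fix (h.α_mem f) : AddSubgroup V) = I :=
        AddSubgroup.eq_of_le_of_card_ge inf_le_left (by rw [hIcard, hj]; norm_num)
      exact hf1 (hall f fun u hu => ((heq.symm ▸ hu : u ∈ I ⊓ S.fix (h.α_mem f))).2)
  -- the summand is totally singular
  have hBI : ∀ u ∈ I, ∀ w ∈ I, S.B u w = 0 := by
    intro u hu w hw
    obtain ⟨y, rfl⟩ : ∃ y, w = y + Sw y := by
      refine ⟨D w, ?_⟩
      rw [hSD, hII w hw, hDD, add_left_comm, S.two, add_zero]
    rw [S.B_add_right]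
    conv_lhs => arg 1; rw [← iso_B hS u y, hII u hu]
    exact CharTwo.add_self_eq_zero _
  have hqI : ∀ u ∈ I, S.q u = 0 := by
    by_contra hno
    push Not at hno
    obtain ⟨u, hu, hu1⟩ := hno
    have hc1 : ∀ c : ZMod 2, c ≠ 0 → c = 1 := by decide
    let K : AddSubgroup V :=
      { carrier := {v | v ∈ I ∧ S.q v = 0}
        zero_mem' := ⟨I.zero_mem, S.q_zero⟩
        add_mem' := fun {a b} (ha : a ∈ I ∧ S.q a = 0) (hb : b ∈ I ∧ S.q b = 0) =>
          ⟨I.add_mem ha.1 hb.1, by rw [S.q_add, ha.2, hb.2, hBI a ha.1 b hb.1, add_zero, add_zero]⟩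
        neg_mem' := fun {a} (ha : a ∈ I ∧ S.q a = 0) => by
          show -a ∈ I ∧ S.q (-a) = 0
          rw [hneg]; exact ha }
    have hKI : K ≤ I := fun v hv => hv.1
    let F : I ≃ K × Bool :=
      { toFun := fun v => if hv : S.q (v : V) = 0 then (⟨v, v.2, hv⟩, false) else
          (⟨(v : V) + u, I.add_mem v.2 hu, by
            rw [S.q_add, hc1 _ hv, hc1 _ hu1, hBI _ v.2 u hu]; rfl⟩, true)
        invFun := fun x => bif x.2 then ⟨(x.1 : V) + u, I.add_mem x.1.2.1 hu⟩ else ⟨x.1, x.1.2.1⟩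
        left_inv := fun v => by
          by_cases hv : S.q (v : V) = 0
          · simp [hv]
          · simp [hv, add_assoc, S.two]
        right_inv := fun x => by
          obtain ⟨⟨v, hv⟩, b⟩ := x
          cases b
          · simp [hv.2]
          · have hne : ¬ S.q (v + u) = 0 := by
              rw [S.q_add, hv.2, hc1 _ hu1, hBI v hv.1 u hu]; simp
            simp [hne, add_assoc, S.two] }
    have hKcard : Nat.card K ≤ 8 := by
      have hc := Nat.card_congr F
      rw [hIcard, Nat.card_prod, Nat.card_eq_fintype_card (α := Bool), Fintype.card_bool] at hc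
      omega
    have htriv := h.trivial_small (U := K) (fun a v hv => ⟨hαI a v hv.1, by rw [(h.α_mem a).2]; exact hv.2⟩)
      hKcard
    obtain ⟨v, hv, hv0⟩ : ∃ v ∈ K, v ≠ 0 := by
      by_contra hno
      push Not at hno
      have hKb : Nat.card K = 1 := by
        rw [(AddSubgroup.eq_bot_iff_forall K).2 hno, AddSubgroup.card_bot]
      have hc := Nat.card_congr F
      rw [hIcard, Nat.card_prod, hKb, Nat.card_eq_fintype_card (α := Bool), Fintype.card_bool] at hc
      omega
    exact hv0 (hffree v hv.1 (htriv f v hv))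
  let W : V → V → ZMod 2 := fun u w => S.B u (D w)
  have hWl : ∀ u u' w, W (u + u') w = W u w + W u' w := fun u u' w => S.B_add_left u u' (D w)
  have hWr : ∀ u w w', W u (w + w') = W u w + W u w' := fun u w w' => by
    simp only [W, h.D_mem.1, S.B_add_right]
  have hWself : ∀ u ∈ I, W u u = 0 := by
    intro u hu
    have h1 : S.q (u + D u) = 0 := by rw [← hDD, h.D_mem.2, h.D_mem.2, hqI u hu]
    rw [S.q_add, h.D_mem.2, hqI u hu, zero_add, zero_add] at h1
    exact h1
  have hWcomm : ∀ u ∈ I, ∀ w ∈ I, W u w = W w u := by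
    intro u hu w hw
    have e := hWself _ (I.add_mem hu hw)
    rw [hWl, hWr, hWr, hWself u hu, hWself w hw, zero_add, add_zero] at e
    revert e; generalize W u w = a; generalize W w u = c; revert a c; decide
  have hWnd : ∀ u ∈ I, (∀ w ∈ I, W u w = 0) → u = 0 := by
    intro u hu hh
    refine S.nondeg u fun v => ?_
    obtain ⟨⟨i, j⟩, rfl⟩ := hΦ.2 v
    show S.B u ((i : V) + D j) = 0
    rw [S.B_add_right, hBI u hu i i.2, show S.B u (D j) = W u j from rfl, hh j j.2, add_zero]
  -- a symplectic basis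
  obtain ⟨a, ha, ha0⟩ : ∃ a ∈ I, a ≠ 0 := by
    by_contra hno
    push Not at hno
    rw [(AddSubgroup.eq_bot_iff_forall I).2 hno, AddSubgroup.card_bot] at hIcard
    omega
  have hone : ∀ u ∈ I, u ≠ 0 → ∃ w ∈ I, W u w = 1 := by
    intro u hu hu0
    by_contra hno
    push Not at hno
    exact hu0 (hWnd u hu fun w hw => (zcases _).resolve_right (hno w hw))
  obtain ⟨a', ha', haa⟩ := hone a ha ha0
  obtain ⟨b, hb, hb0, hab, ha'b⟩ : ∃ b ∈ I, b ≠ 0 ∧ W a b = 0 ∧ W a' b = 0 := by
    by_contra hno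
    push Not at hno
    let g : I → ZMod 2 × ZMod 2 := fun v => (W a v, W a' v)
    have hg : Function.Injective g := by
      intro v v' hv
      simp only [g, Prod.mk.injEq] at hv
      by_contra hne
      refine hno _ (I.add_mem v.2 v'.2) (fun e => hne (Subtype.ext ?_)) ?_ ?_
      · rw [eq_neg_of_add_eq_zero_left e, hneg]
      · rw [hWr, hv.1]; exact CharTwo.add_self_eq_zero _
      · rw [hWr, hv.2]; exact CharTwo.add_self_eq_zero _
    have hle := Nat.card_le_card_of_injective g hg
    rw [hIcard, Nat.card_eq_fintype_card] at hle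
    simp at hle
  obtain ⟨b₀, hb₀, hbb⟩ := hone b hb hb0
  let sm : ZMod 2 → V → V := fun c v => if c = 1 then v else 0
  have hsmI : ∀ c, ∀ v ∈ I, sm c v ∈ I := fun c v hv => by
    simp only [sm]; split_ifs; exacts [hv, I.zero_mem]
  have hWsm : ∀ u c v, W u (sm c v) = c * W u v := fun u c v => by
    rcases zcases c with rfl | rfl <;> simp [sm, W, iso_zero h.D_mem, S.B_zero_right]
  have hWsm' : ∀ u c v, W (sm c v) u = c * W v u := fun u c v => by
    rcases zcases c with rfl | rfl <;> simp [sm, W, S.B_zero_left]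
  set b' := b₀ + sm (W a b₀) a' + sm (W a' b₀) a with hb'def
  have hb' : b' ∈ I := I.add_mem (I.add_mem hb₀ (hsmI _ _ ha')) (hsmI _ _ ha)
  have hzz : ∀ c : ZMod 2, c + c = 0 := CharTwo.add_self_eq_zero
  have hab' : W a b' = 0 := by
    rw [hb'def, hWr, hWr, hWsm, hWsm, haa, hWself a ha, mul_one, mul_zero, add_zero]; exact hzz _
  have ha'b' : W a' b' = 0 := by
    rw [hb'def, hWr, hWr, hWsm, hWsm, hWself a' ha', hWcomm a' ha' a ha, haa, mul_one, mul_zero,
      add_zero]
    exact hzz _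
  have hbb' : W b b' = 1 := by
    rw [hb'def, hWr, hWr, hWsm, hWsm, hWcomm b hb a' ha', ha'b, hWcomm b hb a ha, hab, hbb, mul_zero,
      mul_zero, add_zero, add_zero]
  let ψ : I4 → V := fun c => sm c.1.1 a + sm c.1.2 a' + sm c.2.1 b + sm c.2.2 b'
  have hψI : ∀ c, ψ c ∈ I := fun c =>
    I.add_mem (I.add_mem (I.add_mem (hsmI _ _ ha) (hsmI _ _ ha')) (hsmI _ _ hb)) (hsmI _ _ hb')
  have hψadd : ∀ c c', ψ (c + c') = ψ c + ψ c' := by
    intro c c'
    have key : ∀ (x y : ZMod 2) (v : V), sm (x + y) v = sm x v + sm y v := by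
      intro x y v
      rcases zcases x with rfl | rfl <;> rcases zcases y with rfl | rfl <;>
        simp [sm, S.two, show (1 : ZMod 2) + 1 = 0 from rfl]
    simp only [ψ, Prod.fst_add, Prod.snd_add, key]
    abel
  have hψW : ∀ c c', W (ψ c) (ψ c') = om c c' := by
    intro c c'
    have ca := (hWcomm a' ha' a ha).trans haa
    have cb := (hWcomm b hb a ha).trans hab
    have cb1 := (hWcomm b hb a' ha').trans ha'b
    have cb' := (hWcomm b' hb' a ha).trans hab'
    have cb1' := (hWcomm b' hb' a' ha').trans ha'b'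
    have cbb := (hWcomm b' hb' b hb).trans hbb'
    simp only [ψ, hWl, hWr, hWsm, hWsm', hWself a ha, hWself a' ha', hWself b hb, hWself b' hb', haa,
      hab, ha'b, hab', ha'b', hbb', ca, cb, cb1, cb', cb1', cbb, mul_zero, mul_one, add_zero, zero_add]
    simp only [om]
    ring
  have hψ0 : ψ 0 = 0 := by simp [ψ, sm]
  have hψinj : Function.Injective ψ := by
    intro c c' e
    have h0 : c + c' = 0 := om_nondeg _ fun w => by
      rw [← hψW, hψadd, e, S.two]; exact S.B_zero_left _
    calc c = c + (c' + c') := by rw [i4_two, add_zero]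
      _ = c + c' + c' := (add_assoc _ _ _).symm
      _ = c' := by rw [h0, zero_add]
  let ψ' : I4 ≃ I := Equiv.ofBijective (fun c => ⟨ψ c, hψI c⟩)
    ((Fintype.bijective_iff_injective_and_card _).2
      ⟨fun c c' e => hψinj (congrArg Subtype.val e), by
        rw [← Nat.card_eq_fintype_card, ← Nat.card_eq_fintype_card, hIcard, Nat.card_eq_fintype_card]
        rfl⟩)
  let e : I4 × I4 ≃ V := (Equiv.prodCongr ψ' ψ').trans (Equiv.ofBijective Φ hΦ)
  have he : ∀ p : I4 × I4, e p = ψ p.1 + D (ψ p.2) := fun p => rfl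
  have hDe : ∀ p : I4 × I4, D (e p) = e (p.2, p.1 + p.2) := by
    intro p
    simp only [he, h.D_mem.1, hψadd, hDD]
    abel
  have hSe : ∀ p : I4 × I4, Sw (e p) = e (p.1 + p.2, p.2) := by
    intro p
    simp only [he, hψadd]
    exact hΦs _ (hψI _) _ (hψI _)
  have hdiag : ∀ g ∈ S.Iso, (∀ v, g (D v) = D (g v)) → (∀ v, g (Sw v) = Sw (g v)) →
      ∃ t ∈ SpG, ∀ p : I4 × I4, g (e p) = e (t p.1, t p.2) := by
    intro g hg hgD hgS
    have hgI : ∀ c, g (ψ c) ∈ I := fun c => by
      show Sw (g (ψ c)) = g (ψ c)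
      rw [← hgS, hII _ (hψI c)]
    let tf : I4 → I4 := fun c => ψ'.symm ⟨g (ψ c), hgI c⟩
    have htf : ∀ c, ψ (tf c) = g (ψ c) := fun c => congrArg Subtype.val (ψ'.apply_symm_apply _)
    have hlin : ∀ c c', tf (c + c') = tf c + tf c' := fun c c' => hψinj (by
      rw [hψadd, htf, htf, htf, hψadd, hg.1])
    have hinj : Function.Injective tf := fun c c' ee => hψinj (g.injective (by rw [← htf, ← htf, ee]))
    refine ⟨Equiv.ofBijective tf (Finite.injective_iff_bijective.1 hinj), ⟨hlin, fun c c' => ?_⟩, fun p => ?_⟩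
    · simp only [Equiv.ofBijective_apply]
      rw [← hψW, htf, htf, ← hψW c c']
      simp only [W, ← hgD]
      exact iso_B hg _ _
    · simp only [Equiv.ofBijective_apply, he, hg.1, htf, hgD]
  have hτ : ∀ x : A6, ∃ t ∈ SpG, ∀ p : I4 × I4, α x (e p) = e (t p.1, t p.2) := fun x =>
    hdiag _ (h.α_mem x) (fun v => h.comm_apply x v) (fun v => (hSα x v).symm)
  choose τ hτm hτe using hτ
  have huniq : ∀ (t t' : Equiv.Perm I4), (∀ p : I4 × I4, e (t p.1, t p.2) = e (t' p.1, t' p.2)) → t = t' :=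
    fun t t' hh => Equiv.ext fun i => congrArg Prod.fst (e.injective (hh (i, 0)))
  let θ : A6 →* SpG := MonoidHom.mk' (fun x => ⟨τ x, hτm x⟩) fun x y => Subtype.ext (huniq _ _ fun p => by
    rw [← hτe, map_mul, Equiv.Perm.mul_apply, hτe, hτe]; rfl)
  have hθ : Function.Injective θ := by
    intro x y hxy
    apply h.α_inj
    refine Equiv.ext fun v => ?_
    obtain ⟨p, rfl⟩ := e.surjective v
    rw [hτe, hτe, show τ x = τ y from congrArg Subtype.val hxy]
  have hlift : ∀ t ∈ θ.range, Lift H e (t : Equiv.Perm I4) := by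
    rintro _ ⟨x, rfl⟩
    exact ⟨α x, hαH x, hτe x⟩
  have hidx : θ.range.index ≤ 2 := by
    have hc := θ.range.index_mul_card
    have h360 : Nat.card θ.range = 360 := by
      rw [← Nat.card_congr (MonoidHom.ofInjective hθ).toEquiv, card_A6]
    have := card_SpG_le
    rw [h360] at hc
    omega
  have hmemsq : ∀ t : SpG, t * t ∈ θ.range ∧ ∀ u : SpG, t * u * t⁻¹ * u⁻¹ ∈ θ.range := by
    intro t
    have hpos : θ.range.index ≠ 0 := Subgroup.index_ne_zero_of_finite
    have hcases : θ.range.index = 1 ∨ θ.range.index = 2 := by omega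
    rcases hcases with h1 | h2
    · rw [Subgroup.index_eq_one] at h1
      simp [h1]
    · refine ⟨Subgroup.mul_self_mem_of_index_two h2 t, fun u => ?_⟩
      simp only [Subgroup.mul_mem_iff_of_index_two h2, inv_mem_iff]
      tauto
  refine ⟨⟨e, fun p p' => ?_, fun p => ?_, hDH, hDe, fun g hg => ?_, fun t ht => ?_, fun t ht u hu => ?_,
    fun c c' hc hc' => ?_⟩⟩
  · simp only [he, Prod.fst_add, Prod.snd_add, hψadd, h.D_mem.1]; abel
  · rw [he, S.q_add, h.D_mem.2, hqI _ (hψI _), hqI _ (hψI _), zero_add, zero_add]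
    exact hψW _ _
  · obtain ⟨k, b, g', hg', hgD, hgS, rfl⟩ := hgen g hg
    obtain ⟨t, ht, hte⟩ := hdiag g' hg' hgD hgS
    refine ⟨k, b, t, ht, fun p => ?_⟩
    rw [Equiv.Perm.mul_apply, Equiv.Perm.mul_apply, hte]
    have hs : ∀ p : I4 × I4, (if b then Sw else 1) (e p) = e (sAct b p) := by
      intro p
      cases b
      · rfl
      · exact hSe p
    rw [hs]
    fin_cases k
    · rfl
    · show (D ^ 1) (e _) = _
      rw [pow_one, hDe]; rfl
    · show (D ^ 2) (e _) = _
      rw [pow_two, Equiv.Perm.mul_apply, hDe, hDe]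
      simp only [act, dAct]
      congr 2
      rw [← add_assoc, add_comm (sAct b (t p.1, t p.2)).2, add_assoc, i4_two, add_zero]
  · exact hlift _ (hmemsq ⟨t, ht⟩).1
  · exact hlift _ ((hmemsq ⟨t, ht⟩).2 ⟨u, hu⟩)
  · -- transitivity
    obtain ⟨x, hx⟩ : ∃ x : A6, τ x c = c' := by
      by_contra hno
      push Not at hno
      let O : Finset I4 := Finset.univ.filter fun d => ∃ x : A6, τ x c = d
      let φ : A6 →* Equiv.Perm I4 := SpG.subtype.comp θ
      have hφ : ∀ x, φ x = τ x := fun x => rfl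
      have hzero : ∀ x, φ x 0 = 0 := fun x => map_zero_of_mem (hτm x)
      have hffix : ∀ d, φ f d = d → d = 0 := by
        intro d hd
        have hd' := hffree (ψ d) (hψI d) (by
          have := hτe f (d, 0)
          rw [hφ] at hd
          rw [he, he, hψ0] at this
          simp only [map_zero_of_mem (hτm f), hψ0, hd, iso_zero h.D_mem, add_zero] at this
          exact this)
        exact hψinj (hd'.trans hψ0.symm)
      have hmain : ∀ T : Finset I4, (0 : I4) ∉ T → (∀ x, ∀ d ∈ T, φ x d ∈ T) → T.Nonempty →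
          ¬ T.card ≤ 5 ∧ 5 ∣ T.card := by
        intro T h0 hT hne
        have hinv : ∀ x d, φ x d ∈ T ↔ d ∈ T := by
          intro x d
          refine ⟨fun hd => ?_, hT x d⟩
          have := hT x⁻¹ _ hd
          rwa [← Equiv.Perm.mul_apply, ← map_mul, inv_mul_cancel, map_one, Equiv.Perm.one_apply] at this
        let φT : A6 →* Equiv.Perm T := MonoidHom.mk' (fun x => (φ x).subtypePerm (hinv x))
          (fun x y => Equiv.ext fun d => Subtype.ext (by
            show φ (x * y) d.1 = φ x (φ y d.1)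
            rw [map_mul]; rfl))
        refine ⟨fun hle => ?_, ?_⟩
        · obtain ⟨d, hd⟩ := hne
          have := congrArg Subtype.val (Equiv.ext_iff.1 (hom_small (by rwa [Fintype.card_coe]) φT f) ⟨d, hd⟩)
          exact h0 (hffix d this ▸ hd)
        · haveI : Fact (Nat.Prime 5) := ⟨by norm_num⟩
          have hσ : φT f ^ 5 ^ 1 = 1 := by rw [pow_one, ← map_pow, hf, map_one]
          have hm := Equiv.Perm.card_compl_support_modEq hσ
          have he' : (φT f).supportᶜ = ∅ := by
            refine Finset.eq_empty_of_forall_notMem fun d hd => ?_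
            simp only [Finset.mem_compl, Equiv.Perm.mem_support, not_not] at hd
            exact h0 (hffix d.1 (congrArg Subtype.val hd) ▸ d.2)
          rw [he', Finset.card_empty, Fintype.card_coe] at hm
          exact Nat.modEq_zero_iff_dvd.1 hm.symm
      have hOinv : ∀ x, ∀ d ∈ O, φ x d ∈ O := by
        intro x d hd
        obtain ⟨y, rfl⟩ := (Finset.mem_filter.1 hd).2
        refine Finset.mem_filter.2 ⟨Finset.mem_univ _, x * y, ?_⟩
        rw [← hφ, map_mul, Equiv.Perm.mul_apply]; rfl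
      have hO0 : (0 : I4) ∉ O := fun hd => by
        obtain ⟨y, hy⟩ := (Finset.mem_filter.1 hd).2
        exact hc ((τ y).injective (hy.trans (map_zero_of_mem (hτm y)).symm))
      let R : Finset I4 := (Finset.univ.erase 0) \ O
      have hRinv : ∀ x, ∀ d ∈ R, φ x d ∈ R := by
        intro x d hd
        simp only [R, Finset.mem_sdiff, Finset.mem_erase, Finset.mem_univ, and_true] at hd ⊢
        refine ⟨fun e0 => hd.1 ((φ x).injective (e0.trans (hzero x).symm)), fun hd' => hd.2 ?_⟩
        have := hOinv x⁻¹ _ hd'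
        rwa [← Equiv.Perm.mul_apply, ← map_mul, inv_mul_cancel, map_one, Equiv.Perm.one_apply] at this
      have hR0 : (0 : I4) ∉ R := by simp [R]
      have hcO : c ∈ O := Finset.mem_filter.2 ⟨Finset.mem_univ _, 1, by rw [← hφ, map_one]; rfl⟩
      have hcR : c' ∈ R := by
        simp only [R, O, Finset.mem_sdiff, Finset.mem_erase, Finset.mem_univ, and_true,
          Finset.mem_filter, true_and, not_exists]
        exact ⟨hc', hno⟩
      obtain ⟨hO5, hOd⟩ := hmain O hO0 hOinv ⟨c, hcO⟩
      obtain ⟨hR5, hRd⟩ := hmain R hR0 hRinv ⟨c', hcR⟩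
      have hsub : O ⊆ Finset.univ.erase 0 := fun d hd => Finset.mem_erase.2 ⟨fun e0 => hO0 (e0 ▸ hd), Finset.mem_univ _⟩
      have hsum : R.card + O.card = 15 := by
        rw [Finset.card_sdiff_add_card_eq_card hsub, Finset.card_erase_of_mem (Finset.mem_univ _),
          Finset.card_univ]
        rfl
      omega
    exact ⟨τ x, hτm x, ⟨α x, hαH x, hτe x⟩, hx⟩

end CfsgLib.ExtraNine
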