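import Cfsg.Agent.Lib.ExtraNine.Excl

/-!
An involutory isometry commuting with the alternating group of degree six and inverting the fixed point
free element of order three, from the monomial basis given by a Sylow three subgroup.
-/

namespace CfsgLib.ExtraNine

/-- A three cycle. -/
def xA : A6 := ⟨Equiv.swap 0 1 * Equiv.swap 1 2, Equiv.Perm.mem_alternatingGroup.2 (by decide)⟩
/-- The disjoint three cycle. -/
def yA : A6 := ⟨Equiv.swap 3 4 * Equiv.swap 4 5, Equiv.Perm.mem_alternatingGroup.2 (by decide)⟩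
/-- An element of order four rotating the two cycles. -/
def fA : A6 :=
  ⟨Equiv.swap 0 3 * Equiv.swap 3 1 * Equiv.swap 1 4 * Equiv.swap 2 5,
    Equiv.Perm.mem_alternatingGroup.2 (by decide)⟩
/-- An involution inverting it. -/
def rA : A6 := ⟨Equiv.swap 0 1 * Equiv.swap 2 5, Equiv.Perm.mem_alternatingGroup.2 (by decide)⟩

theorem A6_facts : fA * xA = yA * fA ∧ xA * (fA * yA) = fA ∧ fA ^ 4 = 1 ∧ xA ^ 3 = 1 ∧ yA ^ 3 = 1 ∧
    xA * yA = yA * xA ∧ rA * rA = 1 ∧ rA * fA * rA * fA = 1 ∧ xA ≠ 1 := by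
  decide +kernel

/-- The products generating seventy two distinct elements. -/
def seventyTwo : List (Equiv.Perm (Fin 6)) :=
  (List.range 3).flatMap fun i => (List.range 3).flatMap fun j => (List.range 4).flatMap fun k =>
    (List.range 2).map fun b => (xA.1) ^ i * (yA.1) ^ j * (fA.1) ^ k * (rA.1) ^ b

theorem seventyTwo_nodup : (seventyTwo.map fun s => (s 0, s 1, s 2, s 3, s 4, s 5)).Nodup := by
  decide +kernel

theorem A6_generated (K : Subgroup A6) (hx : xA ∈ K) (hy : yA ∈ K) (hf : fA ∈ K) (hr : rA ∈ K) :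
    K = ⊤ := by
  classical
  let K' : Subgroup (Equiv.Perm (Fin 6)) := K.map (alternatingGroup (Fin 6)).subtype
  have hsub : ∀ s ∈ seventyTwo, s ∈ K' := by
    intro s hs
    simp only [seventyTwo, List.mem_flatMap, List.mem_map] at hs
    obtain ⟨i, -, j, -, k, -, b, -, rfl⟩ := hs
    exact mul_mem (mul_mem (mul_mem (pow_mem (Subgroup.mem_map_of_mem _ hx) _)
      (pow_mem (Subgroup.mem_map_of_mem _ hy) _)) (pow_mem (Subgroup.mem_map_of_mem _ hf) _))
      (pow_mem (Subgroup.mem_map_of_mem _ hr) _)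
  have hnd : seventyTwo.Nodup := List.Nodup.of_map _ seventyTwo_nodup
  have hlen : seventyTwo.length = 72 := by
    simp [seventyTwo, List.range_succ]
  have h72 : 72 ≤ Nat.card K := by
    rw [← hlen, ← List.toFinset_card_of_nodup hnd,
      ← Subgroup.card_map_of_injective (K := K) (alternatingGroup (Fin 6)).subtype_injective,
      ← Nat.card_eq_finsetCard]
    exact Nat.card_le_card_of_injective (fun s => (⟨s.1, hsub _ (List.mem_toFinset.1 s.2)⟩ : K'))
      fun s s' e => Subtype.ext (congrArg (fun u : K' => (u : Equiv.Perm (Fin 6))) e)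
  have hidx : K.index ≤ 5 := by
    have h := K.index_mul_card
    rw [card_A6] at h
    nlinarith
  rw [eq_top_iff]
  intro a _
  haveI : Fintype (A6 ⧸ K) := Fintype.ofFinite _
  have hc : Fintype.card (A6 ⧸ K) ≤ 5 := by
    rw [← Nat.card_eq_fintype_card]; exact hidx
  have h1 := Equiv.ext_iff.1 (hom_small hc (MulAction.toPermHom A6 (A6 ⧸ K)) a) ((1 : A6) : A6 ⧸ K)
  have h2 : ((a * 1 : A6) : A6 ⧸ K) = ((1 : A6) : A6 ⧸ K) := h1
  rw [mul_one, eq_comm, QuotientGroup.eq] at h2
  simpa using h2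

variable {V : Type*} [AddCommGroup V] [Fintype V] {S : QV V}

/-- The vector with two coordinates in the plane of a vector. -/
def pl (D : Equiv.Perm V) (y : V) (c : ZMod 2 × ZMod 2) : V :=
  (if c.1 = 1 then y else 0) + if c.2 = 1 then D y else 0

omit [Fintype V] in
theorem pl_cases (D : Equiv.Perm V) (y : V) : pl D y (0, 0) = 0 ∧ pl D y (1, 0) = y ∧
    pl D y (0, 1) = D y ∧ pl D y (1, 1) = y + D y := by
  simp [pl]

theorem pair_cases : ∀ c : ZMod 2 × ZMod 2, c = (0, 0) ∨ c = (1, 0) ∨ c = (0, 1) ∨ c = (1, 1) := by decide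

omit [Fintype V] in
theorem pl_add (hS : ∀ v : V, v + v = 0) (D : Equiv.Perm V) (y : V) (c c' : ZMod 2 × ZMod 2) :
    pl D y (c + c') = pl D y c + pl D y c' := by
  have key : ∀ (u w : ZMod 2) (v : V), (if u + w = 1 then v else 0) =
      (if u = 1 then v else 0) + if w = 1 then v else 0 := by
    intro u w v
    rcases zcases u with rfl | rfl <;> rcases zcases w with rfl | rfl <;>
      simp [hS, show (1 : ZMod 2) + 1 = 0 from rfl]
  simp only [pl, Prod.fst_add, Prod.snd_add, key]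
  abel

/-- The projection to an eigenspace of an element of order three. -/
def proj (D : Equiv.Perm V) (g : Equiv.Perm V) (c : Fin 3) (v : V) : V :=
  v + (D ^ (2 * (c : ℕ))) (g v) + (D ^ (c : ℕ)) (g (g v))

omit [Fintype V] in
theorem three_apply {D : Equiv.Perm V} (h3 : D ^ 3 = 1) (v : V) : D (D (D v)) = v := by
  have := Equiv.ext_iff.1 h3 v
  simpa [pow_succ, pow_zero] using this

omit [Fintype V] in
theorem proj_zero (D g : Equiv.Perm V) (v : V) : proj D g 0 v = v + g v + g (g v) := rfl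

omit [Fintype V] in
theorem proj_one (D g : Equiv.Perm V) (v : V) : proj D g 1 v = v + D (D (g v)) + D (g (g v)) := rfl

omit [Fintype V] in
theorem proj_two {D : Equiv.Perm V} (h3 : D ^ 3 = 1) (g : Equiv.Perm V) (v : V) :
    proj D g 2 v = v + D (g v) + D (D (g (g v))) := by
  show v + (D ^ 4) (g v) + (D ^ 2) (g (g v)) = _
  simp [pow_succ, pow_zero, three_apply h3]

omit [Fintype V] in
theorem proj_sum {D : Equiv.Perm V} (h3 : D ^ 3 = 1) (h2 : ∀ v : V, v + v = 0)
    (hfree : ∀ v, v + D v + D (D v) = 0) (g : Equiv.Perm V) (v : V) :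
    proj D g 0 v + proj D g 1 v + proj D g 2 v = v := by
  rw [proj_zero, proj_one, proj_two h3]
  calc v + g v + g (g v) + (v + D (D (g v)) + D (g (g v))) + (v + D (g v) + D (D (g (g v))))
      = v + (v + v) + (g v + D (g v) + D (D (g v))) +
          (g (g v) + D (g (g v)) + D (D (g (g v)))) := by abel
    _ = v := by rw [hfree, hfree, h2, add_zero, add_zero, add_zero]

omit [Fintype V] in
theorem proj_eig {D g : Equiv.Perm V} (h3 : D ^ 3 = 1) (hadd : ∀ u w, D (u + w) = D u + D w)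
    (gadd : ∀ u w, g (u + w) = g u + g w) (hg : ∀ v, g (D v) = D (g v)) (g3 : ∀ v, g (g (g v)) = v)
    (c : Fin 3) (v : V) : g (proj D g c v) = (D ^ (c : ℕ)) (proj D g c v) := by
  have hD3 := three_apply h3
  fin_cases c
  · simp only [Fin.zero_eta, proj_zero, gadd, g3]
    show _ = v + g v + g (g v)
    abel
  · simp only [Fin.mk_one, proj_one, gadd, hg, g3]
    show _ = D (v + D (D (g v)) + D (g (g v)))
    simp only [hadd, hD3]
    abel
  · simp only [show (⟨2, by decide⟩ : Fin 3) = 2 from rfl, proj_two h3, gadd, hg, g3]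
    show _ = D (D (v + D (g v) + D (D (g (g v)))))
    simp only [hadd, hD3]
    abel

omit [Fintype V] in
theorem proj_of_eig {D g : Equiv.Perm V} (h3 : D ^ 3 = 1) (h2 : ∀ v : V, v + v = 0)
    (hfree : ∀ v, v + D v + D (D v) = 0) (hg : ∀ v, g (D v) = D (g v))
    (c d : Fin 3) (u : V) (hu : g u = (D ^ (d : ℕ)) u) : proj D g c u = if d = c then u else 0 := by
  have hf2 : u + D (D u) + D u = 0 := by rw [add_right_comm]; exact hfree u
  have hD3 := three_apply h3
  fin_cases c <;> fin_cases d <;> simp [pow_succ, pow_zero] at hu <;>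
    simp [proj_zero, proj_one, proj_two h3, hu, hg, hD3, hfree, hf2, h2]

/-- An eigenvector of the pair of three cycles and its rotations. -/
theorem SixAct.exists_vectors {D : Equiv.Perm V} {α : A6 →* Equiv.Perm V} (h : SixAct S D α)
    (hfree : ∀ v, v + D v + D (D v) = 0) :
    ∃ (y : Fin 4 → V) (χ : Fin 4 → Fin 3 × Fin 3), (∀ i, y i ≠ 0) ∧ (∀ i, α fA (y i) = y (i + 1)) ∧
      (∀ i, α xA (y i) = (D ^ ((χ i).1 : ℕ)) (y i) ∧ α yA (y i) = (D ^ ((χ i).2 : ℕ)) (y i)) ∧
      (∀ i j, χ i = χ j → i = j) ∧ ∀ i, (χ (i + 2)).1 = -(χ i).1 ∧ (χ (i + 2)).2 = -(χ i).2 := by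
  classical
  obtain ⟨fx, fy, f4, x3, y3, xy, rr, rf, xne⟩ := A6_facts
  have hcm : ∀ a v, α a (D v) = D (α a v) := h.comm_apply
  have hcm' : ∀ a (n : ℕ) v, α a ((D ^ n) v) = (D ^ n) (α a v) := fun a n v =>
    Equiv.ext_iff.1 ((show Commute (α a) D from h.comm a).pow_right n).eq v
  have hmulα : ∀ a b v, α (a * b) v = α a (α b v) := fun a b v => by rw [map_mul]; rfl
  have hα0 : ∀ a, α a 0 = 0 := fun a => QV.iso_zero (h.α_mem a)
  have hsum := proj_sum h.D_pow S.two hfree
  have heig : ∀ a : A6, a ^ 3 = 1 → ∀ (c : Fin 3) v,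
      α a (proj D (α a) c v) = (D ^ (c : ℕ)) (proj D (α a) c v) := fun a ha =>
    proj_eig h.D_pow h.D_mem.1 (h.α_mem a).1 (hcm a) (three_apply (by rw [← map_pow, ha, map_one]))
  -- the eigenspaces of the pair
  let P : Fin 3 → Fin 3 → V → Prop := fun a b v => α xA v = (D ^ (a : ℕ)) v ∧ α yA v = (D ^ (b : ℕ)) v
  obtain ⟨a0, b0, y0, ha0, hy0, hy0ne⟩ : ∃ a b y, a ≠ 0 ∧ P a b y ∧ y ≠ 0 := by
    obtain ⟨v, hv⟩ : ∃ v, α xA v ≠ v := by
      by_contra hno
      push Not at hno
      exact xne (h.α_inj (by rw [map_one]; exact Equiv.ext hno))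
    obtain ⟨c, hc, hc0⟩ : ∃ c : Fin 3, c ≠ 0 ∧ proj D (α xA) c v ≠ 0 := by
      by_contra hno
      push Not at hno
      apply hv
      have e := hsum (α xA) v
      rw [hno 1 (by decide), hno 2 (by decide), add_zero, add_zero] at e
      rw [← e]
      exact heig xA x3 0 v
    set w := proj D (α xA) c v with hw
    obtain ⟨d, hd⟩ : ∃ d : Fin 3, proj D (α yA) d w ≠ 0 := by
      by_contra hno
      push Not at hno
      have e := hsum (α yA) w
      rw [hno 0, hno 1, hno 2, add_zero, add_zero] at e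
      exact hc0 e.symm
    refine ⟨c, d, _, hc, ⟨?_, heig yA y3 d w⟩, hd⟩
    have hwx := heig xA x3 c v
    rw [← hw] at hwx
    have hDpadd : ∀ n : ℕ, ∀ u u', (D ^ n) (u + u') = (D ^ n) u + (D ^ n) u' := fun n =>
      (pow_mem h.D_mem n).1
    have hDc : ∀ (m n : ℕ) u, (D ^ m) ((D ^ n) u) = (D ^ n) ((D ^ m) u) := fun m n u =>
      Equiv.ext_iff.1 (Commute.pow_pow_self D m n).eq u
    have hxy : ∀ u, α xA (α yA u) = α yA (α xA u) := fun u => by rw [← hmulα, ← hmulα, xy]
    simp only [proj, (h.α_mem xA).1, hcm', hxy, hwx, hDpadd]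
    simp only [hcm', hDc _ (c : ℕ)]
  -- the rotation
  have hrot : ∀ a b v, P a b v → P (-b) a (α fA v) := by
    rintro a b v ⟨h1, h2⟩
    have hb : α yA ((D ^ ((-b : Fin 3) : ℕ)) v) = v := by
      rw [hcm', h2, ← Equiv.Perm.mul_apply, ← pow_add]
      have : ((-b : Fin 3) : ℕ) + (b : ℕ) = 0 ∨ ((-b : Fin 3) : ℕ) + (b : ℕ) = 3 :=
        (by decide : ∀ c : Fin 3, ((-c : Fin 3) : ℕ) + (c : ℕ) = 0 ∨ ((-c : Fin 3) : ℕ) + (c : ℕ) = 3) b
      rcases this with e | e <;> rw [e]
      · rfl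
      · rw [h.D_pow]; rfl
    refine ⟨?_, ?_⟩
    · have e1 : xA * fA = fA * yA⁻¹ := eq_mul_inv_iff_mul_eq.2 (by rw [mul_assoc]; exact fy)
      rw [← hmulα, e1, hmulα]
      conv_lhs => rw [← hb, ← hmulα yA⁻¹ yA, inv_mul_cancel, map_one, Equiv.Perm.one_apply, hcm']
    · rw [← hmulα, ← fx, hmulα, h1, hcm']
  -- the four vectors
  let y : Fin 4 → V := fun i => α (fA ^ (i : ℕ)) y0
  have hy1 : ∀ i : Fin 4, α fA (y i) = y (i + 1) := by
    intro i
    simp only [y]
    rw [← hmulα, ← pow_succ', pow_eq_pow_mod _ f4,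
      show ((i : ℕ) + 1) % 4 = ((i + 1 : Fin 4) : ℕ) by rw [Fin.val_add]; rfl]
  have e0 : P a0 b0 (y 0) := by simpa [y] using hy0
  have e1 := hrot _ _ _ e0
  rw [hy1] at e1
  have e2 := hrot _ _ _ e1
  rw [hy1] at e2
  have e3 := hrot _ _ _ e2
  rw [hy1, neg_neg] at e3
  refine ⟨y, ![(a0, b0), (-b0, a0), (-a0, -b0), (b0, -a0)],
    fun i e => hy0ne ((α _).injective (e.trans (hα0 _).symm)), hy1, ?_, ?_, ?_⟩
  · intro i
    fin_cases i
    exacts [e0, e1, e2, e3]
  · exact (by decide +kernel : ∀ a b : Fin 3, a ≠ 0 → ∀ i j : Fin 4,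
      (![(a, b), (-b, a), (-a, -b), (b, -a)] : Fin 4 → Fin 3 × Fin 3) i =
        (![(a, b), (-b, a), (-a, -b), (b, -a)] : Fin 4 → Fin 3 × Fin 3) j → i = j) a0 b0 ha0
  · intro i
    fin_cases i <;> simp

/-- An involution commuting with the alternating group and inverting the element of order three. -/
theorem SixAct.exists_twist {D : Equiv.Perm V} {α : A6 →* Equiv.Perm V} (h : SixAct S D α)
    (hV : Fintype.card V = 256) (hfree : ∀ v, v + D v + D (D v) = 0) :
    ∃ Sw : Equiv.Perm V, Sw ∈ S.Iso ∧ (∀ v, Sw (Sw v) = v) ∧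
      (∀ v, Sw (D v) = D (D (Sw v))) ∧ ∀ a v, Sw (α a v) = α a (Sw v) := by
  classical
  have hneg : ∀ u : V, -u = u := fun u => neg_eq_of_add_eq_zero_left (S.two u)
  have hDD : ∀ v, D (D v) = v + D v := fun v => by
    rw [eq_neg_of_add_eq_zero_right (hfree v), hneg]
  have hD3 : ∀ v, D (D (D v)) = v := fun v => by
    have := Equiv.ext_iff.1 h.D_pow v
    simpa [pow_succ, pow_zero] using this
  have hDadd := h.D_mem.1
  have hD0 : D 0 = 0 := QV.iso_zero h.D_mem
  obtain ⟨fx, fy, f4, x3, y3, xy, rr, rf, xne⟩ := A6_facts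
  have hcm : ∀ a v, α a (D v) = D (α a v) := h.comm_apply
  have hcm' : ∀ a (n : ℕ) v, α a ((D ^ n) v) = (D ^ n) (α a v) := fun a n v =>
    Equiv.ext_iff.1 ((show Commute (α a) D from h.comm a).pow_right n).eq v
  have hmulα : ∀ a b v, α (a * b) v = α a (α b v) := fun a b v => by rw [map_mul]; rfl
  have hα0 : ∀ a, α a 0 = 0 := fun a => QV.iso_zero (h.α_mem a)
  obtain ⟨y, χ, hy_ne, hy1, hPy, hχinj, hχ2⟩ := h.exists_vectors hfree
  have hproj : ∀ g : Equiv.Perm V, (∀ v, g (D v) = D (g v)) → ∀ (c d : Fin 3) (u : V),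
      g u = (D ^ (d : ℕ)) u → proj D g c u = if d = c then u else 0 := fun g hg =>
    proj_of_eig h.D_pow S.two hfree hg
  have hpl : ∀ i c, α xA (pl D (y i) c) = (D ^ ((χ i).1 : ℕ)) (pl D (y i) c) ∧
      α yA (pl D (y i) c) = (D ^ ((χ i).2 : ℕ)) (pl D (y i) c) := by
    intro i c
    obtain ⟨h1, h2⟩ := hPy i
    have hd : ∀ n : ℕ, (D ^ n) 0 = 0 := fun n => QV.iso_zero (pow_mem h.D_mem n)
    have hDc : ∀ (n : ℕ) u, (D ^ n) (D u) = D ((D ^ n) u) := fun n u =>
      Equiv.ext_iff.1 (Commute.self_pow D n).symm.eq u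
    obtain ⟨q0, q1, q2, q3⟩ := pl_cases D (y i)
    rcases pair_cases c with rfl | rfl | rfl | rfl
    · rw [q0]; exact ⟨by rw [hα0, hd], by rw [hα0, hd]⟩
    · rw [q1]; exact ⟨h1, h2⟩
    · rw [q2]; exact ⟨by rw [hcm, h1, hDc], by rw [hcm, h2, hDc]⟩
    · rw [q3]
      exact ⟨by rw [(h.α_mem _).1, hcm, h1, (pow_mem h.D_mem _).1, hDc],
        by rw [(h.α_mem _).1, hcm, h2, (pow_mem h.D_mem _).1, hDc]⟩
  let Q : Fin 4 → V → V := fun i v => proj D (α yA) (χ i).2 (proj D (α xA) (χ i).1 v)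
  have hQpl : ∀ i j c, Q i (pl D (y j) c) = if j = i then pl D (y j) c else 0 := by
    intro i j c
    obtain ⟨h1, h2⟩ := hpl j c
    have hp0 : ∀ g : A6, proj D (α g) (χ i).2 0 = 0 := fun g => by
      simp [proj, hα0, QV.iso_zero (pow_mem h.D_mem _)]
    simp only [Q, hproj (α xA) (hcm xA) _ _ _ h1]
    by_cases e1 : (χ j).1 = (χ i).1
    · rw [if_pos e1, hproj (α yA) (hcm yA) _ _ _ h2]
      by_cases e2 : (χ j).2 = (χ i).2
      · rw [if_pos e2, if_pos (hχinj _ _ (Prod.ext e1 e2))]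
      · rw [if_neg e2, if_neg]; rintro rfl; exact e2 rfl
    · rw [if_neg e1, hp0, if_neg]; rintro rfl; exact e1 rfl
  let Φ : (Fin 4 → ZMod 2 × ZMod 2) →+ V := AddMonoidHom.mk' (fun c => ∑ i, pl D (y i) (c i))
    (fun c c' => by simp only [Pi.add_apply, pl_add S.two, Finset.sum_add_distrib])
  have hprojadd : ∀ (g : A6) (c : Fin 3) u u',
      proj D (α g) c (u + u') = proj D (α g) c u + proj D (α g) c u' := by
    intro g c u u'
    simp only [proj, (h.α_mem g).1, (pow_mem h.D_mem _ : D ^ _ ∈ S.Iso).1]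
    abel
  have hQΦ : ∀ i c, Q i (Φ c) = pl D (y i) (c i) := by
    intro i c
    let Qh : V →+ V := AddMonoidHom.mk' (Q i) (fun u u' => by simp only [Q, hprojadd])
    show Qh (∑ j, pl D (y j) (c j)) = _
    rw [map_sum]
    show ∑ j, Q i (pl D (y j) (c j)) = _
    simp only [hQpl, Finset.sum_ite_eq', Finset.mem_univ, if_true]
  have hplinj : ∀ i c, pl D (y i) c = 0 → c = 0 := by
    intro i c e
    obtain ⟨q0, q1, q2, q3⟩ := pl_cases D (y i)
    have hD1 : D (y i) ≠ 0 := fun e' => hy_ne i (D.injective (e'.trans hD0.symm))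
    rcases pair_cases c with rfl | rfl | rfl | rfl
    · rfl
    · exact absurd (q1 ▸ e) (hy_ne i)
    · exact absurd (q2 ▸ e) hD1
    · rw [q3, ← hDD] at e
      exact absurd (D.injective (e.trans hD0.symm)) hD1
  have hΦ : Function.Bijective Φ := by
    refine (Fintype.bijective_iff_injective_and_card _).2 ⟨(injective_iff_map_eq_zero Φ).2 fun c hc => ?_, ?_⟩
    · funext i
      refine hplinj i _ ?_
      rw [← hQΦ, hc]
      simp [Q, proj, hα0, QV.iso_zero (pow_mem h.D_mem _)]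
    · simp [hV]
  let e : (Fin 4 → ZMod 2 × ZMod 2) ≃+ V := AddEquiv.ofBijective Φ hΦ
  have he : ∀ c, e c = ∑ i, pl D (y i) (c i) := fun c => rfl
  -- the form
  have horth : ∀ i j c c', i ≠ j → S.B (pl D (y i) c) (pl D (y j) c') = 0 := by
    intro i j c c' hij
    have key : ∀ g : A6, ∀ p p' : Fin 3, p ≠ p' →
        (∀ d, α g (pl D (y i) d) = (D ^ (p : ℕ)) (pl D (y i) d)) →
        (∀ d, α g (pl D (y j) d) = (D ^ (p' : ℕ)) (pl D (y j) d)) →
        S.B (pl D (y i) c) (pl D (y j) c') = 0 := by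
      intro g p p' hp hi hj
      have hBD : ∀ u w, S.B (D u) (D w) = S.B u w := QV.iso_B h.D_mem
      have h3 : ∀ u w, S.B u w + S.B u (D w) + S.B u (D (D w)) = 0 := fun u w => by
        rw [← S.B_add_right, ← S.B_add_right, hfree, S.B_zero_right]
      have hshift : ∀ d, D (pl D (y j) d) = pl D (y j) (d.2, d.1 + d.2) := by
        intro d
        obtain ⟨q0, q1, q2, q3⟩ := pl_cases D (y j)
        rcases pair_cases d with rfl | rfl | rfl | rfl <;>
          simp [q0, q1, q2, q3, hD0, hDadd, hDD, show (1 : ZMod 2) + 1 = 0 from rfl, add_comm]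
        rw [add_left_comm, S.two, add_zero]
      have hk : ∀ d, S.B (pl D (y i) c) (pl D (y j) d) =
          S.B ((D ^ (p : ℕ)) (pl D (y i) c)) ((D ^ (p' : ℕ)) (pl D (y j) d)) := fun d => by
        rw [← hi, ← hj, QV.iso_B (h.α_mem g)]
      have k1 := hk c'
      have k2 := hk (c'.2, c'.1 + c'.2)
      rw [← hshift] at k2
      have t := h3 (pl D (y i) c) (pl D (y j) c')
      generalize pl D (y i) c = u at k1 k2 t ⊢
      generalize pl D (y j) c' = w at k1 k2 t ⊢
      have m1 : S.B (D u) w = S.B u (D (D w)) := by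
        conv_lhs => rw [← hD3 w]
        exact hBD _ _
      have m2 : S.B (D (D u)) w = S.B u (D w) := by
        conv_lhs => rw [← hD3 w]
        rw [hBD, hBD]
      have m3 : S.B (D u) (D (D w)) = S.B u (D w) := hBD _ _
      have m4 : S.B (D (D u)) (D w) = S.B u (D (D w)) := by
        rw [hBD, m1]
      fin_cases p <;> fin_cases p' <;> simp [pow_succ, pow_zero, hD3, hBD] at hp k1 k2 <;>
        (try simp [m1, m2, m3, m4] at k1 k2) <;>
        (generalize S.B u w = A at *; generalize S.B u (D w) = B at *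
         generalize S.B u (D (D w)) = C at *
         clear m1 m2 m3 m4; revert A B C; decide)
    by_cases e1 : (χ i).1 = (χ j).1
    · refine key yA _ _ (fun e2 => hij (hχinj _ _ (Prod.ext e1 e2))) (fun d => (hpl i d).2)
        fun d => (hpl j d).2
    · exact key xA _ _ e1 (fun d => (hpl i d).1) fun d => (hpl j d).1
  have hBpl : ∀ i c c', S.B (pl D (y i) c) (e c') = S.B (pl D (y i) c) (pl D (y i) (c' i)) := by
    intro i c c'
    let Bh : V →+ ZMod 2 := AddMonoidHom.mk' (S.B (pl D (y i) c)) (S.B_add_right _)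
    show Bh (∑ j, pl D (y j) (c' j)) = _
    rw [map_sum, Finset.sum_eq_single i]
    · rfl
    · exact fun j _ hj => horth i j _ _ (Ne.symm hj)
    · simp
  have hone : ∀ i, S.B (y i) (D (y i)) = 1 := by
    intro i
    by_contra hne
    have h0 : S.B (y i) (D (y i)) = 0 := (zcases _).resolve_right hne
    refine hy_ne i (S.nondeg _ fun v => ?_)
    obtain ⟨c, rfl⟩ := e.surjective v
    show S.B (y i) (e c) = 0
    conv_lhs => arg 2; rw [← (pl_cases D (y i)).2.1]
    rw [hBpl, (pl_cases D (y i)).2.1]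
    obtain ⟨q0, q1, q2, q3⟩ := pl_cases D (y i)
    rcases pair_cases (c i) with e' | e' | e' | e' <;> rw [e']
    · rw [q0, S.B_zero_right]
    · rw [q1, S.B_self]
    · rw [q2, h0]
    · rw [q3, S.B_add_right, S.B_self, h0, add_zero]
  have hqy : ∀ i, S.q (y i) = 1 := by
    intro i
    have h1 : S.q (y i + D (y i)) = S.q (y i) := by rw [← hDD, h.D_mem.2, h.D_mem.2]
    rw [S.q_add, h.D_mem.2, hone] at h1
    revert h1; generalize S.q (y i) = t; revert t; decide
  let qv : ZMod 2 × ZMod 2 → ZMod 2 := fun c => c.1 + c.2 + c.1 * c.2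
  have hqpl : ∀ i c, S.q (pl D (y i) c) = qv c := by
    intro i c
    obtain ⟨q0, q1, q2, q3⟩ := pl_cases D (y i)
    rcases pair_cases c with rfl | rfl | rfl | rfl <;>
      simp only [q0, q1, q2, q3, S.q_zero, S.q_add, h.D_mem.2, hqy, hone] <;> rfl
  have hqe : ∀ c, S.q (e c) = ∑ i, qv (c i) := by
    intro c
    rw [he]
    simp only [Fin.sum_univ_four, S.q_add, hqpl, S.B_add_left]
    rw [horth 0 1 _ _ (by decide), horth 0 2 _ _ (by decide), horth 1 2 _ _ (by decide),
      horth 0 3 _ _ (by decide), horth 1 3 _ _ (by decide), horth 2 3 _ _ (by decide)]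
    ring
  -- the twist
  let tw : (Fin 4 → ZMod 2 × ZMod 2) → Fin 4 → ZMod 2 × ZMod 2 :=
    fun c i => ((c (i + 2)).1 + (c (i + 2)).2, (c (i + 2)).2)
  have htw : Function.Involutive tw := by
    intro c
    funext i
    simp only [tw, show i + 2 + 2 = i by revert i; decide, add_assoc, CharTwo.add_self_eq_zero, add_zero]
  let Sw : Equiv.Perm V := (e.symm.toEquiv.trans (htw.toPerm tw)).trans e.toEquiv
  have hSe : ∀ c, Sw (e c) = e (tw c) := fun c => by
    show e (tw (e.symm (e c))) = _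
    rw [e.symm_apply_apply]
  have hSadd : ∀ u w, Sw (u + w) = Sw u + Sw w := by
    intro u w
    obtain ⟨c, rfl⟩ := e.surjective u
    obtain ⟨c', rfl⟩ := e.surjective w
    rw [← map_add, hSe, hSe, hSe, ← map_add]
    congr 1
    funext i
    simp only [tw, Pi.add_apply, Prod.fst_add, Prod.snd_add, Prod.mk_add_mk]
    rw [add_add_add_comm]
  have hSS : ∀ v, Sw (Sw v) = v := by
    intro v
    obtain ⟨c, rfl⟩ := e.surjective v
    rw [hSe, hSe, htw]
  have hSiso : Sw ∈ S.Iso := by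
    refine ⟨hSadd, fun v => ?_⟩
    obtain ⟨c, rfl⟩ := e.surjective v
    rw [hSe, hqe, hqe]
    have hq : ∀ d : ZMod 2 × ZMod 2, qv (d.1 + d.2, d.2) = qv d := by decide
    simp only [tw, hq]
    exact Equiv.sum_comp (Equiv.addRight (2 : Fin 4)) fun i => qv (c i)
  have hDe : ∀ c, D (e c) = e (fun i => ((c i).2, (c i).1 + (c i).2)) := by
    intro c
    let Dh : V →+ V := AddMonoidHom.mk' D hDadd
    show Dh (∑ i, pl D (y i) (c i)) = _
    rw [map_sum, he]
    refine Finset.sum_congr rfl fun i _ => ?_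
    show D (pl D (y i) (c i)) = _
    obtain ⟨q0, q1, q2, q3⟩ := pl_cases D (y i)
    rcases pair_cases (c i) with e' | e' | e' | e' <;>
      simp [e', q0, q1, q2, q3, hD0, hDadd, hDD, show (1 : ZMod 2) + 1 = 0 from rfl, add_comm]
    rw [add_left_comm, S.two, add_zero]
  have hSD : ∀ v, Sw (D v) = D (D (Sw v)) := by
    intro v
    obtain ⟨c, rfl⟩ := e.surjective v
    rw [hDe, hSe, hSe, hDe, hDe]
    congr 1
    funext i
    simp only [tw]
    generalize c (i + 2) = d
    revert d; decide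
  -- the vectors with vanishing second coordinates
  have hflat : ∀ u, (∀ j, S.B u (y j) = 0) → Sw u = α fA (α fA u) := by
    intro u hu
    obtain ⟨c, rfl⟩ := e.surjective u
    have hc : ∀ j, (c j).2 = 0 := by
      intro j
      have hj := hu j
      rw [S.B_comm, ← (pl_cases D (y j)).2.1, hBpl] at hj
      obtain ⟨q0, q1, q2, q3⟩ := pl_cases D (y j)
      rcases pair_cases (c j) with e' | e' | e' | e' <;> rw [e'] <;> try rfl
      · rw [e', q1, q2, hone] at hj; exact absurd hj one_ne_zero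
      · rw [e', q1, q3, S.B_add_right, S.B_self, hone, zero_add] at hj; exact absurd hj one_ne_zero
    rw [hSe]
    let g : V →+ V := AddMonoidHom.mk' (fun v => α fA (α fA v)) fun a b => by
      simp only [(h.α_mem fA).1]
    show _ = g (e c)
    rw [he c, map_sum, he]
    refine (Equiv.sum_comp (Equiv.addRight (2 : Fin 4)) _).symm.trans (Finset.sum_congr rfl fun i _ => ?_)
    show pl D (y (i + 2)) (tw c (i + 2)) = α fA (α fA (pl D (y i) (c i)))
    simp only [tw, show i + 2 + 2 = i by revert i; decide, hc, add_zero]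
    have : y (i + 2) = α fA (α fA (y i)) := by rw [hy1, hy1, add_assoc]; rfl
    obtain ⟨q0, q1, -, -⟩ := pl_cases D (y (i + 2))
    obtain ⟨r0, r1, -, -⟩ := pl_cases D (y i)
    have hci : c i = ((c i).1, 0) := Prod.ext rfl (hc i)
    rw [hci]
    rw [this] at q0 q1 ⊢
    rcases zcases (c i).1 with e' | e' <;> rw [e'] <;> simp only [q0, q1, r0, r1, hα0]
  have hyy : ∀ i j, S.B (y i) (y j) = 0 := by
    intro i j
    by_cases hij : i = j
    · rw [hij, S.B_self]
    · have := horth i j (1, 0) (1, 0) hij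
      rwa [(pl_cases D (y i)).2.1, (pl_cases D (y j)).2.1] at this
  have hSy : ∀ i, Sw (y i) = y (i + 2) := fun i => by
    rw [hflat _ (hyy i), hy1, hy1, add_assoc]; rfl
  -- the elements commuting with the twist
  let K : Subgroup A6 :=
    { carrier := {a | ∀ v, Sw (α a v) = α a (Sw v)}
      one_mem' := fun v => by simp
      mul_mem' := fun {a b} ha hb v => by rw [hmulα, ha, hb, hmulα]
      inv_mem' := fun {a} ha v => by
        apply (α a).injective
        rw [← ha, ← hmulα, mul_inv_cancel, map_one, ← hmulα, mul_inv_cancel, map_one]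
        rfl }
  have hgenK : ∀ a, (∀ i, Sw (α a (y i)) = α a (Sw (y i))) → a ∈ K := by
    intro a ha v
    obtain ⟨c, rfl⟩ := e.surjective v
    let g1 : V →+ V := AddMonoidHom.mk' (fun v => Sw (α a v)) fun u w => by
      simp only [(h.α_mem a).1, hSadd]
    let g2 : V →+ V := AddMonoidHom.mk' (fun v => α a (Sw v)) fun u w => by
      simp only [(h.α_mem a).1, hSadd]
    show g1 (e c) = g2 (e c)
    rw [he, map_sum, map_sum]
    refine Finset.sum_congr rfl fun i _ => ?_
    show Sw (α a _) = α a (Sw _)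
    obtain ⟨q0, q1, q2, q3⟩ := pl_cases D (y i)
    rcases pair_cases (c i) with e' | e' | e' | e' <;> rw [e']
    · rw [q0, hα0, QV.iso_zero hSiso, hα0]
    · rw [q1, ha]
    · rw [q2, hcm, hSD, hSD, ha, hcm, hcm]
    · rw [q3, (h.α_mem a).1, hSadd, hSadd, (h.α_mem a).1, hcm, hSD, hSD, ha, hcm, hcm]
  have hSDn : ∀ (k : Fin 3) v, Sw ((D ^ (k : ℕ)) v) = (D ^ ((-k : Fin 3) : ℕ)) (Sw v) := by
    intro k v
    fin_cases k <;> simp [pow_succ, pow_zero, hSD, hD3, show (-2 : Fin 3) = 1 from rfl, show (-1 : Fin 3) = 2 from rfl]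
  have hxK : ∀ a : A6, ∀ κ : Fin 4 → Fin 3, (∀ i, α a (y i) = (D ^ (κ i : ℕ)) (y i)) →
      (∀ i, κ (i + 2) = - κ i) → a ∈ K := by
    intro a κ ha hκ
    refine hgenK a fun i => ?_
    rw [ha, hSDn, hSy, ha, hκ]
  have hx : xA ∈ K := hxK xA (fun i => (χ i).1) (fun i => (hPy i).1) fun i => (hχ2 i).1
  have hyK : yA ∈ K := hxK yA (fun i => (χ i).2) (fun i => (hPy i).2) fun i => (hχ2 i).2
  have hf : fA ∈ K := hgenK fA fun i => by
    rw [hy1, hSy, hSy, hy1, add_right_comm]
  have hr : rA ∈ K := by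
    refine hgenK rA fun i => ?_
    have hrB : ∀ u w, S.B (α rA u) w = S.B u (α rA w) := fun u w => by
      conv_lhs => rw [← QV.iso_B (h.α_mem rA), ← hmulα, rr, map_one, Equiv.Perm.one_apply]
    have hshift : ∀ m n, S.B (α rA (y (m + 1))) (D (y n)) = S.B (α rA (y m)) (D (y (n + 1))) := by
      intro m n
      have e1 : rA * fA = fA⁻¹ * rA := by
        calc rA * fA = fA⁻¹ * rA⁻¹ * (rA * fA * rA * fA) := by
              rw [rf, mul_one]
              exact (eq_inv_mul_iff_mul_eq.2 (eq_inv_of_mul_eq_one_left (by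
                calc fA * (rA * fA) * rA = fA * (rA * fA * rA * fA) * fA⁻¹ := by group
                  _ = 1 := by rw [rf, mul_one, mul_inv_cancel])))
          _ = _ := by rw [rf, mul_one, inv_eq_of_mul_eq_one_right rr]
      rw [← hy1 m, ← hmulα, e1, hmulα, ← QV.iso_B (h.α_mem fA), ← hmulα fA fA⁻¹, mul_inv_cancel,
        map_one, Equiv.Perm.one_apply, hcm, hy1]
    have hall : ∀ m n, S.B (α rA (y m)) (D (y n)) = S.B (α rA (y 0)) (D (y (m + n))) := by
      intro m n
      fin_cases m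
      · simp
      · rw [show (⟨1, by decide⟩ : Fin 4) = 0 + 1 from rfl, hshift, zero_add, add_comm]
      · rw [show (⟨2, by decide⟩ : Fin 4) = 0 + 1 + 1 from rfl, hshift, hshift]
        congr 3; revert n; decide
      · rw [show (⟨3, by decide⟩ : Fin 4) = 0 + 1 + 1 + 1 from rfl, hshift, hshift, hshift]
        congr 3; revert n; decide
    have hflat' : ∀ j, S.B (α rA (y i)) (y j) = 0 := by
      intro j
      have e1 : S.B (α rA (y j)) (D (y i)) = S.B (α rA (y i)) (D (y j)) := by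
        rw [hall, hall i j, add_comm]
      rw [hrB, hcm, S.B_comm, ← QV.iso_B h.D_mem, ← QV.iso_B h.D_mem, hD3, hDD (y j),
        S.B_add_right] at e1
      exact add_eq_right.1 e1
    have e2 : fA * (fA * rA) = rA * (fA * fA) := (by decide +kernel : fA * (fA * rA) = rA * (fA * fA))
    rw [hflat _ hflat', hSy, show y (i + 2) = α fA (α fA (y i)) by rw [hy1, hy1, add_assoc]; rfl,
      ← hmulα, ← hmulα, ← hmulα, ← hmulα, mul_assoc, mul_assoc, e2]
  have htop := A6_generated K hx hyK hf hr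
  exact ⟨Sw, hSiso, hSS, hSD, fun a v => (htop.symm ▸ Subgroup.mem_top a : a ∈ K) v⟩

end CfsgLib.ExtraNine
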